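import Cfsg.Agent.Lib.Recog.CoOneType.Frame
import Cfsg.Agent.Lib.Recog.CoOneFive.Change

/-!
The centralizer of the preimage of a maximal singular subspace and the elements permuting the coordinates
(owner: helper8).
-/

set_option autoImplicit false
set_option linter.unusedSectionVars false
set_option linter.unusedVariables false
set_option maxRecDepth 100000
set_option Elab.async false

namespace CfsgLib.Recog.CoOneCode

open CfsgLib.Recog.CoOneType CfsgLib.Recog.CoOneFive CfsgLib.ThreeTrans

/-- One coefficient. -/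
def sel (n i v : Nat) : Nat := bif n.testBit i then v else 0

/-- The map fixing the subspace spanned by `1, 4, 16, 64` pointwise attached to six bits. -/
def rmap (t : Nat) : List Nat :=
  [1, 2 ^^^ sel t 0 4 ^^^ sel t 1 16 ^^^ sel t 2 64, 4, 8 ^^^ sel t 0 1 ^^^ sel t 3 16 ^^^ sel t 4 64,
   16, 32 ^^^ sel t 1 1 ^^^ sel t 3 4 ^^^ sel t 5 64, 64, 128 ^^^ sel t 2 1 ^^^ sel t 4 4 ^^^ sel t 5 16]

/-- The candidates for the image of a complementary basis vector. -/
def cand (i : Nat) : List Nat :=
  (List.range 256).filter fun n => !qb n && (bb n 1 == (i == 0)) && (bb n 4 == (i == 1)) &&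
    (bb n 16 == (i == 2)) && (bb n 64 == (i == 3))

theorem cand_rmap : (cand 0).all (fun a => (cand 1).all fun b => bb a b || (cand 2).all fun c =>
    bb a c || bb b c || (cand 3).all fun d => bb a d || bb b d || bb c d ||
      (List.range 64).any fun t => rmap t == [1, a, 4, b, 16, c, 64, d]) = true := by decide +kernel

theorem cand_mem : (List.range 256).all (fun n => [0, 1, 2, 3].all fun i =>
    !(!qb n && (bb n 1 == (i == 0)) && (bb n 4 == (i == 1)) && (bb n 16 == (i == 2)) && (bb n 64 == (i == 3))) ||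
      (cand i).contains n) = true := by decide +kernel

/-- The elements of the subspace. -/
def wList : List Nat := (List.range 256).filter fun n => n &&& 85 == n

theorem wList_facts : wList.Nodup ∧ wList.length = 16 ∧ (∀ n ∈ wList, n < 256) := by decide +kernel

theorem rmap_facts : (∀ t < 64, (rmap t).length = 8) ∧ rmap 0 = one ∧
    (List.range 64).all (fun t => (List.range 64).all fun s => comp (rmap t) (rmap s) == rmap (t ^^^ s)) = true := by
  decide +kernel

theorem w_perp : (List.range 256).all (fun n => (!(n &&& 85 == n) || (!qb n && !bb n 1 && !bb n 4 && !bb n 16 &&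
    !bb n 64 && wList.all fun w => !bb n w)) &&
    ((bb n 1 || bb n 4 || bb n 16 || bb n 64) || n &&& 85 == n)) = true := by decide +kernel

/-- The swap of the second plane. -/
def flipOne : List Nat := [1, 2, 8, 4, 16, 32, 64, 128]

theorem flipOne_ok : Iso flipOne ∧ comp flipOne flipOne = one ∧
    (List.range 256).all (fun n => (n &&& 89 == n) == (app flipOne n &&& 85 == app flipOne n)) = true := by
  simp only [← isoB_iff]
  decide +kernel

/-- The product of the maps of a list of pairs. -/
def pmap (l : List (Nat × Nat)) : List Nat :=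
  l.foldr (fun de B => comp (comp (refl de.1) (refl de.2)) B) one

/-- Pairs realizing three transpositions and a transvection on the coordinates. -/
def levPairs : List (List (Nat × Nat)) :=
  [[(48, 27), (27, 53), (58, 11), (11, 63)], [(3, 45), (45, 23), (43, 7), (7, 63)],
   [(3, 13), (13, 163), (83, 13), (13, 243)], [(48, 28), (28, 50), (52, 12), (12, 54)]]

/-- Their maps. -/
def lev (g : Nat) : List Nat :=
  [[4, 8, 1, 2, 16, 32, 64, 128], [1, 2, 16, 32, 4, 8, 64, 128], [1, 2, 4, 8, 64, 128, 16, 32],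
   [5, 2, 4, 10, 16, 32, 64, 128]].getD g one

/-- The map of a word. -/
def levW (w : List Nat) : List Nat := w.foldr (fun g B => comp (lev g) B) one

theorem levPairs_ok : levPairs.all (fun l => l.all fun de => decide (de.1 < 256) && decide (de.2 < 256) &&
    qb de.1 && qb de.2 && bb de.1 de.2) = true ∧ (List.range 4).all (fun g =>
    pmap (levPairs.getD g []) == lev g && comp (lev g) (lev g) == one &&
    (List.range 256).all fun n => (n &&& 85 == n) == (app (lev g) n &&& 85 == app (lev g) n)) = true := by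
  decide +kernel

theorem lev_default {g : Nat} (hg : 4 ≤ g) : lev g = one := List.getD_eq_default _ _ hg

theorem lev_length (g : Nat) : (lev g).length = 8 := by
  rcases lt_or_ge g 4 with h | h
  · interval_cases g <;> rfl
  · rw [lev_default h]; rfl

theorem levW_length (w : List Nat) : (levW w).length = 8 := by
  induction w with
  | nil => rfl
  | cons g w ih => exact (length_comp _ _).trans ih

variable {G : Type*} [Group G] [Finite G] {z : G} {Q : Subgroup G} {p : G → Nat}

/-- The preimage of a coordinate subspace. -/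
def eSet (Q : Subgroup G) (p : G → Nat) (m : Nat) : Set G := {a | a ∈ Q ∧ p a &&& m = p a}

/-- The centralizer of that preimage. -/
def cGrp (Q : Subgroup G) (p : G → Nat) (m : Nat) : Subgroup G := Subgroup.centralizer (eSet Q p m)

theorem mem_cGrp {m : Nat} {c : G} : c ∈ cGrp Q p m ↔ ∀ a ∈ Q, p a &&& m = p a → Commute c a := by
  rw [cGrp, Subgroup.mem_centralizer_iff]
  exact ⟨fun h a ha hm => (h a ⟨ha, hm⟩).symm, fun h a ha => (h a ha.1 ha.2).symm⟩

theorem app_lev_iff {g : Nat} {n : Nat} (hn : n < 256) : n &&& 85 = n ↔ app (lev g) n &&& 85 = app (lev g) n := by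
  rcases lt_or_ge g 4 with h | h
  · have := (List.all_eq_true.1 levPairs_ok.2 g (List.mem_range.2 h))
    simp only [Bool.and_eq_true, List.all_eq_true, List.mem_range, beq_iff_eq] at this
    have := this.2 n hn
    rw [Bool.eq_iff_iff, beq_iff_eq, beq_iff_eq] at this
    exact this
  · rw [lev_default h, app_one n hn]

namespace Sys

variable (h : CfsgLib.Recog.CoOneType.Sys z Q p)
include h

theorem z_mem_eSet (m : Nat) : z ∈ eSet Q p m := ⟨h.large.z_mem, by rw [h.z0]; simp⟩

theorem commute_z_cGrp {m : Nat} {c : G} (hc : c ∈ cGrp Q p m) : Commute c z :=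
  mem_cGrp.1 hc z h.large.z_mem (by rw [h.z0]; simp)

/-- An element centralizing the preimage induces one of the sixty-four maps. -/
theorem cGrp_acts {c : G} (hc : c ∈ cGrp Q p 85) : ∃ t < 64, Acts z Q p c (rmap t) := by
  obtain ⟨A, hA, hcA⟩ := h.exists_acts (commute_z_cGrp h hc)
  obtain ⟨a0, a1, a2, a3, a4, a5, a6, a7, rfl⟩ :
      ∃ a0 a1 a2 a3 a4 a5 a6 a7, A = [a0, a1, a2, a3, a4, a5, a6, a7] := by
    match A, hA.1 with
    | [a0, a1, a2, a3, a4, a5, a6, a7], _ => exact ⟨a0, a1, a2, a3, a4, a5, a6, a7, rfl⟩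
  have fix : ∀ e, e &&& 85 = e → e < 256 → app [a0, a1, a2, a3, a4, a5, a6, a7] e = e := by
    intro e he hlt
    obtain ⟨a, ha, rfl⟩ := h.surj e hlt
    rw [← hcA.2 a ha, ← (mem_cGrp.1 hc a ha he).symm.eq, mul_inv_cancel_right]
  have f0 := fix 1 rfl (by norm_num)
  have f2 := fix 4 rfl (by norm_num)
  have f4 := fix 16 rfl (by norm_num)
  have f6 := fix 64 rfl (by norm_num)
  have v1 : app [a0, a1, a2, a3, a4, a5, a6, a7] 2 = a1 := by simp [app, term, Nat.testBit, Nat.shiftRight_eq_div_pow]
  have v3 : app [a0, a1, a2, a3, a4, a5, a6, a7] 8 = a3 := by simp [app, term, Nat.testBit, Nat.shiftRight_eq_div_pow]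
  have v5 : app [a0, a1, a2, a3, a4, a5, a6, a7] 32 = a5 := by simp [app, term, Nat.testBit, Nat.shiftRight_eq_div_pow]
  have v7 : app [a0, a1, a2, a3, a4, a5, a6, a7] 128 = a7 := by simp [app, term, Nat.testBit, Nat.shiftRight_eq_div_pow]
  have g0 : a0 = 1 := by simpa [app, term, Nat.testBit, Nat.shiftRight_eq_div_pow] using f0
  have g2 : a2 = 4 := by simpa [app, term, Nat.testBit, Nat.shiftRight_eq_div_pow] using f2
  have g4 : a4 = 16 := by simpa [app, term, Nat.testBit, Nat.shiftRight_eq_div_pow] using f4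
  have g6 : a6 = 64 := by simpa [app, term, Nat.testBit, Nat.shiftRight_eq_div_pow] using f6
  have key : ∀ x e, x < 256 → e < 256 → e &&& 85 = e →
      bb (app [a0, a1, a2, a3, a4, a5, a6, a7] x) e = bb x e := by
    intro x e hx he hm
    conv_lhs => rw [← fix e hm he]
    exact hA.bb_app hx he
  have mem : ∀ i x a, i ∈ [0, 1, 2, 3] → x < 256 → qb x = false → bb x 1 = (i == 0) → bb x 4 = (i == 1) →
      bb x 16 = (i == 2) → bb x 64 = (i == 3) → app [a0, a1, a2, a3, a4, a5, a6, a7] x = a → a ∈ cand i := by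
    intro i x a hi hx q b0 b1 b2 b3 e
    subst e
    obtain ⟨hl, hq⟩ := hA.2 x hx
    have := List.all_eq_true.1 (List.all_eq_true.1 cand_mem _ (List.mem_range.2 hl)) i hi
    rw [hq, q, key x 1 hx (by norm_num) rfl, key x 4 hx (by norm_num) rfl, key x 16 hx (by norm_num) rfl,
      key x 64 hx (by norm_num) rfl, b0, b1, b2, b3] at this
    simpa using this
  have m0 := mem 0 2 a1 (by simp) (by norm_num) (by decide +kernel) (by decide +kernel) (by decide +kernel)
    (by decide +kernel) (by decide +kernel) v1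
  have m1 := mem 1 8 a3 (by simp) (by norm_num) (by decide +kernel) (by decide +kernel) (by decide +kernel)
    (by decide +kernel) (by decide +kernel) v3
  have m2 := mem 2 32 a5 (by simp) (by norm_num) (by decide +kernel) (by decide +kernel) (by decide +kernel)
    (by decide +kernel) (by decide +kernel) v5
  have m3 := mem 3 128 a7 (by simp) (by norm_num) (by decide +kernel) (by decide +kernel) (by decide +kernel)
    (by decide +kernel) (by decide +kernel) v7
  have orth : ∀ x y, x < 256 → y < 256 → bb x y = false →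
      bb (app [a0, a1, a2, a3, a4, a5, a6, a7] x) (app [a0, a1, a2, a3, a4, a5, a6, a7] y) = false :=
    fun x y hx hy e => (hA.bb_app hx hy).trans e
  have o01 := orth 2 8 (by norm_num) (by norm_num) (by decide +kernel)
  have o02 := orth 2 32 (by norm_num) (by norm_num) (by decide +kernel)
  have o12 := orth 8 32 (by norm_num) (by norm_num) (by decide +kernel)
  have o03 := orth 2 128 (by norm_num) (by norm_num) (by decide +kernel)
  have o13 := orth 8 128 (by norm_num) (by norm_num) (by decide +kernel)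
  have o23 := orth 32 128 (by norm_num) (by norm_num) (by decide +kernel)
  rw [v1, v3] at o01; rw [v1, v5] at o02; rw [v3, v5] at o12
  rw [v1, v7] at o03; rw [v3, v7] at o13; rw [v5, v7] at o23
  have hh := List.all_eq_true.1 cand_rmap _ m0
  replace hh := List.all_eq_true.1 hh _ m1
  rw [o01, Bool.false_or] at hh
  replace hh := List.all_eq_true.1 hh _ m2
  rw [o02, o12, Bool.false_or, Bool.false_or] at hh
  replace hh := List.all_eq_true.1 hh _ m3
  rw [o03, o13, o23] at hh
  simp only [Bool.false_or, List.any_eq_true, List.mem_range, beq_iff_eq] at hh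
  obtain ⟨t, ht, e⟩ := hh
  refine ⟨t, ht, ?_⟩
  rw [e, ← g0, ← g2, ← g4, ← g6]
  exact hcA

/-- The part of the centralizer in the extraspecial group. -/
theorem mem_cGrp_q {a : G} (ha : a ∈ Q) : a ∈ cGrp Q p 85 ↔ p a &&& 85 = p a := by
  have hw := List.all_eq_true.1 w_perp (p a) (List.mem_range.2 (h.lt a ha))
  simp only [Bool.and_eq_true, Bool.or_eq_true, Bool.not_eq_true', beq_iff_eq, beq_eq_false_iff_ne,
    List.all_eq_true] at hw
  constructor
  · intro hc
    rcases hw.2 with hb | e
    · exfalso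
      have key : ∀ e, e &&& 85 = e → e < 256 → bb (p a) e = false := by
        intro e he hlt
        obtain ⟨b, hb', rfl⟩ := h.surj e hlt
        exact (h.commute_iff ha hb').1 (mem_cGrp.1 hc b hb' he)
      rw [key 1 rfl (by norm_num), key 4 rfl (by norm_num), key 16 rfl (by norm_num),
        key 64 rfl (by norm_num)] at hb
      simp at hb
    · exact e
  · intro e
    refine mem_cGrp.2 fun b hb hm => (h.commute_iff ha hb).2 ?_
    rcases hw.1 with h' | h'
    · exact absurd e h'
    · exact h'.2 _ (List.mem_filter.2 ⟨List.mem_range.2 (h.lt b hb), beq_iff_eq.2 hm⟩)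

theorem card_q_part : Nat.card {a : G // a ∈ Q ∧ a ∈ cGrp Q p 85} = 32 := by
  rw [Nat.card_congr (Equiv.subtypeEquivRight fun a => ?_), card_fibre h wList_facts.1 wList_facts.2.2,
    wList_facts.2.1]
  constructor
  · rintro ⟨ha, hc⟩
    exact ⟨ha, List.mem_filter.2 ⟨List.mem_range.2 (h.lt a ha), beq_iff_eq.2 ((mem_cGrp_q h ha).1 hc)⟩⟩
  · rintro ⟨ha, hc⟩
    exact ⟨ha, (mem_cGrp_q h ha).2 (beq_iff_eq.1 (List.mem_filter.1 hc).2)⟩

theorem card_le : Nat.card (cGrp Q p 85) ≤ 2048 := by
  classical
  haveI := Fintype.ofFinite (cGrp Q p 85)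
  choose f hf hfA using fun c : cGrp Q p 85 => cGrp_acts h c.2
  haveI := Fintype.ofFinite {a : G // a ∈ Q ∧ a ∈ cGrp Q p 85}
  have hfib : ∀ n ∈ (Finset.univ : Finset (cGrp Q p 85)).image f,
      ((Finset.univ : Finset (cGrp Q p 85)).filter fun c => f c = n).card ≤ 32 := by
    intro n hn
    obtain ⟨c0, -, rfl⟩ := Finset.mem_image.1 hn
    rw [← card_q_part h, Nat.card_eq_fintype_card, ← Finset.card_univ]
    have hmem : ∀ c : cGrp Q p 85, f c = f c0 →
        (c0 : G)⁻¹ * c ∈ Q ∧ (c0 : G)⁻¹ * c ∈ cGrp Q p 85 := fun c e =>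
      ⟨h.inv_mul_mem (hfA c0) (e ▸ hfA c), Subgroup.mul_mem _ (Subgroup.inv_mem _ c0.2) c.2⟩
    refine Finset.card_le_card_of_injOn
      (fun c => if e : f c = f c0 then ⟨_, hmem c e⟩ else ⟨1, Q.one_mem, one_mem _⟩)
      (fun _ _ => Finset.mem_univ _) ?_
    intro c hc c' hc' e
    have h1 := (Finset.mem_filter.1 hc).2
    have h2 := (Finset.mem_filter.1 hc').2
    simp only [dif_pos h1, dif_pos h2, Subtype.mk.injEq] at e
    exact Subtype.ext (mul_left_cancel e)
  have hle := Finset.card_le_mul_card_image (Finset.univ : Finset (cGrp Q p 85)) 32 hfib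
  have hsub : (Finset.univ : Finset (cGrp Q p 85)).image f ⊆ Finset.range 64 := by
    intro n hn
    obtain ⟨c, -, rfl⟩ := Finset.mem_image.1 hn
    exact Finset.mem_range.2 (hf c)
  have := Finset.card_le_card hsub
  rw [Finset.card_range] at this
  rw [Nat.card_eq_fintype_card, ← Finset.card_univ]
  omega

/-- The same bound for the other family. -/
theorem card_le' : Nat.card (cGrp Q p 89) ≤ 2048 := by
  obtain ⟨hS, hSS, hm⟩ := flipOne_ok
  have hsys := sys_change h hS hS hSS hSS
  have e : cGrp Q p 89 = cGrp Q (fun a => app flipOne (p a)) 85 := by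
    have : eSet Q p 89 = eSet Q (fun a => app flipOne (p a)) 85 := by
      ext a
      refine and_congr_right fun ha => ?_
      have := List.all_eq_true.1 hm (p a) (List.mem_range.2 (h.lt a ha))
      rw [beq_iff_eq, Bool.eq_iff_iff, beq_iff_eq, beq_iff_eq] at this
      exact this
    rw [cGrp, cGrp, this]
  rw [e]
  exact card_le hsys

/-- Lifts of products of pairs. -/
theorem acts_pairs : ∀ (l : List (Nat × Nat)), (l.all fun de => decide (de.1 < 256) && decide (de.2 < 256) &&
    qb de.1 && qb de.2 && bb de.1 de.2) = true → (pmap l).length = 8 ∧ ∃ c, Acts z Q p c (pmap l) := by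
  intro l
  induction l with
  | nil => exact fun _ => ⟨rfl, 1, h.acts_one⟩
  | cons de l ih =>
    intro hl
    rw [List.all_cons, Bool.and_eq_true] at hl
    obtain ⟨hlen, d, hd⟩ := ih hl.2
    simp only [Bool.and_eq_true, decide_eq_true_eq] at hl
    obtain ⟨⟨⟨⟨h1, h2⟩, h3⟩, h4⟩, h5⟩ := hl.1
    obtain ⟨c, hc⟩ := h.gen de.1 de.2 h1 h2 h3 h4 h5
    exact ⟨(length_comp _ _).trans hlen, c * d, h.acts_mul hlen hc hd⟩

theorem exists_lev (g : Nat) : ∃ c, Acts z Q p c (lev g) := by
  rcases lt_or_ge g 4 with hg | hg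
  · have h1 := List.all_eq_true.1 levPairs_ok.2 g (List.mem_range.2 hg)
    simp only [Bool.and_eq_true, beq_iff_eq] at h1
    rw [← h1.1.1]
    refine (acts_pairs h _ (List.all_eq_true.1 levPairs_ok.1 _ ?_)).2
    rw [List.getD_eq_getElem _ _ (by exact hg)]
    exact List.getElem_mem _
  · exact ⟨1, lev_default hg ▸ h.acts_one⟩

theorem exists_levW (w : List Nat) : ∃ c, Acts z Q p c (levW w) := by
  induction w with
  | nil => exact ⟨1, h.acts_one⟩
  | cons g w ih =>
    obtain ⟨d, hd⟩ := ih
    obtain ⟨c, hc⟩ := exists_lev h g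
    exact ⟨c * d, h.acts_mul (levW_length w) hc hd⟩

/-- Elements preserving the subspace normalize the centralizer. -/
theorem conj_cGrp {c : G} {L : List Nat} (hc : Acts z Q p c L)
    (hL : ∀ n < 256, n &&& 85 = n ↔ app L n &&& 85 = app L n) {x : G} :
    x ∈ cGrp Q p 85 ↔ c * x * c⁻¹ ∈ cGrp Q p 85 := by
  constructor
  · intro hx
    refine mem_cGrp.2 fun a ha hm => ?_
    have hb : c⁻¹ * a * c ∈ Q := by
      have := h.large.conj_mem hc.1.inv_left ha
      rwa [inv_inv] at this
    have hp : app L (p (c⁻¹ * a * c)) = p a := by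
      rw [← hc.2 _ hb]
      congr 1
      group
    have hcm := mem_cGrp.1 hx _ hb ((hL _ (h.lt _ hb)).2 (by rw [hp, hm]))
    refine mul_inv_eq_iff_eq_mul.1 ?_
    calc c * x * c⁻¹ * a * (c * x * c⁻¹)⁻¹ = c * (x * (c⁻¹ * a * c) * x⁻¹) * c⁻¹ := by group
      _ = a := by rw [hcm.eq]; group
  · intro hx
    refine mem_cGrp.2 fun a ha hm => ?_
    have hb : c * a * c⁻¹ ∈ Q := h.large.conj_mem hc.1 ha
    have hcm := mem_cGrp.1 hx _ hb (by rw [hc.2 a ha]; exact (hL _ (h.lt a ha)).1 hm)
    refine mul_inv_eq_iff_eq_mul.1 ?_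
    calc x * a * x⁻¹ = c⁻¹ * (c * x * c⁻¹ * (c * a * c⁻¹) * (c * x * c⁻¹)⁻¹) * c := by group
      _ = a := by rw [hcm.eq]; group

end Sys

end CfsgLib.Recog.CoOneCode
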