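import Cfsg.Agent.Lib.Recog.CoOneCode.Parity
import Cfsg.Agent.Lib.Recog.CoOneCode.Levi
import Cfsg.Prelude.Def_Transfer

/-!
The centralizer of the preimage is elementary abelian of order `2 ^ 11` (owner: helper8).
-/

set_option autoImplicit false
set_option linter.unusedSectionVars false
set_option linter.unusedVariables false
set_option quotPrecheck false
set_option maxRecDepth 100000
set_option Elab.async false

namespace CfsgLib.Recog.CoOneCode

open CfsgLib.Recog.CoOneType CfsgLib.Recog.CoOneFive CfsgLib.ThreeTrans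

/-- The action of the transpositions on the six bits. -/
def bperm (g t : Nat) : Nat := (([[0, 3, 4, 1, 2, 5], [1, 0, 2, 3, 5, 4], [0, 2, 1, 4, 3, 5]].getD g []).getD t t)

/-- The action of a word. -/
def bpermW (w : List Nat) (t : Nat) : Nat := w.foldr (fun g s => bperm g s) t

/-- Words bringing the two basic pairs to every pair. -/
def pairWords : List (Nat × List Nat) :=
  [(0, []), (0, [0]), (0, [0, 1, 2]), (0, [0, 1, 2, 0]), (0, [0, 1, 2, 1, 0]), (0, [1, 0]), (0, [1, 2]),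
   (0, [1, 2, 0]), (0, [1, 2, 1, 0]), (0, [2]), (0, [2, 0]), (0, [2, 1, 0]), (1, []), (1, [0, 1]), (1, [1])]

theorem bperm_facts : (List.range 3).all (fun g => (List.range 6).all fun t => decide (bperm g t < 6) &&
      (comp (lev g) (rmap (2 ^ bperm g t)) == comp (rmap (2 ^ t)) (lev g))) = true ∧
    (List.range 6).all (fun s => (List.range 6).all fun t => s == t || pairWords.any fun e =>
      let b := bif e.1 == 0 then 1 else 5
      (e.2.all fun g => decide (g < 3)) && ((bpermW e.2 0 == s && bpermW e.2 b == t) ||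
        (bpermW e.2 0 == t && bpermW e.2 b == s))) = true ∧
    bperm 0 1 = 3 ∧ bperm 0 2 = 4 ∧ rmap 1 = rho 4 ∧ rmap 2 = rho 16 ∧ rmap 4 = rho 64 ∧ rmap 32 = m23 ∧
    (List.range 256).all (fun n => !(n &&& 85 == n) || (fixU.contains n && !bb n 1 && !bb 4 n && !bb 16 n &&
      !bb 64 n && !qb n)) = true ∧
    4 ∈ sect ∧ 16 ∈ sect ∧ 64 ∈ sect ∧ qb 4 = false ∧ qb 16 = false ∧ qb 64 = false ∧ bb 4 16 = false ∧
    1 &&& 85 = 1 := by
  decide +kernel

variable {G : Type*} [Group G] [Finite G] {z : G} {Q : Subgroup G} {p : G → Nat} {k u : G}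

/-- All lifts in the centralizer of the two bits commute. -/
def Comm (z : G) (Q : Subgroup G) (p : G → Nat) (s t : Nat) : Prop :=
  ∀ x ∈ cGrp Q p 85, ∀ y ∈ cGrp Q p 85, Acts z Q p x (rmap (2 ^ s)) → Acts z Q p y (rmap (2 ^ t)) → Commute x y

namespace Sys

variable (h : CfsgLib.Recog.CoOneType.Sys z Q p)
include h

theorem q_commute {a x : G} (ha : a ∈ Q) (hac : a ∈ cGrp Q p 85) (hx : x ∈ cGrp Q p 85) : Commute x a :=
  mem_cGrp.1 hx a ha ((mem_cGrp_q h ha).1 hac)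

theorem sq_q {a : G} (ha : a ∈ Q) (hac : a ∈ cGrp Q p 85) : a * a = 1 := by
  have hw := List.all_eq_true.1 w_perp (p a) (List.mem_range.2 (h.lt a ha))
  simp only [(mem_cGrp_q h ha).1 hac, beq_self_eq_true, Bool.not_true, Bool.false_or, Bool.and_eq_true,
    Bool.not_eq_true', Bool.or_true, and_true] at hw
  rw [h.sq a ha, hw.1.1.1.1.1]
  rfl

/-- One pair of lifts decides. -/
theorem comm_of_lifts {s t : Nat} {x0 y0 : G} (hx0 : x0 ∈ cGrp Q p 85) (hy0 : y0 ∈ cGrp Q p 85)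
    (hxA : Acts z Q p x0 (rmap (2 ^ s))) (hyA : Acts z Q p y0 (rmap (2 ^ t))) (hc : Commute x0 y0) :
    Comm z Q p s t := by
  intro x hx y hy hx' hy'
  obtain ⟨a, ha, rfl⟩ : ∃ a, (a ∈ Q ∧ a ∈ cGrp Q p 85) ∧ x = x0 * a :=
    ⟨x0⁻¹ * x, ⟨h.inv_mul_mem hxA hx', Subgroup.mul_mem _ (Subgroup.inv_mem _ hx0) hx⟩, by group⟩
  obtain ⟨b, hb, rfl⟩ : ∃ b, (b ∈ Q ∧ b ∈ cGrp Q p 85) ∧ y = y0 * b :=
    ⟨y0⁻¹ * y, ⟨h.inv_mul_mem hyA hy', Subgroup.mul_mem _ (Subgroup.inv_mem _ hy0) hy⟩, by group⟩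
  refine (hc.mul_right (q_commute h hb.1 hb.2 hx0)).mul_left ?_
  exact (q_commute h ha.1 ha.2 hy).symm

theorem comm_symm {s t : Nat} (hc : Comm z Q p s t) : Comm z Q p t s :=
  fun x hx y hy hx' hy' => (hc y hy x hx hy' hx').symm

theorem comm_perm {g s t : Nat} (hg : g < 3) (hs : s < 6) (ht : t < 6) (hc : Comm z Q p s t) :
    Comm z Q p (bperm g s) (bperm g t) := by
  obtain ⟨c, hcA⟩ := exists_lev h g
  intro x hx y hy hx' hy'
  have e := List.all_eq_true.1 bperm_facts.1 g (List.mem_range.2 hg)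
  simp only [List.all_eq_true, List.mem_range, Bool.and_eq_true, decide_eq_true_eq, beq_iff_eq] at e
  have hL := fun n (hn : n < 256) => app_lev_iff (g := g) hn
  have hlen : ∀ r < 6, (rmap (2 ^ r)).length = 8 := fun r hr => rmap_facts.1 _ (by interval_cases r <;> norm_num)
  have h1 := h.acts_conj (lev_length g) (hlen _ (e s hs).1) (hlen s hs) hcA hx' (e s hs).2
  have h2 := h.acts_conj (lev_length g) (hlen _ (e t ht).1) (hlen t ht) hcA hy' (e t ht).2
  exact (Commute.conj_iff c).1 (hc _ ((conj_cGrp h hcA hL).1 hx) _ ((conj_cGrp h hcA hL).1 hy) h1 h2)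

theorem comm_word {s t : Nat} (hs : s < 6) (ht : t < 6) (hc : Comm z Q p s t) :
    ∀ w : List Nat, (∀ g ∈ w, g < 3) →
      bpermW w s < 6 ∧ bpermW w t < 6 ∧ Comm z Q p (bpermW w s) (bpermW w t) := by
  intro w
  induction w with
  | nil => exact fun _ => ⟨hs, ht, hc⟩
  | cons g w ih =>
    intro hw
    obtain ⟨h1, h2, h3⟩ := ih fun x hx => hw x (List.mem_cons_of_mem _ hx)
    have hg := hw g (List.mem_cons_self ..)
    have e := List.all_eq_true.1 bperm_facts.1 g (List.mem_range.2 hg)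
    simp only [List.all_eq_true, List.mem_range, Bool.and_eq_true, decide_eq_true_eq] at e
    exact ⟨(e _ h1).1, (e _ h2).1, comm_perm h hg h1 h2 h3⟩

end Sys

/-- An element inducing the given six bits, from six lifts. -/
def rprod (r : Nat → G) (t : Nat) : G :=
  (bif t.testBit 0 then r 0 else 1) * (bif t.testBit 1 then r 1 else 1) * (bif t.testBit 2 then r 2 else 1) *
    (bif t.testBit 3 then r 3 else 1) * (bif t.testBit 4 then r 4 else 1) * (bif t.testBit 5 then r 5 else 1)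

theorem rprod_bits : ∀ t < 64, sel t 0 1 ^^^ sel t 1 2 ^^^ sel t 2 4 ^^^ sel t 3 8 ^^^ sel t 4 16 ^^^ sel t 5 32 = t := by
  decide +kernel

namespace Sys

variable (h : CfsgLib.Recog.CoOneType.Sys z Q p)
include h

theorem acts_rprod {r : Nat → G} (hr : ∀ i < 6, Acts z Q p (r i) (rmap (2 ^ i))) {t : Nat} (ht : t < 64) :
    Acts z Q p (rprod r t) (rmap t) := by
  have one' : ∀ (i : Nat) (c : Bool), i < 6 →
      Acts z Q p (bif c then r i else 1) (rmap (bif c then 2 ^ i else 0)) := by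
    intro i c hi
    cases c
    · rw [cond_false, cond_false, rmap_facts.2.1]; exact h.acts_one
    · exact hr i hi
  have mul' : ∀ {a b : G} {x y : Nat}, x < 64 → y < 64 → Acts z Q p a (rmap x) → Acts z Q p b (rmap y) →
      Acts z Q p (a * b) (rmap (x ^^^ y)) := by
    intro a b x y hx hy ha hb
    have e := List.all_eq_true.1 (List.all_eq_true.1 rmap_facts.2.2 x (List.mem_range.2 hx)) y
      (List.mem_range.2 hy)
    rw [beq_iff_eq] at e
    exact e ▸ h.acts_mul (rmap_facts.1 y hy) ha hb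
  have lt' : ∀ (i : Nat) (c : Bool), i < 6 → (bif c then 2 ^ i else 0) < 2 ^ 6 := by
    intro i c hi
    cases c
    · norm_num
    · exact Nat.pow_lt_pow_right (by norm_num) hi
  have l1 := Nat.xor_lt_two_pow (lt' 0 (t.testBit 0) (by norm_num)) (lt' 1 (t.testBit 1) (by norm_num))
  have l2 := Nat.xor_lt_two_pow l1 (lt' 2 (t.testBit 2) (by norm_num))
  have l3 := Nat.xor_lt_two_pow l2 (lt' 3 (t.testBit 3) (by norm_num))
  have l4 := Nat.xor_lt_two_pow l3 (lt' 4 (t.testBit 4) (by norm_num))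
  have e := mul' l4 (lt' 5 _ (by norm_num)) (mul' l3 (lt' 4 _ (by norm_num)) (mul' l2 (lt' 3 _ (by norm_num))
    (mul' l1 (lt' 2 _ (by norm_num)) (mul' (lt' 0 _ (by norm_num)) (lt' 1 _ (by norm_num))
      (one' 0 (t.testBit 0) (by norm_num)) (one' 1 (t.testBit 1) (by norm_num)))
      (one' 2 (t.testBit 2) (by norm_num))) (one' 3 (t.testBit 3) (by norm_num)))
      (one' 4 (t.testBit 4) (by norm_num))) (one' 5 (t.testBit 5) (by norm_num))
  rw [show rmap t = rmap (sel t 0 (2 ^ 0) ^^^ sel t 1 (2 ^ 1) ^^^ sel t 2 (2 ^ 2) ^^^ sel t 3 (2 ^ 3) ^^^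
    sel t 4 (2 ^ 4) ^^^ sel t 5 (2 ^ 5)) from (congrArg rmap (rprod_bits t ht)).symm]
  exact e

theorem rprod_mem {H : Subgroup G} {r : Nat → G} (hr : ∀ i < 6, r i ∈ H) (t : Nat) : rprod r t ∈ H := by
  have one' : ∀ (i : Nat) (c : Bool), i < 6 → (bif c then r i else 1) ∈ H := by
    intro i c hi
    cases c
    exacts [one_mem _, hr i hi]
  exact mul_mem (mul_mem (mul_mem (mul_mem (mul_mem (one' 0 _ (by norm_num)) (one' 1 _ (by norm_num)))
    (one' 2 _ (by norm_num))) (one' 3 _ (by norm_num))) (one' 4 _ (by norm_num))) (one' 5 _ (by norm_num))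

/-- Every element is a product of lifts and an element of `Q`. -/
theorem decomp {r : Nat → G} (hr : ∀ i < 6, r i ∈ cGrp Q p 85) (hrA : ∀ i < 6, Acts z Q p (r i) (rmap (2 ^ i)))
    {x : G} (hx : x ∈ cGrp Q p 85) :
    ∃ t < 64, ∃ a, (a ∈ Q ∧ a ∈ cGrp Q p 85) ∧ x = rprod r t * a := by
  obtain ⟨t, ht, hxA⟩ := cGrp_acts h hx
  exact ⟨t, ht, _, ⟨h.inv_mul_mem (acts_rprod h hrA ht) hxA,
    mul_mem (inv_mem (rprod_mem h hr t)) hx⟩, (mul_inv_cancel_left _ _).symm⟩

end Sys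

namespace Frame

variable (F : CfsgLib.Recog.CoOneType.Frame z Q p k)
include F

local notation "X" => k * z * k⁻¹
local notation "P" => Q.map (MulAut.conj k).toMonoidHom
local notation "sS" => sOf z Q p k

theorem wfix {a : G} (ha : a ∈ Q) (hm : p a &&& 85 = p a) :
    p a ∈ fixU ∧ bb (p a) 1 = false ∧ bb 4 (p a) = false ∧ bb 16 (p a) = false ∧ bb 64 (p a) = false := by
  obtain ⟨-, -, -, -, -, -, -, -, hw, -⟩ := bperm_facts
  have h := List.all_eq_true.1 hw (p a) (List.mem_range.2 (F.sys.lt a ha))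
  simp only [hm, beq_self_eq_true, Bool.not_true, Bool.false_or, Bool.and_eq_true, Bool.not_eq_true',
    List.contains_iff_mem] at h
  exact ⟨h.1.1.1.1.1, h.1.1.1.1.2, h.1.1.1.2, h.1.1.2, h.1.2⟩

theorem sOf_mem {v : Nat} (hv : v = 4 ∨ v = 16 ∨ v = 64) :
    v ∈ sect ∧ sS v ∈ cGrp Q p 85 ∧ sS v * sS v = 1 := by
  obtain ⟨-, -, -, -, -, -, -, -, -, h4, h16, h64, q4, q16, q64, -, -⟩ := bperm_facts
  have hv' : v ∈ sect := by rcases hv with rfl | rfl | rfl <;> assumption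
  obtain ⟨h1, h2, h3⟩ := F.sOf_spec hv'
  refine ⟨hv', mem_cGrp.2 fun a ha hm => ?_, ?_⟩
  · obtain ⟨-, b1, b4, b16, b64⟩ := wfix F ha hm
    have hb : bb v (p a) = false := by rcases hv with rfl | rfl | rfl <;> assumption
    have e := F.commutator_eq hv' h1 h2 h3 ha b1
    rw [hb] at e
    exact mul_inv_eq_iff_eq_mul.1 (mul_inv_eq_one.1 (e.trans (one_mul (1 : G))))
  · rw [F.sq_eq hv' h1 h2 h3, show qb v = false by rcases hv with rfl | rfl | rfl <;> assumption]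
    rfl

variable (hu : Good z Q p k u)
include hu

theorem good_mem : u ∈ cGrp Q p 85 :=
  mem_cGrp.2 fun a ha hm => hu.comm_q a ha (wfix F ha hm).1

theorem exists_lifts : ∃ r : Nat → G, r 0 = sS 4 ∧ r 1 = sS 16 ∧ r 2 = sS 64 ∧ r 5 = u ∧
    ∀ i < 6, r i ∈ cGrp Q p 85 ∧ Acts z Q p (r i) (rmap (2 ^ i)) ∧ r i * r i = 1 := by
  obtain ⟨hb, -, p1, p2, e0, e1, e2, e5, -⟩ := bperm_facts
  obtain ⟨c, hc⟩ := Sys.exists_lev F.sys 0
  have hL := fun n (hn : n < 256) => app_lev_iff (g := 0) hn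
  have hperm := List.all_eq_true.1 hb 0 (by decide)
  simp only [List.all_eq_true, List.mem_range, Bool.and_eq_true, decide_eq_true_eq, beq_iff_eq] at hperm
  have conjr : ∀ i j, i < 6 → j < 6 → bperm 0 j = i → ∀ x ∈ cGrp Q p 85, Acts z Q p x (rmap (2 ^ i)) → x * x = 1 →
      c * x * c⁻¹ ∈ cGrp Q p 85 ∧ Acts z Q p (c * x * c⁻¹) (rmap (2 ^ j)) ∧ c * x * c⁻¹ * (c * x * c⁻¹) = 1 := by
    intro i j hi hj e x hx hxA hxx
    refine ⟨(Sys.conj_cGrp F.sys hc hL).1 hx, ?_, conj_sq_one hxx c⟩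
    have hlen : ∀ r < 6, (rmap (2 ^ r)).length = 8 := fun r hr => rmap_facts.1 _ (by interval_cases r <;> norm_num)
    have := (hperm j hj).2
    rw [e] at this
    exact F.sys.acts_conj (lev_length 0) (hlen i hi) (hlen j hj) hc hxA this
  have base : ∀ v i, (v = 4 ∨ v = 16 ∨ v = 64) → rmap (2 ^ i) = rho v →
      sS v ∈ cGrp Q p 85 ∧ Acts z Q p (sS v) (rmap (2 ^ i)) ∧ sS v * sS v = 1 := by
    intro v i hv e
    obtain ⟨hv', h1, h2⟩ := sOf_mem F hv
    exact ⟨h1, e ▸ (F.sOf_spec hv').2.2, h2⟩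
  have b0 := base 4 0 (Or.inl rfl) e0
  have b1 := base 16 1 (Or.inr (Or.inl rfl)) e1
  have b2 := base 64 2 (Or.inr (Or.inr rfl)) e2
  have b5 : u ∈ cGrp Q p 85 ∧ Acts z Q p u (rmap (2 ^ 5)) ∧ u * u = 1 :=
    ⟨good_mem F hu, (show rmap (2 ^ 5) = m23 from e5) ▸ hu.acts, hu.sq⟩
  have b3 := conjr 1 3 (by norm_num) (by norm_num) (by decide +kernel) _ b1.1 b1.2.1 b1.2.2
  have b4 := conjr 2 4 (by norm_num) (by norm_num) (by decide +kernel) _ b2.1 b2.2.1 b2.2.2
  refine ⟨fun i => [sS 4, sS 16, sS 64, c * sS 16 * c⁻¹, c * sS 64 * c⁻¹, u].getD i 1, rfl, rfl, rfl, rfl,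
    fun i hi => ?_⟩
  interval_cases i
  exacts [b0, b1, b2, b3, b4, b5]

theorem comm_all {s t : Nat} (hs : s < 6) (ht : t < 6) : Comm z Q p s t := by
  obtain ⟨-, hpw, -, -, e0, e1, -, e5, -, h4, h16, -, -, -, -, b416, -⟩ := bperm_facts
  obtain ⟨-, m0, -⟩ := sOf_mem F (Or.inl rfl : (4 : Nat) = 4 ∨ (4 : Nat) = 16 ∨ (4 : Nat) = 64)
  obtain ⟨-, m1, -⟩ := sOf_mem F (Or.inr (Or.inl rfl) : (16 : Nat) = 4 ∨ (16 : Nat) = 16 ∨ (16 : Nat) = 64)
  obtain ⟨a1, a2, a3⟩ := F.sOf_spec h4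
  obtain ⟨d1, d2, d3⟩ := F.sOf_spec h16
  have base1 : Comm z Q p 0 1 := by
    refine Sys.comm_of_lifts F.sys m0 m1 ((show rmap (2 ^ 0) = rho 4 from e0) ▸ a3)
      ((show rmap (2 ^ 1) = rho 16 from e1) ▸ d3) ?_
    have hprod := F.rho_mul h4 h16 a3 d3
    have hsq := F.sq_eq (sect_mem_xor h4 h16) (mul_mem a1 d1) (a2.mul_left d2) hprod
    rw [show qb (4 ^^^ 16) = false by decide +kernel, show sg X false = 1 from rfl] at hsq
    have i4 := (sOf_mem F (Or.inl rfl : (4 : Nat) = 4 ∨ (4 : Nat) = 16 ∨ (4 : Nat) = 64)).2.2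
    have i16 := (sOf_mem F (Or.inr (Or.inl rfl) : (16 : Nat) = 4 ∨ (16 : Nat) = 16 ∨ (16 : Nat) = 64)).2.2
    calc sS 4 * sS 16 = (sS 4 * sS 16)⁻¹ := (inv_eq_of_mul_eq_one_right hsq).symm
      _ = sS 16 * sS 4 := by
          rw [mul_inv_rev, inv_eq_of_mul_eq_one_right i4, inv_eq_of_mul_eq_one_right i16]
  have base5 : Comm z Q p 0 5 :=
    Sys.comm_of_lifts F.sys m0 (good_mem F hu) ((show rmap (2 ^ 0) = rho 4 from e0) ▸ a3)
      ((show rmap (2 ^ 5) = m23 from e5) ▸ hu.acts) (hu.comm4 _ a1 a2 a3).symm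
  by_cases hst : s = t
  · subst hst
    obtain ⟨r, -, -, -, -, hr⟩ := exists_lifts F hu
    exact Sys.comm_of_lifts F.sys (hr s hs).1 (hr s hs).1 (hr s hs).2.1 (hr s hs).2.1 (Commute.refl _)
  have h := List.all_eq_true.1 (List.all_eq_true.1 hpw s (List.mem_range.2 hs)) t (List.mem_range.2 ht)
  simp only [Bool.or_eq_true, beq_iff_eq, hst, false_or, List.any_eq_true, Bool.and_eq_true, List.all_eq_true,
    decide_eq_true_eq] at h
  obtain ⟨⟨i, w⟩, -, hw, h⟩ := h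
  have hb : ∀ b, (b = 1 ∨ b = 5) → Comm z Q p 0 b := by rintro b (rfl | rfl) <;> assumption
  have hb' : (bif i == 0 then 1 else 5) = 1 ∨ (bif i == 0 then 1 else 5) = 5 := by cases (i == 0) <;> simp
  obtain ⟨-, -, hcw⟩ := Sys.comm_word F.sys (by norm_num : (0 : Nat) < 6)
    (by rcases hb' with e | e <;> rw [e] <;> norm_num) (hb _ hb') w hw
  rcases h with ⟨e1, e2⟩ | ⟨e1, e2⟩
  · simp only [e1, e2] at hcw
    exact hcw
  · simp only [e1, e2] at hcw
    exact Sys.comm_symm F.sys hcw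

/-- The centralizer is elementary abelian. -/
theorem cGrp_elementary : Cfsg.IsElementaryAbelian 2 (cGrp Q p 85) := by
  obtain ⟨r, -, -, -, -, hr⟩ := exists_lifts F hu
  have hgen : ∀ y ∈ cGrp Q p 85, ∀ H : Subgroup G, (∀ i < 6, r i ∈ H) →
      (∀ a ∈ Q, a ∈ cGrp Q p 85 → a ∈ H) → y ∈ H := by
    intro y hy H h1 h2
    obtain ⟨t, -, a, ⟨ha, hac⟩, rfl⟩ := Sys.decomp F.sys (fun i hi => (hr i hi).1) (fun i hi => (hr i hi).2.1) hy
    exact mul_mem (Sys.rprod_mem F.sys h1 t) (h2 a ha hac)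
  have hcomm : ∀ x ∈ cGrp Q p 85, ∀ y ∈ cGrp Q p 85, Commute x y := by
    intro x hx y hy
    have step : ∀ i < 6, y ∈ Subgroup.centralizer ({r i} : Set G) := by
      intro i hi
      refine hgen y hy _ (fun j hj => ?_) (fun a ha hac => ?_)
      · exact mem_centralizer_singleton_iff'.2
          (comm_all F hu hj hi _ (hr j hj).1 _ (hr i hi).1 (hr j hj).2.1 (hr i hi).2.1)
      · exact mem_centralizer_singleton_iff'.2 (Sys.q_commute F.sys ha hac (hr i hi).1).symm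
    refine mem_centralizer_singleton_iff'.1 (hgen x hx (Subgroup.centralizer ({y} : Set G)) (fun i hi => ?_)
      (fun a ha hac => ?_))
    · exact mem_centralizer_singleton_iff'.2 (mem_centralizer_singleton_iff'.1 (step i hi)).symm
    · exact mem_centralizer_singleton_iff'.2 (Sys.q_commute F.sys ha hac hy).symm
  refine ⟨⟨⟨fun a b => Subtype.ext (hcomm _ a.2 _ b.2)⟩⟩, fun x hx => ?_⟩
  let H : Subgroup G :=
    { carrier := {w | w ∈ cGrp Q p 85 ∧ w * w = 1}
      one_mem' := ⟨one_mem _, one_mul 1⟩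
      mul_mem' := fun {a b} ha hb => ⟨mul_mem ha.1 hb.1, by
        rw [mul_assoc, ← mul_assoc b, (hcomm _ hb.1 _ ha.1).eq, mul_assoc a b b, hb.2, mul_one, ha.2]⟩
      inv_mem' := fun {a} ha => ⟨inv_mem ha.1, by rw [← mul_inv_rev, ha.2, inv_one]⟩ }
  rw [pow_two]
  exact (hgen x hx H (fun i hi => ⟨(hr i hi).1, (hr i hi).2.2⟩)
    fun a ha hac => ⟨hac, Sys.sq_q F.sys ha hac⟩).2

theorem cGrp_card : Nat.card (cGrp Q p 85) = 2048 := by
  refine le_antisymm (Sys.card_le F.sys) ?_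
  obtain ⟨r, -, -, -, -, hr⟩ := exists_lifts F hu
  let f : Fin 64 × {a : G // a ∈ Q ∧ a ∈ cGrp Q p 85} → cGrp Q p 85 := fun x =>
    ⟨rprod r x.1 * x.2.1, mul_mem (Sys.rprod_mem F.sys (fun i hi => (hr i hi).1) _) x.2.2.2⟩
  have hf : Function.Injective f := by
    rintro ⟨t, a⟩ ⟨t', a'⟩ e
    have e' : rprod r t * (a : G) = rprod r t' * (a' : G) := congrArg Subtype.val e
    have hA := fun (s : Fin 64) (b : {a : G // a ∈ Q ∧ a ∈ cGrp Q p 85}) =>
      F.sys.acts_mul (show one.length = 8 from rfl) (Sys.acts_rprod F.sys (fun i hi => (hr i hi).2.1) s.2)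
        (F.sys.acts_of_mem b.2.1)
    have h1 := hA t a
    rw [e'] at h1
    have h2 := F.sys.acts_unique (by rw [length_comp]; rfl) (by rw [length_comp]; rfl) h1 (hA t' a')
    have inj : ∀ s < 64, ∀ s' < 64, comp (rmap s) one = comp (rmap s') one → s = s' := by
      have key : (List.range 64).all (fun s => (List.range 64).all fun s' =>
          !(comp (rmap s) one == comp (rmap s') one) || s == s') = true := by decide +kernel
      intro s hs s' hs' e
      have := List.all_eq_true.1 (List.all_eq_true.1 key s (List.mem_range.2 hs)) s' (List.mem_range.2 hs')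
      simpa [e] using this
    obtain rfl : t = t' := Fin.ext (inj _ t.2 _ t'.2 h2)
    exact Prod.ext rfl (Subtype.ext (mul_left_cancel e'))
  have := Nat.card_le_card_of_injective f hf
  rwa [Nat.card_prod, Nat.card_fin, Sys.card_q_part F.sys] at this

theorem centralizer_cGrp : Subgroup.centralizer ((cGrp Q p 85 : Subgroup G) : Set G) ≤ cGrp Q p 85 := by
  refine Subgroup.centralizer_le ?_
  rintro a ⟨ha, hm⟩
  exact (Sys.mem_cGrp_q F.sys ha).2 hm

end Frame

end CfsgLib.Recog.CoOneCode
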