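import Cfsg.Agent.Lib.Recog.CoOneCode.Levi

/-!
Functionals and linear extensions on eleven bits (owner: helper8).
-/

set_option autoImplicit false
set_option maxRecDepth 100000
set_option Elab.async false

namespace CfsgLib.Recog.CoOneCode

/-- The parity of the first `k` bits. -/
def parN (x : Nat) : Nat → Bool
  | 0 => false
  | k + 1 => parN x k ^^ x.testBit k

/-- The pairing of a vector with a mask. -/
def par (n f : Nat) : Bool := parN (n &&& f) 11

/-- The mask of a functional on the first `k` basis vectors. -/
def mskN (g : Nat → Bool) : Nat → Nat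
  | 0 => 0
  | k + 1 => mskN g k ^^^ (bif g k then 2 ^ k else 0)

/-- The mask of a functional. -/
def msk (g : Nat → Bool) : Nat := mskN g 11

theorem parN_xor (x y k : Nat) : parN (x ^^^ y) k = (parN x k ^^ parN y k) := by
  induction k with
  | zero => rfl
  | succ k ih =>
    simp only [parN, ih, Nat.testBit_xor]
    cases parN x k <;> cases parN y k <;> cases x.testBit k <;> cases y.testBit k <;> rfl

theorem par_comm (n f : Nat) : par n f = par f n := by rw [par, par, Nat.and_comm]

theorem par_xor_left (m n f : Nat) : par (m ^^^ n) f = (par m f ^^ par n f) := by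
  rw [par, Nat.and_xor_distrib_right, parN_xor]; rfl

theorem par_xor_right (n f g : Nat) : par n (f ^^^ g) = (par n f ^^ par n g) := by
  rw [par_comm, par_xor_left, par_comm f, par_comm g]

theorem par_two_pow {i : Nat} (hi : i < 11) (f : Nat) : par (2 ^ i) f = f.testBit i := by
  have key : ∀ k, parN (2 ^ i &&& f) k = (decide (i < k) && f.testBit i) := by
    intro k
    induction k with
    | zero => simp [parN]
    | succ k ih =>
      simp only [parN, ih, Nat.testBit_and, Nat.testBit_two_pow]
      rcases lt_trichotomy i k with h | h | h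
      · simp [h, h.ne, Nat.lt_succ_of_lt h]
      · simp [h]
      · simp [h.ne', not_lt.2 h.le, not_lt.2 (Nat.succ_le_of_lt h)]
  rw [par, key]
  simp [hi]

theorem mskN_bit (g : Nat → Bool) (k i : Nat) : (mskN g k).testBit i = (decide (i < k) && g i) := by
  induction k with
  | zero => simp [mskN]
  | succ k ih =>
    simp only [mskN, Nat.testBit_xor, ih]
    rcases lt_trichotomy i k with h | h | h
    · cases hg : g k <;> simp [h, h.ne', Nat.lt_succ_of_lt h, Nat.testBit_two_pow]
    · subst h
      cases hg : g i <;> simp [Nat.testBit_two_pow]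
    · cases hg : g k <;> simp [h.ne, not_lt.2 h.le, not_lt.2 (Nat.succ_le_of_lt h), Nat.testBit_two_pow]

theorem msk_lt (g : Nat → Bool) : msk g < 2048 := by
  refine Nat.lt_pow_two_of_testBit (n := 11) _ fun i hi => ?_
  rw [msk, mskN_bit]
  simp [not_lt.2 hi]

theorem lin11 {β : Type*} (add : β → β → β) (f g : Nat → β)
    (hf : ∀ a b, a < 2048 → b < 2048 → f (a ^^^ b) = add (f a) (f b))
    (hg : ∀ a b, a < 2048 → b < 2048 → g (a ^^^ b) = add (g a) (g b)) (h0 : f 0 = g 0)
    (h : ∀ i < 11, f (2 ^ i) = g (2 ^ i)) : ∀ n < 2048, f n = g n := by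
  suffices ∀ k ≤ 11, ∀ n < 2 ^ k, f n = g n from fun n hn => this 11 le_rfl n hn
  intro k
  induction k with
  | zero => exact fun _ n hn => by obtain rfl : n = 0 := (by simpa using hn); exact h0
  | succ k ih =>
    intro hk n hn
    by_cases hb : n.testBit k = true
    · have h1 : n ^^^ 2 ^ k < 2 ^ k := by
        refine Nat.lt_pow_two_of_testBit _ fun i hi => ?_
        rcases hi.eq_or_lt with e | e
        · subst e; simp [hb]
        · have : n.testBit i = false := Nat.testBit_lt_two_pow (lt_of_lt_of_le hn (Nat.pow_le_pow_right (by norm_num) e))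
          simp [this, e.ne, Nat.testBit_two_pow]
      have h2 : 2 ^ k < 2048 := Nat.pow_lt_pow_right (by norm_num) (by omega : k < 11)
      have h3 : n ^^^ 2 ^ k < 2048 := h1.trans h2
      have e : n = (n ^^^ 2 ^ k) ^^^ 2 ^ k := by rw [Nat.xor_assoc, Nat.xor_self, Nat.xor_zero]
      rw [e, hf _ _ h3 h2, hg _ _ h3 h2, ih (by omega) _ h1, h k (by omega)]
    · refine ih (by omega) n (Nat.lt_pow_two_of_testBit _ fun i hi => ?_)
      rcases hi.eq_or_lt with e | e
      · subst e; simpa using hb
      · exact Nat.testBit_lt_two_pow (lt_of_lt_of_le hn (Nat.pow_le_pow_right (by norm_num) e))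

theorem par_zero (f : Nat) : par 0 f = false := by
  simp [par, parN]

/-- Masks are determined by their functionals. -/
theorem par_ext {f g : Nat} (hf : f < 2048) (hg : g < 2048) (h : ∀ i < 11, par (2 ^ i) f = par (2 ^ i) g) :
    f = g := by
  refine Nat.eq_of_testBit_eq fun i => ?_
  by_cases hi : i < 11
  · simpa [par_two_pow hi] using h i hi
  · have h2 : (2048 : Nat) ≤ 2 ^ i := le_trans (by norm_num) (Nat.pow_le_pow_right (by norm_num) (not_lt.1 hi))
    rw [Nat.testBit_lt_two_pow (lt_of_lt_of_le hf h2), Nat.testBit_lt_two_pow (lt_of_lt_of_le hg h2)]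

/-- The mask of an additive functional. -/
theorem par_msk (g : Nat → Bool) (hg : ∀ a b, a < 2048 → b < 2048 → g (a ^^^ b) = (g a ^^ g b)) :
    ∀ n < 2048, par n (msk fun i => g (2 ^ i)) = g n := by
  have h0 : g 0 = false := by
    have := hg 0 0 (by norm_num) (by norm_num)
    rw [Nat.xor_self, Bool.xor_self] at this
    exact this
  refine lin11 (fun a b => a ^^ b) _ g (fun a b _ _ => par_xor_left a b _) hg (by rw [par_zero, h0]) fun i hi => ?_
  rw [par_two_pow hi, msk, mskN_bit]
  simp [hi]

end CfsgLib.Recog.CoOneCode
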