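import Cfsg.Agent.Lib.Recog.CoOneCode.Points
import Cfsg.Agent.Lib.Sporadic.M24

/-!
The normalizer induces all automorphisms of the code (owner: helper8).
-/

set_option autoImplicit false
set_option linter.unusedSectionVars false
set_option linter.unusedVariables false
set_option quotPrecheck false
set_option maxRecDepth 100000
set_option Elab.async false

namespace CfsgLib.Recog.CoOneCode

open CfsgLib.Recog.CoOneType CfsgLib.Recog.CoOneFive CfsgLib.ThreeTrans

/-- Words fixing the first vectors of the subspace and moving the next one. -/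
def flagWords : List (List (List Nat)) :=
  [[[], [0, 3, 0], [1], [1, 0, 3, 0], [0, 1, 3, 1, 0], [0, 1, 3, 1, 3, 0], [2, 1], [2, 1, 0, 3, 0], [0, 2, 1, 3, 1, 0], [0, 2, 1, 3, 1, 3, 0], [1, 0, 2, 1, 3, 1, 0], [1, 0, 2, 1, 3, 1, 3, 0], [0, 1, 2, 3, 1, 2, 3, 1, 0], [0, 1, 2, 3, 1, 2, 3, 1, 3, 0]], [[], [1, 0, 3, 0, 1], [0, 1, 0, 3, 0, 1, 0], [3, 1, 0, 3, 0, 1, 3], [2], [2, 1, 0, 3, 0, 1], [0, 2, 1, 0, 3, 0, 1, 0], [2, 3, 1, 0, 3, 0, 1, 3], [1, 0, 2, 1, 3, 1, 0, 2, 1], [1, 0, 2, 1, 3, 1, 2, 3, 0, 1], [0, 1, 0, 2, 1, 3, 1, 2, 3, 0, 1, 0], [3, 1, 0, 2, 1, 3, 1, 2, 3, 0, 1, 3]], [[], [2, 1, 0, 3, 0, 1, 2], [0, 2, 1, 0, 3, 0, 1, 0, 2], [2, 3, 1, 0, 3, 0, 1, 2, 3], [1, 0, 2, 1, 0, 3, 0, 1, 0, 2, 1], [1, 2, 3, 1, 0, 3, 0, 1, 2, 3, 1], [0, 1, 2, 3, 1, 0, 3, 0, 1, 2, 3, 1, 0], [3, 1, 2, 3, 1, 0, 3, 0, 1, 2, 3, 1, 3]]]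

/-- The words for one step of the flag. -/
def stepWords (j : Nat) : List (List Nat) := if j = 0 then eWords else flagWords.getD (j - 1) []

theorem flag_facts :
    ((List.range 4).all fun j => (List.range 32).all fun n => (n >>> (j + 1) == 0) ||
      (stepWords j).any fun w => (List.range 16).any fun x =>
        ((List.range j).all fun i => tau x (unspr (app (levW w) (2 ^ (2 * i)))) == 2 ^ (i + 1)) &&
          (tau x (unspr (app (levW w) (2 ^ (2 * j)))) == n)) = true ∧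
    (∀ j < 4, ((Finset.range 32).filter fun n => n >>> (j + 1) ≠ 0).card = 32 - 2 ^ (j + 1)) := by
  decide +kernel

variable {G : Type*} [Group G] [Finite G] {z : G} {Q : Subgroup G} {p : G → Nat} {k u : G} {a r : Nat → G} {g : G}

/-- The stabilizers of the flag. -/
def flagStab (z : G) (Q : Subgroup G) (p : G → Nat) (a : Nat → G) : Nat → Subgroup G
  | 0 => Subgroup.normalizer (cGrp Q p 85 : Set G) ⊓ Subgroup.centralizer ({z} : Set G)
  | j + 1 => flagStab z Q p a j ⊓ Subgroup.centralizer ({a j} : Set G)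

theorem mem_flagStab {c : G} : ∀ j : Nat, c ∈ flagStab z Q p a j ↔
    c ∈ Subgroup.normalizer (cGrp Q p 85 : Set G) ∧ Commute c z ∧ ∀ i < j, Commute c (a i)
  | 0 => by
    rw [flagStab, Subgroup.mem_inf]
    exact ⟨fun h => ⟨h.1, mem_centralizer_singleton_iff'.1 h.2, fun i hi => absurd hi (Nat.not_lt_zero i)⟩,
      fun h => ⟨h.1, mem_centralizer_singleton_iff'.2 h.2.1⟩⟩
  | j + 1 => by
    rw [flagStab, Subgroup.mem_inf, mem_flagStab j]
    constructor
    · rintro ⟨⟨h1, h2, h3⟩, h4⟩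
      refine ⟨h1, h2, fun i hi => ?_⟩
      rcases Nat.lt_succ_iff_lt_or_eq.1 hi with h | rfl
      · exact h3 i h
      · exact mem_centralizer_singleton_iff'.1 h4
    · rintro ⟨h1, h2, h3⟩
      exact ⟨⟨h1, h2, fun i hi => h3 i (Nat.lt_succ_of_lt hi)⟩,
        mem_centralizer_singleton_iff'.2 (h3 j (Nat.lt_succ_self j))⟩

namespace Ctx

variable (D : Ctx z Q p k a r g)
include D

local notation "NN" => Subgroup.normalizer (cGrp Q p 85 : Set G)
local notation "cN" => cn z a r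

theorem flag_step {j : Nat} (hj : j < 4) :
    (32 - 2 ^ (j + 1)) * Nat.card (flagStab z Q p a (j + 1)) ≤ Nat.card (flagStab z Q p a j) := by
  classical
  have h := card_conj_orbit (flagStab z Q p a j) (a j)
  rw [h]
  refine Nat.mul_le_mul ?_ le_rfl
  rw [← flag_facts.2 j hj]
  set S := (Finset.range 32).filter fun n => n >>> (j + 1) ≠ 0 with hS
  have hsub : el z a r '' (S : Set Nat) ⊆
      Set.range fun c : flagStab z Q p a j => (c : G) * a j * (c : G)⁻¹ := by
    rintro _ ⟨n, hn, rfl⟩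
    obtain ⟨hn32, hne⟩ := Finset.mem_filter.1 hn
    have hf := List.all_eq_true.1 (List.all_eq_true.1 flag_facts.1 j (List.mem_range.2 hj)) n
      (List.mem_range.2 (Finset.mem_range.1 hn32))
    simp only [Bool.or_eq_true, beq_iff_eq, hne, false_or, List.any_eq_true, Bool.and_eq_true, List.all_eq_true,
      List.mem_range] at hf
    obtain ⟨w, -, x, hx, hfix, hmove⟩ := hf
    obtain ⟨c, hc⟩ := Coord.exists_exact D.frame D.coord w
    obtain ⟨q, -, hq, hqz, -, hqn, -⟩ := Coord.exists_tau D.frame D.coord hx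
    have hcomp : ∀ i < 4, cN (q * c) (2 ^ (i + 1)) = tau x (unspr (app (levW w) (2 ^ (2 * i)))) := by
      intro i hi
      rw [Coord.cn_mul D.frame D.coord hq hc.norm, hqn _ (Coord.cn_spec D.frame D.coord hc.norm _).1, hc.cn_a i hi]
    have hconj : ∀ i < 4, el z a r (cN (q * c) (2 ^ (i + 1))) = q * c * a i * (q * c)⁻¹ := by
      intro i hi
      rw [(Coord.cn_spec D.frame D.coord (mul_mem hq hc.norm) _).2, (el_gen (z := z) a r).2.1 i hi]
    refine ⟨⟨q * c, (mem_flagStab j).2 ⟨mul_mem hq hc.norm, hqz.mul_left hc.comm, fun i hi => ?_⟩⟩, ?_⟩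
    · have h1 := hconj i (by omega)
      rw [hcomp i (by omega), hfix i hi, (el_gen (z := z) a r).2.1 i (by omega)] at h1
      exact mul_inv_eq_iff_eq_mul.1 h1.symm
    · show q * c * a j * (q * c)⁻¹ = el z a r n
      rw [← hconj j hj, hcomp j hj, hmove]
  have hle := Set.ncard_le_ncard hsub (Set.toFinite _)
  rw [Set.ncard_image_of_injOn, Set.ncard_coe_finset] at hle
  · rwa [Nat.card_coe_set_eq]
  intro m hm n hn e
  have hlt : ∀ {x}, x ∈ S → x < 2048 := fun {x} hx => by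
    have := Finset.mem_range.1 (Finset.mem_filter.1 hx).1
    omega
  exact Coord.el_inj D.frame D.coord (hlt hm) (hlt hn) e

theorem card_cent : 322560 * 2048 ≤ Nat.card (NN ⊓ Subgroup.centralizer ({z} : Set G) : Subgroup G) := by
  have h0 := flag_step D (j := 0) (by norm_num)
  have h1 := flag_step D (j := 1) (by norm_num)
  have h2 := flag_step D (j := 2) (by norm_num)
  have h3 := flag_step D (j := 3) (by norm_num)
  have h4 : 2048 ≤ Nat.card (flagStab z Q p a 4) := by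
    rw [← D.coord.card]
    refine Nat.card_mono (Set.toFinite _) fun c hc => (mem_flagStab 4).2 ⟨Subgroup.le_normalizer hc, ?_, fun i hi => ?_⟩
    · exact congrArg Subtype.val (D.coord.elem.1.1.1 ⟨_, hc⟩ ⟨_, Coord.z_mem D.frame D.coord⟩)
    · have hi' := Coord.el_mem D.frame D.coord (2 ^ (i + 1))
      rw [(el_gen (z := z) a r).2.1 i hi] at hi'
      exact congrArg Subtype.val (D.coord.elem.1.1.1 ⟨_, hc⟩ ⟨_, hi'⟩)
  change 322560 * 2048 ≤ Nat.card (flagStab z Q p a 0)
  norm_num at h0 h1 h2 h3 ⊢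
  omega

theorem card_normalizer : 244823040 * 2048 ≤ Nat.card NN := by
  rw [card_nn D, (o_card D).1]
  calc 244823040 * 2048 = 759 * (322560 * 2048) := by norm_num
    _ ≤ _ := Nat.mul_le_mul le_rfl (card_cent D)

/-- The normalizer modulo the subgroup is the automorphism group of the code. -/
theorem quotient_iso : ∃ φ : ↥NN →* ↥Cfsg.M24, Function.Surjective φ ∧ φ.ker = (cGrp Q p 85).subgroupOf NN := by
  obtain ⟨φ, hφ⟩ := exists_hom D
  refine ⟨φ, MonoidHom.range_eq_top.1 (Subgroup.eq_top_of_le_card _ ?_), hφ⟩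
  rw [CfsgLib.Sporadic.M24_card]
  have h1 := Subgroup.card_eq_card_quotient_mul_card_subgroup φ.ker
  rw [Nat.card_congr (QuotientGroup.quotientKerEquivRange φ).toEquiv] at h1
  have h2 : Nat.card φ.ker = 2048 := by
    rw [hφ, Nat.card_congr (Subgroup.subgroupOfEquivOfLe Subgroup.le_normalizer).toEquiv, D.coord.card]
  have h3 := card_normalizer D
  rw [h1, h2] at h3
  omega

end Ctx

end CfsgLib.Recog.CoOneCode
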