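import Cfsg.Agent.Lib.Recog.CoOneCode.Abelian
import Cfsg.Agent.Lib.Recog.CoOneCode.Bitsys

/-!
Coordinates on the elementary abelian subgroup of order `2 ^ 11`, adapted to the action of `Q`
(owner: helper8).
-/

set_option autoImplicit false
set_option linter.unusedSectionVars false
set_option linter.unusedVariables false
set_option quotPrecheck false
set_option maxRecDepth 100000
set_option Elab.async false

namespace CfsgLib.Recog.CoOneCode

open CfsgLib.Recog.CoOneType CfsgLib.Recog.CoOneFive CfsgLib.ThreeTrans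

variable {G : Type*} [Group G] [Finite G] {z : G} {Q : Subgroup G} {p : G → Nat} {k u : G}

/-- A product of generators selected by bits. -/
def elN (g : Nat → G) (n : Nat) : Nat → G
  | 0 => 1
  | i + 1 => elN g n i * (bif n.testBit i then g i else 1)

theorem elN_mem {H : Subgroup G} {g : Nat → G} {K : Nat} (hg : ∀ i < K, g i ∈ H) (n : Nat) : elN g n K ∈ H := by
  induction K with
  | zero => exact one_mem _
  | succ K ih =>
    refine mul_mem (ih fun i hi => hg i (Nat.lt_succ_of_lt hi)) ?_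
    cases n.testBit K
    · exact one_mem _
    · exact hg K (Nat.lt_succ_self K)

theorem elN_xor {H : Subgroup G} (hH : Cfsg.IsElementaryAbelian 2 H) {g : Nat → G} {K : Nat}
    (hg : ∀ i < K, g i ∈ H) (m n : Nat) : elN g (m ^^^ n) K = elN g m K * elN g n K := by
  induction K with
  | zero => exact (one_mul 1).symm
  | succ K ih =>
    have hK := hg K (Nat.lt_succ_self K)
    have h1 := elN_mem (fun i hi => hg i (Nat.lt_succ_of_lt hi)) n
    have hm : (bif m.testBit K then g K else 1) ∈ H := by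
      cases m.testBit K
      exacts [one_mem _, hK]
    have hc : elN g n K * (bif m.testBit K then g K else 1) = (bif m.testBit K then g K else 1) * elN g n K :=
      congrArg Subtype.val (hH.1.1.1 ⟨_, h1⟩ ⟨_, hm⟩)
    have hsq : g K * g K = 1 := by rw [← pow_two]; exact hH.2 _ hK
    simp only [elN]
    rw [ih fun i hi => hg i (Nat.lt_succ_of_lt hi), Nat.testBit_xor]
    calc elN g m K * elN g n K * (bif (m.testBit K ^^ n.testBit K) then g K else 1)
        = elN g m K * elN g n K * ((bif m.testBit K then g K else 1) * (bif n.testBit K then g K else 1)) := by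
          cases m.testBit K <;> cases n.testBit K <;> simp [hsq]
      _ = elN g m K * (elN g n K * (bif m.testBit K then g K else 1)) * (bif n.testBit K then g K else 1) := by group
      _ = _ := by rw [hc]; group

/-- The vector of the part in `Q`. -/
def spr (n : Nat) : Nat := sel n 1 1 ^^^ sel n 2 4 ^^^ sel n 3 16 ^^^ sel n 4 64

/-- The coordinates of a vector of the subspace. -/
def unspr (w : Nat) : Nat := sel w 0 2 ^^^ sel w 2 4 ^^^ sel w 4 8 ^^^ sel w 6 16

/-- The coordinates of the move of the `t`-th lift by the `i`-th complementary lift. -/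
def imask (t i : Nat) : Nat := unspr (app (rmap (2 ^ t)) (2 ^ (2 * i + 1)) ^^^ 2 ^ (2 * i + 1))

/-- The generators of the part in `Q`. -/
def qGen (z : G) (a : Nat → G) (i : Nat) : G := if i = 0 then z else a (i - 1)

/-- The element with given coordinates. -/
def el (z : G) (a r : Nat → G) (n : Nat) : G := elN (qGen z a) n 5 * elN r (n >>> 5) 6

open scoped _root_.Classical in
/-- The coordinates of an element. -/
noncomputable def dec (z : G) (a r : Nat → G) (x : G) : Nat :=
  if h : ∃ n < 2048, el z a r n = x then h.choose else 0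

/-- The action of `c` on coordinates. -/
noncomputable def cn (z : G) (a r : Nat → G) (c : G) (n : Nat) : Nat := dec z a r (c * el z a r n * c⁻¹)

/-- The pull-back of a mask along `c`. -/
noncomputable def co (z : G) (a r : Nat → G) (c : G) (f : Nat) : Nat := msk fun i => par (cn z a r c (2 ^ i)) f

/-- Adapted coordinates. -/
structure Coord (z : G) (Q : Subgroup G) (p : G → Nat) (k : G) (a r : Nat → G) : Prop where
  elem : Cfsg.IsElementaryAbelian 2 (cGrp Q p 85)
  card : Nat.card (cGrp Q p 85) = 2048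
  a_mem : ∀ j < 4, a j ∈ Q ∧ p (a j) = 2 ^ (2 * j)
  a_zero : a 0 = k * z * k⁻¹
  r_mem : ∀ t < 6, r t ∈ cGrp Q p 85 ∧ Acts z Q p (r t) (rmap (2 ^ t))
  rel : ∀ i < 4, ∀ q ∈ Q, p q = 2 ^ (2 * i + 1) → ∀ t < 6, q * r t * q⁻¹ = r t * el z a r (imask t i)
  r_zero : ∃ l < 32, l &&& 28 = 4 ∧ r 0 = sOf z Q p k 4 * el z a r l

theorem coord_facts : (∀ j < 4, 2 ^ (2 * j) &&& 85 = 2 ^ (2 * j)) ∧
    (∀ n < 32, spr n &&& 85 = spr n ∧ unspr (spr n) = n - n % 2 ∧ n >>> 5 = 0) ∧
    (List.range 2048).all (fun n => !(n >>> 5 == 0 && spr n == 0 && !n.testBit 0) || n == 0) = true ∧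
    (List.range 256).all (fun w => !(w &&& 85 == w) || (decide (unspr w < 32) && (spr (unspr w) == w) &&
      !(unspr w).testBit 0)) = true ∧
    (List.range 6).all (fun t => (List.range 4).all fun i => decide (imask t i < 32) &&
      (app (rmap (2 ^ t)) (2 ^ (2 * i + 1)) ^^^ 2 ^ (2 * i + 1) == spr (imask t i)) && !(imask t i).testBit 0) = true ∧
    (∀ s < 64, ∀ t < 64, rmap s = rmap t → s = t) := by
  refine ⟨by decide +kernel, by decide +kernel, by decide +kernel, by decide +kernel, by decide +kernel, ?_⟩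
  have key : (List.range 64).all (fun s => (List.range 64).all fun t => !(rmap s == rmap t) || s == t) = true := by
    decide +kernel
  intro s hs t ht e
  have := List.all_eq_true.1 (List.all_eq_true.1 key s (List.mem_range.2 hs)) t (List.mem_range.2 ht)
  simpa [e] using this

theorem qGen_mem (h : CfsgLib.Recog.CoOneType.Sys z Q p) {a : Nat → G}
    (ha : ∀ j < 4, a j ∈ Q ∧ p (a j) = 2 ^ (2 * j)) : ∀ i < 5, qGen z a i ∈ Q ∧ qGen z a i ∈ cGrp Q p 85 := by
  intro i hi
  rcases i with _ | j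
  · refine ⟨h.large.z_mem, (Sys.mem_cGrp_q h h.large.z_mem).2 ?_⟩
    show p z &&& 85 = p z
    rw [h.z0]; rfl
  · obtain ⟨h1, h2⟩ := ha j (by omega)
    refine ⟨h1, (Sys.mem_cGrp_q h h1).2 ?_⟩
    show p (a j) &&& 85 = p (a j)
    rw [h2]
    exact coord_facts.1 j (by omega)

theorem p_qPart (h : CfsgLib.Recog.CoOneType.Sys z Q p) {a : Nat → G}
    (ha : ∀ j < 4, a j ∈ Q ∧ p (a j) = 2 ^ (2 * j)) (n : Nat) :
    elN (qGen z a) n 5 ∈ Q ∧ p (elN (qGen z a) n 5) = spr n := by
  have hg := qGen_mem h ha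
  have m := fun K (hK : K ≤ 5) => elN_mem (H := Q) (g := qGen z a) (fun i (hi : i < K) => (hg i (by omega)).1) n
  refine ⟨m 5 le_rfl, ?_⟩
  have pb : ∀ i < 5, p (bif n.testBit i then qGen z a i else 1) = bif n.testBit i then p (qGen z a i) else 0 := by
    intro i _
    cases n.testBit i
    · exact h.p_one
    · rfl
  have step : ∀ i < 5, p (elN (qGen z a) n (i + 1)) =
      p (elN (qGen z a) n i) ^^^ (bif n.testBit i then p (qGen z a i) else 0) := by
    intro i hi
    rw [← pb i hi]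
    refine h.map_mul _ (m i (by omega)) _ ?_
    cases n.testBit i
    exacts [Q.one_mem, (hg i hi).1]
  rw [step 4 (by norm_num), step 3 (by norm_num), step 2 (by norm_num), step 1 (by norm_num), step 0 (by norm_num),
    show p (elN (qGen z a) n 0) = 0 from h.p_one, show p (qGen z a 0) = 0 from h.z0,
    show p (qGen z a 1) = 1 from (ha 0 (by norm_num)).2, show p (qGen z a 2) = 4 from (ha 1 (by norm_num)).2,
    show p (qGen z a 3) = 16 from (ha 2 (by norm_num)).2, show p (qGen z a 4) = 64 from (ha 3 (by norm_num)).2]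
  cases n.testBit 0 <;> simp [spr, sel]

theorem el_low {a r : Nat → G} {n : Nat} (hn : n < 32) : el z a r n = elN (qGen z a) n 5 := by
  have e : n >>> 5 = 0 := (coord_facts.2.1 n hn).2.2
  simp [el, e, elN]

theorem el_gen (a r : Nat → G) : el z a r 1 = z ∧ (∀ j < 4, el z a r (2 ^ (j + 1)) = a j) ∧
    ∀ t < 6, el z a r (2 ^ (5 + t)) = r t := by
  refine ⟨by simp [el, elN, qGen, Nat.shiftRight_eq_div_pow, Nat.testBit], fun j hj => ?_, fun t ht => ?_⟩
  · interval_cases j <;> simp [el, elN, qGen, Nat.shiftRight_eq_div_pow, Nat.testBit]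
  · interval_cases t <;> simp [el, elN, qGen, Nat.shiftRight_eq_div_pow, Nat.testBit]

theorem elN_six (r : Nat → G) (t : Nat) : elN r t 6 = rprod r t := by
  simp [elN, rprod]

namespace Coord

variable {a r : Nat → G} (F : CfsgLib.Recog.CoOneType.Frame z Q p k) (C : Coord z Q p k a r)
include F C

theorem el_mem (n : Nat) : el z a r n ∈ cGrp Q p 85 :=
  mul_mem (elN_mem (fun i hi => (qGen_mem F.sys C.a_mem i hi).2) n) (elN_mem (fun t ht => (C.r_mem t ht).1) _)

theorem el_xor (m n : Nat) : el z a r (m ^^^ n) = el z a r m * el z a r n := by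
  have hq := fun i (hi : i < 5) => (qGen_mem F.sys C.a_mem i hi).2
  have hr := fun t (ht : t < 6) => (C.r_mem t ht).1
  simp only [el, Nat.shiftRight_xor_distrib, elN_xor C.elem hq, elN_xor C.elem hr]
  have hc : elN r (m >>> 5) 6 * elN (qGen z a) n 5 = elN (qGen z a) n 5 * elN r (m >>> 5) 6 :=
    congrArg Subtype.val (C.elem.1.1.1 ⟨_, elN_mem hr _⟩ ⟨_, elN_mem hq _⟩)
  calc _ = elN (qGen z a) m 5 * (elN (qGen z a) n 5 * elN r (m >>> 5) 6) * elN r (n >>> 5) 6 := by group
    _ = _ := by rw [← hc]; group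

theorem el_zero : el z a r 0 = 1 := by simp [el, elN]

theorem el_acts (n : Nat) (hn : n < 2048) : Acts z Q p (el z a r n) (rmap (n >>> 5)) := by
  have hlt : n >>> 5 < 64 := by rw [Nat.shiftRight_eq_div_pow]; omega
  obtain ⟨hq, -⟩ := p_qPart F.sys C.a_mem n
  have h1 := F.sys.acts_mul (rmap_facts.1 _ hlt) (F.sys.acts_of_mem hq)
    (Sys.acts_rprod F.sys (fun t ht => (C.r_mem t ht).2) hlt)
  rw [← elN_six] at h1
  have e := List.all_eq_true.1 (List.all_eq_true.1 rmap_facts.2.2 0 (by decide)) (n >>> 5) (List.mem_range.2 hlt)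
  rw [beq_iff_eq, rmap_facts.2.1, Nat.zero_xor] at e
  rwa [e] at h1

theorem el_inj {m n : Nat} (hm : m < 2048) (hn : n < 2048) (e : el z a r m = el z a r n) : m = n := by
  refine Nat.xor_eq_zero_iff.1 ?_
  have hx : m ^^^ n < 2048 := Nat.xor_lt_two_pow (n := 11) hm hn
  have h1 : el z a r (m ^^^ n) = 1 := by
    rw [el_xor F C, e, ← pow_two]
    exact C.elem.2 _ (el_mem F C n)
  have hA := el_acts F C _ hx
  rw [h1] at hA
  have hsh : (m ^^^ n) >>> 5 < 64 := by rw [Nat.shiftRight_eq_div_pow]; omega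
  have e0 : (m ^^^ n) >>> 5 = 0 := by
    refine coord_facts.2.2.2.2.2 _ hsh 0 (by norm_num) ?_
    rw [rmap_facts.2.1]
    exact F.sys.acts_unique (rmap_facts.1 _ hsh) rfl hA F.sys.acts_one
  have hlow : elN (qGen z a) (m ^^^ n) 5 = 1 := by
    simpa [el, e0, elN] using h1
  obtain ⟨hq, hp⟩ := p_qPart F.sys C.a_mem (m ^^^ n)
  rw [hlow, F.sys.p_one] at hp
  have hb : (m ^^^ n).testBit 0 = false := by
    have hz : ∀ i, (i = 1 ∨ i = 2 ∨ i = 3 ∨ i = 4) → (m ^^^ n).testBit i = false := by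
      intro i hi
      have key : ∀ a b c d : Bool,
          0 = (bif a then 1 else 0) ^^^ (bif b then 4 else 0) ^^^ (bif c then 16 else 0) ^^^ (bif d then 64 else 0) →
          a = false ∧ b = false ∧ c = false ∧ d = false := by decide +kernel
      obtain ⟨b1, b2, b3, b4⟩ := key _ _ _ _ hp
      rcases hi with rfl | rfl | rfl | rfl <;> assumption
    cases hb : (m ^^^ n).testBit 0
    · rfl
    · exfalso
      refine F.sys.large.z_ne_one ?_
      simpa [elN, qGen, hb, hz 1 (Or.inl rfl), hz 2 (Or.inr (Or.inl rfl)), hz 3 (Or.inr (Or.inr (Or.inl rfl))),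
        hz 4 (Or.inr (Or.inr (Or.inr rfl)))] using hlow
  have := List.all_eq_true.1 coord_facts.2.2.1 _ (List.mem_range.2 hx)
  simpa [e0, ← hp, hb] using this

theorem el_surj {x : G} (hx : x ∈ cGrp Q p 85) : ∃ n < 2048, el z a r n = x := by
  have hf : Function.Bijective fun n : Fin 2048 => (⟨el z a r n, el_mem F C n⟩ : cGrp Q p 85) := by
    refine (Nat.bijective_iff_injective_and_card _).2 ⟨fun m n e => ?_, by rw [Nat.card_fin, C.card]⟩
    exact Fin.ext (el_inj F C m.2 n.2 (congrArg Subtype.val e))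
  obtain ⟨n, hn⟩ := hf.2 ⟨x, hx⟩
  exact ⟨n, n.2, congrArg Subtype.val hn⟩

theorem dec_spec {x : G} (hx : x ∈ cGrp Q p 85) : dec z a r x < 2048 ∧ el z a r (dec z a r x) = x := by
  have h := el_surj F C hx
  rw [dec, dif_pos h]
  exact h.choose_spec

theorem dec_eq {x : G} {n : Nat} (hn : n < 2048) (e : el z a r n = x) : dec z a r x = n := by
  obtain ⟨h1, h2⟩ := dec_spec F C (e ▸ el_mem F C n)
  exact el_inj F C h1 hn (h2.trans e.symm)

theorem cn_spec {c : G} (hc : c ∈ Subgroup.normalizer (cGrp Q p 85 : Set G)) (n : Nat) :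
    cn z a r c n < 2048 ∧ el z a r (cn z a r c n) = c * el z a r n * c⁻¹ :=
  dec_spec F C ((Subgroup.mem_normalizer_iff.1 hc _).1 (el_mem F C n))

theorem cn_xor {c : G} (hc : c ∈ Subgroup.normalizer (cGrp Q p 85 : Set G)) (m n : Nat) :
    cn z a r c (m ^^^ n) = cn z a r c m ^^^ cn z a r c n := by
  refine el_inj F C (cn_spec F C hc _).1 (Nat.xor_lt_two_pow (n := 11) (cn_spec F C hc _).1 (cn_spec F C hc _).1) ?_
  rw [(cn_spec F C hc _).2, el_xor F C (cn z a r c m), (cn_spec F C hc _).2, (cn_spec F C hc _).2, el_xor F C]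
  group

theorem cn_mul {c d : G} (hc : c ∈ Subgroup.normalizer (cGrp Q p 85 : Set G))
    (hd : d ∈ Subgroup.normalizer (cGrp Q p 85 : Set G)) (n : Nat) :
    cn z a r (c * d) n = cn z a r c (cn z a r d n) := by
  refine dec_eq F C (cn_spec F C hc _).1 ?_
  rw [(cn_spec F C hc _).2, (cn_spec F C hd _).2]
  group

theorem cn_of_comm {c : G} {n : Nat} (hn : n < 2048) (h : Commute c (el z a r n)) : cn z a r c n = n :=
  dec_eq F C hn (by rw [h.eq, mul_inv_cancel_right])

theorem cn_one {n : Nat} (hn : n < 2048) : cn z a r 1 n = n := cn_of_comm F C hn (Commute.one_left _)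

theorem par_co {c : G} (hc : c ∈ Subgroup.normalizer (cGrp Q p 85 : Set G)) (f : Nat) {n : Nat} (hn : n < 2048) :
    par n (co z a r c f) = par (cn z a r c n) f :=
  par_msk (fun m => par (cn z a r c m) f) (fun m l _ _ => by rw [cn_xor F C hc, par_xor_left]) n hn

theorem co_mul {c d : G} (hc : c ∈ Subgroup.normalizer (cGrp Q p 85 : Set G))
    (hd : d ∈ Subgroup.normalizer (cGrp Q p 85 : Set G)) (f : Nat) :
    co z a r (c * d) f = co z a r d (co z a r c f) := by
  refine par_ext (msk_lt _) (msk_lt _) fun i hi => ?_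
  have h2 : 2 ^ i < 2048 := Nat.pow_lt_pow_right (by norm_num) hi
  rw [par_co F C (mul_mem hc hd) f h2, par_co F C hd _ h2, par_co F C hc _ (cn_spec F C hd _).1, cn_mul F C hc hd]

theorem co_xor {c : G} (hc : c ∈ Subgroup.normalizer (cGrp Q p 85 : Set G)) (f g : Nat) :
    co z a r c (f ^^^ g) = co z a r c f ^^^ co z a r c g := by
  refine par_ext (msk_lt _) (Nat.xor_lt_two_pow (n := 11) (msk_lt _) (msk_lt _)) fun i hi => ?_
  have h2 : 2 ^ i < 2048 := Nat.pow_lt_pow_right (by norm_num) hi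
  rw [par_xor_right, par_co F C hc _ h2, par_co F C hc _ h2, par_co F C hc _ h2, par_xor_right]

theorem co_one {f : Nat} (hf : f < 2048) : co z a r 1 f = f := by
  refine par_ext (msk_lt _) hf fun i hi => ?_
  have h2 : 2 ^ i < 2048 := Nat.pow_lt_pow_right (by norm_num) hi
  rw [par_co F C (one_mem _) f h2, cn_one F C h2]

theorem co_inv {c : G} (hc : c ∈ Subgroup.normalizer (cGrp Q p 85 : Set G)) {f : Nat} (hf : f < 2048) :
    co z a r c⁻¹ (co z a r c f) = f ∧ co z a r c (co z a r c⁻¹ f) = f := by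
  rw [← co_mul F C hc (inv_mem hc), ← co_mul F C (inv_mem hc) hc, mul_inv_cancel, inv_mul_cancel, co_one F C hf]
  exact ⟨rfl, rfl⟩

theorem co_injective {c : G} (hc : c ∈ Subgroup.normalizer (cGrp Q p 85 : Set G)) {f g : Nat} (hf : f < 2048)
    (hg : g < 2048) (e : co z a r c f = co z a r c g) : f = g := by
  rw [← (co_inv F C hc hf).1, e, (co_inv F C hc hg).1]

end Coord

namespace Frame

variable (F : CfsgLib.Recog.CoOneType.Frame z Q p k)
include F

variable (hu : Good z Q p k u)
include hu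

open scoped _root_.Classical in
theorem exists_coord : ∃ a r : Nat → G, Coord z Q p k a r := by
  obtain ⟨r0, e0, -, -, -, hr⟩ := exists_lifts F hu
  have hel := cGrp_elementary F hu
  let a : Nat → G := fun j => if j = 0 then k * z * k⁻¹ else aOf Q p (2 ^ (2 * j))
  have ha : ∀ j < 4, a j ∈ Q ∧ p (a j) = 2 ^ (2 * j) := by
    intro j hj
    by_cases h0 : j = 0
    · subst h0
      exact ⟨by simpa [a] using F.memQ, by simpa [a] using F.px⟩
    · simpa [a, h0] using F.aOf_spec (show 2 ^ (2 * j) < 256 by interval_cases j <;> norm_num)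
  let q : Nat → G := fun i => aOf Q p (2 ^ (2 * i + 1))
  have hq : ∀ i < 4, q i ∈ Q ∧ p (q i) = 2 ^ (2 * i + 1) := fun i hi =>
    F.aOf_spec (show 2 ^ (2 * i + 1) < 256 by interval_cases i <;> norm_num)
  have hqz : ∀ i < 4, Commute (q i) z := fun i hi => F.sys.large.commute_z (hq i hi).1
  -- the defect of every lift
  have hdef : ∀ t < 6, ∀ i < 4, ∃ e : Bool,
      q i * r0 t * (q i)⁻¹ = r0 t * elN (qGen z a) (imask t i) 5 * sg z e := by
    intro t ht i hi
    obtain ⟨hrA, hrT, -⟩ := hr t ht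
    obtain ⟨hqi, hpq⟩ := hq i hi
    have hfact := List.all_eq_true.1 (List.all_eq_true.1 coord_facts.2.2.2.2.1 t (List.mem_range.2 ht)) i
      (List.mem_range.2 hi)
    simp only [Bool.and_eq_true, decide_eq_true_eq, beq_iff_eq] at hfact
    set d := q i * (r0 t * (q i)⁻¹ * (r0 t)⁻¹) with hd
    have hrq := F.sys.large.conj_mem hrT.1 (Q.inv_mem hqi)
    have hdQ : d ∈ Q := Q.mul_mem hqi hrq
    have hpd : p d = spr (imask t i) := by
      rw [hd, F.sys.map_mul _ hqi _ hrq, hrT.2 _ (Q.inv_mem hqi), F.sys.p_inv hqi, hpq, Nat.xor_comm]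
      exact hfact.1.2
    obtain ⟨h1, h2⟩ := p_qPart F.sys ha (imask t i)
    obtain ⟨e, he⟩ := F.sys.eq_of_p h1 hdQ (h2.trans hpd.symm)
    have hdA : d ∈ cGrp Q p 85 := (Sys.mem_cGrp_q F.sys hdQ).2 (by
      rw [hpd]; exact (coord_facts.2.1 _ hfact.1.1).1)
    refine ⟨e, ?_⟩
    rw [mul_assoc (r0 t), ← he, (Sys.q_commute F.sys hdQ hdA hrA).eq, hd]
    group
  choose! e he using hdef
  let χ : Nat → Nat := fun t =>
    (bif e t 0 then 2 else 0) ^^^ (bif e t 1 then 4 else 0) ^^^ (bif e t 2 then 8 else 0) ^^^ (bif e t 3 then 16 else 0)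
  have hχ : ∀ (t : Nat), χ t < 32 := fun t => by
    have : ∀ a b c d : Bool, (bif a then 2 else 0) ^^^ (bif b then 4 else 0) ^^^ (bif c then 8 else 0) ^^^
        (bif d then 16 else 0) < 32 := by decide +kernel
    exact this _ _ _ _
  have hχb : ∀ (t : Nat), ∀ i < 4, bb (2 ^ (2 * i + 1)) (spr (χ t)) = e t i := fun t i hi => by
    have : ∀ a b c d : Bool, ∀ i < 4, bb (2 ^ (2 * i + 1)) (spr ((bif a then 2 else 0) ^^^ (bif b then 4 else 0) ^^^
        (bif c then 8 else 0) ^^^ (bif d then 16 else 0))) = [a, b, c, d].getD i false := by decide +kernel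
    rw [this _ _ _ _ i hi]
    interval_cases i <;> rfl
  let r : Nat → G := fun t => r0 t * elN (qGen z a) (χ t) 5
  have hqA := fun n => elN_mem (H := cGrp Q p 85) (fun i hi => (qGen_mem F.sys ha i hi).2) (g := qGen z a) (K := 5) n
  have hrA : ∀ t < 6, r t ∈ cGrp Q p 85 ∧ Acts z Q p (r t) (rmap (2 ^ t)) := by
    intro t ht
    refine ⟨mul_mem (hr t ht).1 (hqA _), ?_⟩
    have h1 := F.sys.acts_mul (show one.length = 8 from rfl) (hr t ht).2.1
      (F.sys.acts_of_mem (p_qPart F.sys ha (χ t)).1)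
    have hlt : 2 ^ t < 64 := Nat.pow_lt_pow_right (by norm_num) ht
    have e' := List.all_eq_true.1 (List.all_eq_true.1 rmap_facts.2.2 (2 ^ t) (List.mem_range.2 hlt)) 0 (by decide)
    rw [beq_iff_eq, rmap_facts.2.1, Nat.xor_zero] at e'
    rwa [e'] at h1
  have hrel : ∀ i < 4, ∀ q' ∈ Q, p q' = 2 ^ (2 * i + 1) → ∀ t < 6,
      q' * r t * q'⁻¹ = r t * el z a r (imask t i) := by
    intro i hi q' hq' hpq' t ht
    have hfact := List.all_eq_true.1 (List.all_eq_true.1 coord_facts.2.2.2.2.1 t (List.mem_range.2 ht)) i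
      (List.mem_range.2 hi)
    simp only [Bool.and_eq_true, decide_eq_true_eq, beq_iff_eq] at hfact
    obtain ⟨j, hj⟩ := F.sys.eq_of_p (hq i hi).1 hq' ((hq i hi).2.trans hpq'.symm)
    have hzr : Commute (r t) (sg z j) := F.sys.sg_comm (hrA t ht).2.1 j
    rw [hj, show q i * sg z j * r t * (q i * sg z j)⁻¹ = q i * (sg z j * r t * (sg z j)⁻¹) * (q i)⁻¹ by group,
      ← hzr.eq, mul_inv_cancel_right, el_low hfact.1.1]
    obtain ⟨hxQ, hpx⟩ := p_qPart F.sys ha (χ t)
    have hcx := F.sys.conj_eq hxQ (hq i hi).1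
    rw [(hq i hi).2, hpx, hχb t i hi] at hcx
    have hzc : sg z (e t i) ∈ cGrp Q p 85 := (Sys.mem_cGrp_q F.sys (F.sys.sg_mem _)).2 (by
      rw [F.sys.p_sg]; rfl)
    have hcm : ∀ {x y : G}, x ∈ cGrp Q p 85 → y ∈ cGrp Q p 85 → x * y = y * x := fun hx hy =>
      congrArg Subtype.val (hel.1.1.1 ⟨_, hx⟩ ⟨_, hy⟩)
    calc q i * r t * (q i)⁻¹
        = q i * r0 t * (q i)⁻¹ * (q i * elN (qGen z a) (χ t) 5 * (q i)⁻¹) := by simp only [r]; group
      _ = r0 t * (elN (qGen z a) (imask t i) 5 * (sg z (e t i) * elN (qGen z a) (χ t) 5)) * sg z (e t i) := by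
          rw [he t ht i hi, hcx]; group
      _ = r0 t * (elN (qGen z a) (χ t) 5 * (elN (qGen z a) (imask t i) 5 * sg z (e t i))) * sg z (e t i) := by
          rw [hcm hzc (hqA _), ← mul_assoc (elN _ (imask t i) 5), hcm (hqA (imask t i)) (hqA (χ t))]; group
      _ = r t * elN (qGen z a) (imask t i) 5 * (sg z (e t i) * sg z (e t i)) := by simp only [r]; group
      _ = _ := by rw [F.sys.sg_mul, Bool.xor_self, show sg z false = 1 from rfl, mul_one]
  refine ⟨a, r, hel, cGrp_card F hu, ha, by simp [a], hrA, hrel, χ 0, hχ 0, ?_, ?_⟩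
  · -- the lift in the second group
    have h4 : 4 ∈ sect := by decide +kernel
    obtain ⟨s1, s2, s3⟩ := F.sOf_spec h4
    have key : ∀ i < 4, i ≠ 0 → e 0 i = (i == 1) := by
      intro i hi hi0
      obtain ⟨hqi, hpq⟩ := hq i hi
      have hb : bb (p (q i)) 1 = false ∧ bb 4 (p (q i)) = (i == 1) ∧ imask 0 i = (bif i == 1 then 2 else 0) := by
        rw [hpq]
        exact (show ∀ i < 4, i ≠ 0 → bb (2 ^ (2 * i + 1)) 1 = false ∧ bb 4 (2 ^ (2 * i + 1)) = (i == 1) ∧
          imask 0 i = (bif i == 1 then 2 else 0) by decide +kernel) i hi hi0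
      have hc := F.commutator_eq h4 s1 s2 s3 hqi hb.1
      rw [hb.2.1] at hc
      have hdef := he 0 (by norm_num) i hi
      rw [e0, hb.2.2] at hdef
      have hX : elN (qGen z a) (bif i == 1 then 2 else 0) 5 = sg (k * z * k⁻¹) (i == 1) := by
        cases (i == 1) <;> simp [elN, qGen, a, sg, Nat.testBit, Nat.shiftRight_eq_div_pow]
      rw [hX] at hdef
      -- invert the commutator
      have hc' : q i * sOf z Q p k 4 * (q i)⁻¹ =
          (sg z (i == 1) * sg (k * z * k⁻¹) (i == 1))⁻¹ * sOf z Q p k 4 := by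
        rw [← hc]; group
      have hzX : Commute (sOf z Q p k 4) (sg z (i == 1) * sg (k * z * k⁻¹) (i == 1)) :=
        F.pair_comm s2 (F.sys'.large.commute_z s1) _ _
      rw [← hzX.inv_right.eq, hdef, mul_inv_rev, F.sys'.sg_inv, F.sys.sg_inv, mul_assoc, mul_left_cancel_iff,
        mul_left_cancel_iff] at hc'
      exact F.sys.sg_inj hc'
    have key' : ∀ a b c d : Bool, b = true → c = false → d = false →
        ((bif a then 2 else 0) ^^^ (bif b then 4 else 0) ^^^ (bif c then 8 else 0) ^^^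
          (bif d then 16 else 0)) &&& 28 = 4 := by decide +kernel
    exact key' _ _ _ _ (key 1 (by norm_num) (by norm_num)) (key 2 (by norm_num) (by norm_num))
      (key 3 (by norm_num) (by norm_num))
  · rw [el_low (hχ 0)]
    simp only [r, e0]

end Frame

end CfsgLib.Recog.CoOneCode
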