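import Cfsg.Agent.Lib.Recog.CoOneCode.Orbit

/-!
The orbit of the dual group with `276` members, indexed by the pairs of twenty-four masks (owner: helper8).
-/

set_option autoImplicit false
set_option linter.unusedSectionVars false
set_option linter.unusedVariables false
set_option quotPrecheck false
set_option maxRecDepth 100000
set_option maxHeartbeats 800000
set_option Elab.async false

namespace CfsgLib.Recog.CoOneCode

open CfsgLib.Recog.CoOneType CfsgLib.Recog.CoOneFive CfsgLib.ThreeTrans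

/-- Words pulling the first functional back to every functional. -/
def wToWords : List (List Nat) :=
  [[], [0], [0, 3], [0, 1], [0, 3, 1], [0, 3, 1, 0], [0, 3, 1, 0, 3], [0, 1, 2], [0, 3, 1, 2], [0, 3, 1, 0, 2], [0, 3, 1, 0, 2, 3], [0, 3, 1, 0, 2, 1], [0, 3, 1, 0, 2, 3, 1], [0, 3, 1, 0, 2, 3, 1, 0], [0, 3, 1, 0, 2, 3, 1, 0, 3]]

/-- Words pulling every functional back to the first. -/
def wFromWords : List (List Nat) :=
  [[], [0], [3, 0], [1, 0], [1, 3, 0], [0, 1, 3, 0], [3, 0, 1, 3, 0], [2, 1, 0], [2, 1, 3, 0], [0, 2, 1, 3, 0], [2, 3, 0, 1, 3, 0], [1, 0, 2, 1, 3, 0], [1, 2, 3, 0, 1, 3, 0], [0, 1, 2, 3, 0, 1, 3, 0], [3, 0, 1, 2, 3, 0, 1, 3, 0]]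

/-- Words pulling the first singular mask back to every singular one. -/
def coSWords : List (List Nat) :=
  [[], [1], [1, 0, 3, 1, 0], [1, 2], [1, 0, 3, 1, 0, 2], [1, 0, 3, 1, 0, 2, 1], [1, 0, 2, 3, 1, 0, 2, 3, 1, 0], [1, 0], [1, 0, 3, 1], [1, 0, 3], [1, 0, 3, 1, 3], [1, 0, 2], [1, 0, 3, 1, 2], [1, 0, 2, 3], [1, 0, 3, 1, 2, 3], [1, 0, 2, 3, 1, 0, 2, 1], [1, 0, 2, 3, 1, 0, 2, 3, 1], [1, 0, 2, 3, 1, 0, 2, 1, 3], [1, 0, 2, 3, 1, 0, 2, 3, 1, 3], [1, 0, 2, 1], [1, 0, 2, 3, 1, 2], [1, 0, 2, 3, 1], [1, 0, 3, 1, 2, 3, 1], [1, 0, 2, 3, 1, 0, 2], [1, 0, 2, 3, 1, 0, 2, 3], [1, 0, 2, 3, 1, 0, 2, 1, 3, 1], [1, 0, 2, 3, 1, 0, 2, 1, 3, 1, 3], [1, 0, 2, 3, 1, 0], [1, 0, 2, 3, 1, 0, 2, 1, 3, 1, 0], [1, 0, 2, 3, 1, 0, 3], [1, 0, 3, 1, 2, 3, 1, 0, 3, 1, 0], [1, 0, 3, 1, 2, 3, 1, 0], [1, 0, 3, 1, 2, 3, 1, 0, 3, 1, 2], [1, 0, 3, 1, 2, 3, 1, 0, 3, 1], [1, 0, 3, 1, 2, 3, 1, 0, 3]]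

/-- Words pulling every singular mask back to the first. -/
def coS1Words : List (List Nat) :=
  [[], [1], [0, 1, 3, 0, 1], [2, 1], [0, 2, 1, 3, 0, 1], [1, 0, 2, 1, 3, 0, 1], [0, 1, 2, 3, 0, 1, 2, 3, 0, 1], [0, 1], [1, 3, 0, 1], [3, 0, 1], [3, 1, 3, 0, 1], [0, 2, 1], [2, 1, 3, 0, 1], [2, 3, 0, 1], [2, 3, 1, 3, 0, 1], [0, 1, 0, 2, 1, 3, 0, 1], [1, 2, 3, 0, 1, 2, 3, 0, 1], [3, 0, 1, 0, 2, 1, 3, 0, 1], [3, 1, 2, 3, 0, 1, 2, 3, 0, 1], [1, 0, 2, 1], [1, 2, 1, 3, 0, 1], [1, 2, 3, 0, 1], [1, 2, 3, 1, 3, 0, 1], [0, 1, 2, 1, 3, 0, 1], [2, 3, 0, 1, 2, 3, 0, 1], [1, 3, 0, 1, 0, 2, 1, 3, 0, 1], [1, 3, 1, 2, 3, 0, 1, 2, 3, 0, 1], [0, 1, 2, 3, 0, 1], [0, 1, 3, 0, 1, 0, 2, 1, 3, 0, 1], [3, 0, 1, 2, 3, 0, 1], [0, 1, 3, 0, 1, 2, 3, 1, 3, 0, 1], [0, 1, 2, 3, 1, 3, 0, 1], [2, 1, 3, 0, 1, 2, 3, 1, 3, 0, 1], [1, 3, 0, 1, 2, 3, 1, 3, 0, 1], [3, 0, 1, 2, 3, 1, 3, 0, 1]]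

/-- Words pulling the standard nonsingular mask back to every one. -/
def coNWords : List (List Nat) :=
  [[1, 0], [1, 0, 3, 1], [1, 0, 3], [1, 0, 3, 1, 3], [1], [1, 0, 3, 1, 0], [1, 3], [1, 0, 3, 1, 0, 3], [1, 0, 3, 0], [1, 0, 3, 1, 3, 0], [1, 3, 0], [1, 3, 0, 1, 3, 1], [], [1, 3, 1, 2], [1, 3, 1], [1, 0, 3, 1, 0, 3, 1], [1, 0, 3, 0, 1], [1, 0, 3, 0, 1, 3], [1, 3, 0, 1], [1, 3, 0, 1, 3], [1, 3, 1, 0], [1, 3, 0, 1, 0], [1, 3, 1, 0, 3], [1, 3, 0, 1, 0, 3], [1, 3, 0, 1, 3, 0, 1], [1, 3, 0, 1, 3, 0], [1, 3, 0, 1, 0, 3, 0], [1, 3, 0, 1, 3, 0, 1, 3]]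

/-- Words moving every nontrivial class over the first functional. -/
def bWords : List (List Nat) :=
  [[2], [1], [1], [1], [1], [2], [0, 1, 3, 1, 0]]

/-- The eight maximal sets of masks with nonsingular differences through zero. -/
def starList : List (List Nat) :=
  [[0, 12, 22, 27, 39, 41, 53, 58], [0, 12, 23, 26, 37, 43, 54, 57], [0, 13, 22, 26, 35, 44, 49, 63], [0, 13, 23, 27, 33, 46, 50, 60], [0, 14, 18, 29, 39, 43, 49, 60], [0, 14, 19, 28, 37, 41, 50, 63], [0, 15, 18, 28, 35, 46, 53, 57], [0, 15, 19, 29, 33, 44, 54, 58]]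

/-- The low part of a pulled-back mask. -/
def lowL (L : List Nat) (l : Nat) : Nat :=
  mskN (fun i => if i = 0 then l.testBit 0 else par (unspr (app L (2 ^ (2 * (i - 1))))) l) 5

/-- The pull-back of a mask on the six bits. -/
def coF (L : List Nat) (k : Nat) : Nat := msk fun i => par (lamOf L ((2 ^ i) >>> 5) <<< 5) (k <<< 5)

/-- A mask without `z` part. -/
def aEl (x y : Nat) : Nat := cotau x 1 ^^^ cotau y 1

/-- The twenty-four masks. -/
def pMask (i : Nat) : Nat :=
  if i < 8 then 1 ^^^ ((starList.getD 0 []).getD i 0) <<< 5 else cotau (i - 8) 1 ^^^ 1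

/-- The change of coordinates by six bits. -/
def shiftMask (s f : Nat) : Nat := f ^^^ (bif f.testBit 0 then s <<< 5 else 0)

/-- The masks of the pairs. -/
def pairSet (s : Nat) : Finset Nat :=
  (((List.range 24).flatMap fun i => ((List.range i).map fun j => shiftMask s (pMask i ^^^ pMask j)))).toFinset

theorem mask_facts :
    ((List.range 64).all fun k => (List.range 11).all fun i =>
      par (2 ^ i) (k <<< 5) == par ((2 ^ i) >>> 5 <<< 5) (k <<< 5)) = true ∧
    ((List.range 11).all fun i => ((2 ^ i) &&& 31 == 2 ^ i) || decide (5 ≤ i)) = true ∧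
    ((List.range 16).all fun x => (List.range 64).all fun k => cotau x (k <<< 5) == k <<< 5 &&
      (cotau x (k <<< 5 ^^^ 1) &&& 31 == 1 ^^^ (x <<< 1)) && (cotau x (k <<< 5 ^^^ 1 ^^^ (x <<< 1)) &&& 31 == 1)) = true ∧
    ((List.range 16).all fun x => (List.range 16).all fun w =>
      (cotau x (1 ^^^ cotau w 1) == cotau x 1 ^^^ cotau (x ^^^ w) 1) && (aEl x w &&& 31 == (x ^^^ w) <<< 1)) = true ∧
    ((List.range 64).all fun k => (List.range 16).any fun x =>
      cotau x (k <<< 5 ^^^ 2) == ((k >>> 3) <<< 3) <<< 5 ^^^ 2) = true ∧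
    aEl 0 1 = 2 ∧ (List.range 2048).all (fun n => par n 1056 == ((n >>> 5).testBit 0 ^^ (n >>> 5).testBit 5)) = true := by
  decide +kernel

theorem word_facts :
    ((List.range 16).all fun w => w == 0 || wToWords.any fun ww => (lowL (levW ww) 2 == w <<< 1) &&
      (app (levW ww) (wsp w) == wsp 1)) = true ∧
    ((List.range 16).all fun w => w == 0 || wFromWords.any fun ww => lowL (levW ww) (w <<< 1) == 2) = true ∧
    ((List.range 64).all fun k => k == 0 || bif pf k then coNWords.any fun w => coF (levW w) 33 == k <<< 5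
      else (coSWords.any fun w => coF (levW w) 1 == k <<< 5) && (coS1Words.any fun w => coF (levW w) k == 1 <<< 5))
      = true ∧
    ((List.range 8).all fun h => h == 0 || bWords.any fun w => (app (levW w) (wsp 1) == wsp 1) &&
      (lowL (levW w) 2 == 2) && !((coF (levW w) (h <<< 3)) >>> 8 == h)) = true ∧
    (∀ L : List Nat, lowL L 0 < 32) := by
  refine ⟨by decide +kernel, by decide +kernel, by decide +kernel, by decide +kernel, fun L => ?_⟩
  exact Nat.lt_pow_two_of_testBit (n := 5) _ fun i hi => by rw [lowL, mskN_bit]; simp [not_lt.2 hi]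

theorem star_facts :
    ((List.range 64).all fun x => !pf x || (List.range 64).all fun y => !(pf y && pf (x ^^^ y)) ||
      (List.range 64).all fun e => !(pf e && pf (x ^^^ e) && pf (y ^^^ e)) ||
        (((List.range 64).all fun w => !(pf w && pf (x ^^^ w) && pf (y ^^^ w) && pf (e ^^^ w))) ||
          starList.any fun st => st.contains x && st.contains y && st.contains e && (List.range 64).all fun w =>
            !(pf w && pf (x ^^^ w) && pf (y ^^^ w) && pf (e ^^^ w)) || st.contains w)) = true ∧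
    (starList.all fun st => decide (st.length = 8) && decide (0 ∈ st) && (List.range 64).any fun s =>
      ((starList.getD 0 []).all fun e => st.contains (s ^^^ e))) = true ∧
    (starList.getD 0 []).length = 8 ∧ (starList.getD 0 []).Nodup ∧ (∀ e ∈ starList.getD 0 [], e < 64) ∧
    (starList.getD 0 []).all (fun a => (starList.getD 0 []).all fun b => a == b || pf (a ^^^ b)) = true ∧
    pf 0 = false := by
  decide +kernel

theorem count_facts :
    (∑ k ∈ Finset.range 64, if (k.testBit 0 ^^ k.testBit 5) = true then cnt k else 0) = 352 ∧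
    (∀ b : Bool, ((Finset.range 2048).filter fun f => f &&& 31 = 0 ∧ f >>> 5 ≠ 0 ∧
      (pf (f >>> 5) || b) = true).card = bif b then 63 else 28) ∧
    (∀ h < 8, ((Finset.range 2048).filter fun f => f &&& 31 = 2 ∧ f >>> 8 = h).card = 8) ∧
    (pairSet 0).card = 276 := by
  decide +kernel

theorem parN_split (n f : Nat) (hf : f < 32) : par n f = par (n &&& 31) f := by
  have h : f &&& 31 = f := (Nat.and_two_pow_sub_one_eq_mod f 5).trans (Nat.mod_eq_of_lt hf)
  unfold par
  rw [Nat.and_assoc, Nat.and_comm 31, h]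

theorem low_shift {f : Nat} (hf : f < 2048) :
    f = (f >>> 5) <<< 5 ^^^ (f &&& 31) ∧ f >>> 5 < 64 := by
  have key : ∀ f < 2048, f = (f >>> 5) <<< 5 ^^^ (f &&& 31) ∧ f >>> 5 < 64 := by decide +kernel
  exact key f hf

variable {G : Type*} [Group G] [Finite G] {z : G} {Q : Subgroup G} {p : G → Nat} {k u : G} {a r : Nat → G} {g : G}

open scoped _root_.Classical in
/-- The orbit of the standard nonsingular mask. -/
noncomputable def dSet (z : G) (Q : Subgroup G) (p : G → Nat) (a r : Nat → G) : Finset Nat :=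
  (Finset.range 2048).filter fun f => ∃ c ∈ Subgroup.normalizer (cGrp Q p 85 : Set G), co z a r c 1056 = f

namespace Ctx

variable (D : Ctx z Q p k a r g)
include D

local notation "NN" => Subgroup.normalizer (cGrp Q p 85 : Set G)
local notation "OS" => oSet z Q p a r
local notation "DS" => dSet z Q p a r
local notation "cN" => cn z a r
local notation "cO" => co z a r

theorem mem_d {f : Nat} : f ∈ DS ↔ f < 2048 ∧ ∃ c ∈ NN, cO c 1056 = f := by
  simp only [dSet, Finset.mem_filter, Finset.mem_range]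

theorem d_image {c : G} (hc : c ∈ NN) {f : Nat} (hf : f < 2048) : cO c f ∈ DS ↔ f ∈ DS := by
  constructor
  · intro h
    obtain ⟨-, d, hd, e⟩ := (mem_d D).1 h
    refine (mem_d D).2 ⟨hf, d * c⁻¹, mul_mem hd (inv_mem hc), ?_⟩
    rw [Coord.co_mul D.frame D.coord hd (inv_mem hc), e, (Coord.co_inv D.frame D.coord hc hf).1]
  · intro h
    obtain ⟨-, d, hd, e⟩ := (mem_d D).1 h
    exact (mem_d D).2 ⟨msk_lt _, d * c, mul_mem hd hc, by rw [Coord.co_mul D.frame D.coord hd hc, e]⟩

theorem base_mem_d : (1056 : Nat) ∈ DS :=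
  (mem_d D).2 ⟨by norm_num, 1, one_mem _, Coord.co_one D.frame D.coord (by norm_num)⟩

theorem co_zero {c : G} (hc : c ∈ NN) : cO c 0 = 0 := by
  have h := Coord.co_xor D.frame D.coord hc 0 0
  rw [Nat.xor_self, Nat.xor_self] at h
  exact h

theorem zero_not_mem_d : (0 : Nat) ∉ DS := by
  intro h
  obtain ⟨-, c, hc, e⟩ := (mem_d D).1 h
  rw [← co_zero D hc] at e
  exact absurd (Coord.co_injective D.frame D.coord hc (by norm_num) (by norm_num) e) (by norm_num)

theorem d_tau {x f : Nat} (hx : x < 16) (hf : f < 2048) : cotau x f ∈ DS ↔ f ∈ DS := by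
  obtain ⟨q, -, hq, -, -, -, hco⟩ := Coord.exists_tau D.frame D.coord hx
  rw [← hco f]
  exact d_image D hq hf

theorem cotau_xor {x : Nat} (hx : x < 16) (f f' : Nat) : cotau x (f ^^^ f') = cotau x f ^^^ cotau x f' := by
  obtain ⟨q, -, hq, -, -, -, hco⟩ := Coord.exists_tau D.frame D.coord hx
  rw [← hco, ← hco, ← hco, Coord.co_xor D.frame D.coord hq]

/-- The incidences at a mask of the orbit. -/
theorem odd_count {f : Nat} (hf : f ∈ DS) : ((OS).filter fun n => par n f = true).card = 352 := by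
  obtain ⟨-, c, hc, rfl⟩ := (mem_d D).1 hf
  have hbase : ((OS).filter fun n => par n 1056 = true).card = 352 := by
    rw [Finset.card_eq_sum_card_fiberwise (f := fun n => n >>> 5) (t := Finset.range 64) fun n hn =>
      Finset.mem_coe.2 (Finset.mem_range.2 (low_shift ((mem_o D).1 (Finset.mem_filter.1 hn).1).1).2)]
    rw [← count_facts.1]
    refine Finset.sum_congr rfl fun k0 hk => ?_
    rw [Finset.filter_filter]
    have hp : ∀ n ∈ OS, n >>> 5 = k0 → par n 1056 = (k0.testBit 0 ^^ k0.testBit 5) := by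
      intro n hn e
      have := List.all_eq_true.1 mask_facts.2.2.2.2.2.2 n (List.mem_range.2 ((mem_o D).1 hn).1)
      rw [beq_iff_eq, e] at this
      exact this
    split_ifs with h
    · rw [← fibre_count D (Finset.mem_range.1 hk)]
      congr 1
      exact Finset.filter_congr fun n hn => ⟨fun e => e.2, fun e => ⟨by rw [hp n hn e, h], e⟩⟩
    · rw [Finset.card_eq_zero, Finset.filter_eq_empty_iff]
      rintro n hn ⟨e1, e2⟩
      rw [hp n hn e2] at e1
      exact h e1
  rw [← hbase]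
  have hcn := fun n => (Coord.cn_spec D.frame D.coord hc n).1
  refine Finset.card_bij (fun n _ => cN c n) ?_ ?_ ?_
  · intro n hn
    obtain ⟨hO, hp⟩ := Finset.mem_filter.1 hn
    have hlt := ((mem_o D).1 hO).1
    rw [Coord.par_co D.frame D.coord hc 1056 hlt] at hp
    exact Finset.mem_filter.2 ⟨(o_image D hc hlt).2 hO, hp⟩
  · intro m hm n hn e
    have hm' := ((mem_o D).1 (Finset.mem_filter.1 hm).1).1
    have hn' := ((mem_o D).1 (Finset.mem_filter.1 hn).1).1
    rw [← Coord.cn_one D.frame D.coord hm', ← Coord.cn_one D.frame D.coord hn', ← inv_mul_cancel c,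
      Coord.cn_mul D.frame D.coord (inv_mem hc) hc, Coord.cn_mul D.frame D.coord (inv_mem hc) hc, e]
  · intro n hn
    obtain ⟨hO, hp⟩ := Finset.mem_filter.1 hn
    have hlt := ((mem_o D).1 hO).1
    have hm := (Coord.cn_spec D.frame D.coord (inv_mem hc) n).1
    have em : cN c (cN c⁻¹ n) = n := by
      rw [← Coord.cn_mul D.frame D.coord hc (inv_mem hc), mul_inv_cancel, Coord.cn_one D.frame D.coord hlt]
    exact ⟨_, Finset.mem_filter.2 ⟨(o_image D (inv_mem hc) hlt).2 hO,
      by rw [Coord.par_co D.frame D.coord hc 1056 hm, em]; exact hp⟩, em⟩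

theorem odd_dual {n : Nat} (hn : n ∈ OS) :
    ((DS).filter fun f => par n f = true).card = ((DS).filter fun f => par 1 f = true).card := by
  obtain ⟨-, c, hc, rfl⟩ := (mem_o D).1 hn
  refine Finset.card_bij (fun f _ => cO c f) ?_ ?_ ?_
  · intro f hf
    obtain ⟨hD, hp⟩ := Finset.mem_filter.1 hf
    exact Finset.mem_filter.2 ⟨(d_image D hc ((mem_d D).1 hD).1).2 hD,
      by rw [Coord.par_co D.frame D.coord hc f (by norm_num)]; exact hp⟩
  · intro f hf f' hf' e
    exact Coord.co_injective D.frame D.coord hc ((mem_d D).1 (Finset.mem_filter.1 hf).1).1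
      ((mem_d D).1 (Finset.mem_filter.1 hf').1).1 e
  · intro f hf
    obtain ⟨hD, hp⟩ := Finset.mem_filter.1 hf
    have hlt := ((mem_d D).1 hD).1
    have e := (Coord.co_inv D.frame D.coord hc hlt).2
    refine ⟨cO c⁻¹ f, Finset.mem_filter.2 ⟨(d_image D (inv_mem hc) hlt).2 hD, ?_⟩, e⟩
    rw [← Coord.par_co D.frame D.coord hc _ (by norm_num : (1 : Nat) < 2048), e]
    exact hp

theorem double_count : 759 * ((DS).filter fun f => par 1 f = true).card = (DS).card * 352 := by
  have h : ∑ n ∈ OS, ((DS).filter fun f => par n f = true).card =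
      ∑ f ∈ DS, ((OS).filter fun n => par n f = true).card := by
    simp only [Finset.card_filter]
    exact Finset.sum_comm
  rw [Finset.sum_congr rfl (fun n hn => odd_dual D hn), Finset.sum_congr rfl (fun f hf => odd_count D hf),
    Finset.sum_const, Finset.sum_const, smul_eq_mul, smul_eq_mul, (o_card D).1] at h
  exact h

theorem co_low {c : G} {w : List Nat} (hc : Exact z Q p a r c w) (f : Nat) :
    cO c f &&& 31 = lowL (levW w) (f &&& 31) := by
  refine Nat.eq_of_testBit_eq fun i => ?_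
  rw [Nat.testBit_and, lowL, mskN_bit, show (31 : Nat) = 2 ^ 5 - 1 from rfl, Nat.testBit_two_pow_sub_one, co, msk,
    mskN_bit]
  by_cases hi : i < 5
  · simp only [hi, (by omega : i < 11), decide_true, Bool.and_true, Bool.true_and]
    rcases i with _ | j
    · rw [if_pos rfl, pow_zero, Coord.cn_of_comm D.frame D.coord (by norm_num)
        (by rw [(el_gen (z := z) a r).1]; exact hc.comm)]
      rw [show (1 : Nat) = 2 ^ 0 from rfl, par_two_pow (by norm_num), Nat.testBit_and]
      simp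
    · rw [if_neg (Nat.succ_ne_zero j), hc.cn_a j (by omega), Nat.succ_sub_one]
      have hlt : ∀ w, unspr w < 32 := by
        intro w
        have : ∀ a b c d : Bool, (bif a then 2 else 0) ^^^ (bif b then 4 else 0) ^^^ (bif c then 8 else 0) ^^^
            (bif d then 16 else 0) < 32 := by decide +kernel
        exact this _ _ _ _
      rw [par_comm, parN_split _ _ (hlt _), par_comm]
      rfl
  · simp [hi]

theorem co_high {c : G} {w : List Nat} (hc : Exact z Q p a r c w) {k0 : Nat} (hk : k0 < 64) :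
    cO c (k0 <<< 5) = coF (levW w) k0 := by
  have split : ∀ n < 2048, par n (k0 <<< 5) = par (n >>> 5 <<< 5) (k0 <<< 5) := by
    refine lin11 (fun a b => a ^^ b) _ _ (fun a b _ _ => par_xor_left a b _)
      (fun a b _ _ => by rw [Nat.shiftRight_xor_distrib, Nat.shiftLeft_xor_distrib, par_xor_left])
      (by simp) fun i hi => ?_
    exact beq_iff_eq.1 (List.all_eq_true.1 (List.all_eq_true.1 mask_facts.1 k0 (List.mem_range.2 hk)) i
      (List.mem_range.2 hi))
  refine par_ext (msk_lt _) (msk_lt _) fun i hi => ?_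
  have h2 : 2 ^ i < 2048 := Nat.pow_lt_pow_right (by norm_num) hi
  rw [Coord.par_co D.frame D.coord hc.norm _ h2, split _ (Coord.cn_spec D.frame D.coord hc.norm _).1,
    hc.cn_r _ h2, par_two_pow hi, coF, msk, mskN_bit]
  simp [hi]

/-- The images of the masks without `z` part of the first kind. -/
theorem co_aEl {c : G} {w : List Nat} (hc : Exact z Q p a r c w) {x x' y y' : Nat} (hx : x < 16) (hx' : x' < 16)
    (hy : y < 16) (hy' : y' < 16) (e : app (levW w) (wsp y) = wsp x) (e' : app (levW w) (wsp y') = wsp x') :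
    cO c (aEl x x') = aEl y y' := by
  have hone : cO c 1 &&& 31 = 1 := by
    rw [co_low D hc, show (1 : Nat) &&& 31 = 1 from rfl, lowL]
    refine Nat.eq_of_testBit_eq fun i => ?_
    rw [mskN_bit]
    rcases i with _ | j
    · simp
    · have hj : ∀ w, (unspr w).testBit 0 = false := by
        intro w
        have : ∀ a b c d : Bool, ((bif a then 2 else 0) ^^^ (bif b then 4 else 0) ^^^ (bif c then 8 else 0) ^^^
            (bif d then 16 else 0)).testBit 0 = false := by decide +kernel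
        exact this _ _ _ _
      rw [show par (unspr (app (levW w) (2 ^ (2 * (j + 1 - 1))))) 1 = false by
        rw [show (1 : Nat) = 2 ^ 0 from rfl, par_comm, par_two_pow (by norm_num)]; exact hj _]
      simp [Nat.testBit_one_eq_true_iff_self_eq_zero, Nat.testBit_add_one]
  obtain ⟨h1, h1'⟩ := low_shift (msk_lt (fun i => par (cN c (2 ^ i)) 1))
  set ζ := (cO c 1) >>> 5 with hζ
  have e1 : cO c 1 = ζ <<< 5 ^^^ 1 := h1.trans (congrArg (fun t => ζ <<< 5 ^^^ t) hone)
  have step : ∀ x y, x < 16 → y < 16 → app (levW w) (wsp y) = wsp x → cO c (cotau x 1) = ζ <<< 5 ^^^ cotau y 1 := by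
    intro x y hx hy e
    obtain ⟨q, hqQ, hqN, hqz, hpq, -, hco⟩ := Coord.exists_tau D.frame D.coord hx
    have hq' : c⁻¹ * q * c ∈ Q := by
      have := D.frame.sys.large.conj_mem hc.comm.inv_left hqQ
      rwa [inv_inv] at this
    have hp' : p (c⁻¹ * q * c) = wsp y := by
      refine D.frame.sys.app_inj hc.acts (D.frame.sys.lt _ hq') (tau_facts.1 y hy) ?_
      rw [← hc.acts.2 _ hq', e, ← hpq]
      congr 1
      group
    have hN' := Coord.q_norm D.frame D.coord hq'
    rw [← hco, ← Coord.co_mul D.frame D.coord hqN hc.norm, show q * c = c * (c⁻¹ * q * c) by group,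
      Coord.co_mul D.frame D.coord hc.norm hN', Coord.co_tau D.frame D.coord hy hq' hp', e1, cotau_xor D hy]
    congr 1
    have := List.all_eq_true.1 (List.all_eq_true.1 mask_facts.2.2.1 y (List.mem_range.2 hy)) ζ (List.mem_range.2 h1')
    simp only [Bool.and_eq_true, beq_iff_eq] at this
    exact this.1.1
  rw [aEl, Coord.co_xor D.frame D.coord hc.norm, step x y hx hy e, step x' y' hx' hy' e', aEl]
  calc ζ <<< 5 ^^^ cotau y 1 ^^^ (ζ <<< 5 ^^^ cotau y' 1)
      = (ζ <<< 5 ^^^ ζ <<< 5) ^^^ (cotau y 1 ^^^ cotau y' 1) := by ac_rfl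
    _ = _ := by rw [Nat.xor_self, Nat.zero_xor]

/-- The members with given low part. -/
theorem fib_le {c : G} {w : List Nat} (hc : Exact z Q p a r c w) (l : Nat) :
    ((DS).filter fun f => f &&& 31 = l).card ≤ ((DS).filter fun f => f &&& 31 = lowL (levW w) l).card := by
  refine Finset.card_le_card_of_injOn (fun f => cO c f) ?_ ?_
  · intro f hf
    obtain ⟨hD, hl⟩ := Finset.mem_filter.1 hf
    exact Finset.mem_filter.2 ⟨(d_image D hc.norm ((mem_d D).1 hD).1).2 hD, by rw [co_low D hc, hl]⟩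
  · intro f hf f' hf' e
    exact Coord.co_injective D.frame D.coord hc.norm ((mem_d D).1 (Finset.mem_filter.1 hf).1).1
      ((mem_d D).1 (Finset.mem_filter.1 hf').1).1 e

theorem fib_even {w : Nat} (h0 : w ≠ 0) (hw : w < 16) :
    ((DS).filter fun f => f &&& 31 = w <<< 1).card = ((DS).filter fun f => f &&& 31 = 2).card := by
  have h1 := List.all_eq_true.1 word_facts.1 w (List.mem_range.2 hw)
  have h2 := List.all_eq_true.1 word_facts.2.1 w (List.mem_range.2 hw)
  simp only [Bool.or_eq_true, beq_iff_eq, h0, false_or, List.any_eq_true, Bool.and_eq_true] at h1 h2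
  obtain ⟨w1, -, e1, -⟩ := h1
  obtain ⟨w2, -, e2⟩ := h2
  obtain ⟨c1, hc1⟩ := Coord.exists_exact D.frame D.coord w1
  obtain ⟨c2, hc2⟩ := Coord.exists_exact D.frame D.coord w2
  exact le_antisymm (e2 ▸ fib_le D hc2 (w <<< 1)) (e1 ▸ fib_le D hc1 2)

theorem fib_odd {x : Nat} (hx : x < 16) :
    ((DS).filter fun f => f &&& 31 = 1 ^^^ x <<< 1).card = ((DS).filter fun f => f &&& 31 = 1).card := by
  obtain ⟨q, -, hq, -, -, -, hco⟩ := Coord.exists_tau D.frame D.coord hx
  have inj : ∀ {f f' : Nat}, f ∈ DS → f' ∈ DS → cotau x f = cotau x f' → f = f' := by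
    intro f f' hf hf' e
    rw [← hco, ← hco] at e
    exact Coord.co_injective D.frame D.coord hq ((mem_d D).1 hf).1 ((mem_d D).1 hf').1 e
  have fact : ∀ f < 2048, (f &&& 31 = 1 → cotau x f &&& 31 = 1 ^^^ x <<< 1) ∧
      (f &&& 31 = 1 ^^^ x <<< 1 → cotau x f &&& 31 = 1) := by
    intro f hf
    obtain ⟨e, hk⟩ := low_shift hf
    have := List.all_eq_true.1 (List.all_eq_true.1 mask_facts.2.2.1 x (List.mem_range.2 hx)) _ (List.mem_range.2 hk)
    simp only [Bool.and_eq_true, beq_iff_eq] at this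
    exact ⟨fun h => by rw [e, h]; exact this.1.2, fun h => by rw [e, h, ← Nat.xor_assoc]; exact this.2⟩
  apply le_antisymm <;> refine Finset.card_le_card_of_injOn (fun f => cotau x f) ?_ (fun f hf f' hf' e =>
    inj (Finset.mem_filter.1 hf).1 (Finset.mem_filter.1 hf').1 e)
  · intro f hf
    obtain ⟨hD, hl⟩ := Finset.mem_filter.1 hf
    exact Finset.mem_filter.2 ⟨(d_tau D hx ((mem_d D).1 hD).1).2 hD, (fact f ((mem_d D).1 hD).1).2 hl⟩
  · intro f hf
    obtain ⟨hD, hl⟩ := Finset.mem_filter.1 hf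
    exact Finset.mem_filter.2 ⟨(d_tau D hx ((mem_d D).1 hD).1).2 hD, (fact f ((mem_d D).1 hD).1).1 hl⟩

theorem fib_zero : ∃ b : Bool, ((DS).filter fun f => f &&& 31 = 0).card = (bif b then 63 else 28) := by
  classical
  refine ⟨decide ((1 : Nat) <<< 5 ∈ DS), ?_⟩
  have key : ∀ f < 2048, f &&& 31 = 0 →
      (f ∈ DS ↔ (f >>> 5 ≠ 0 ∧ (pf (f >>> 5) || decide ((1 : Nat) <<< 5 ∈ DS)) = true)) := by
    intro f hf hl
    obtain ⟨e, hk⟩ := low_shift hf
    rw [hl, Nat.xor_zero] at e
    by_cases h0 : f >>> 5 = 0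
    · simp only [h0, ne_eq, not_true_eq_false, false_and, iff_false]
      rw [e, h0]
      exact zero_not_mem_d D
    simp only [ne_eq, h0, not_false_eq_true, true_and, Bool.or_eq_true, decide_eq_true_eq]
    have h := List.all_eq_true.1 word_facts.2.2.1 _ (List.mem_range.2 hk)
    simp only [Bool.or_eq_true, beq_iff_eq, h0, false_or] at h
    cases hp : pf (f >>> 5)
    · simp only [hp, cond_false, Bool.and_eq_true, List.any_eq_true, beq_iff_eq] at h
      obtain ⟨⟨w1, -, e1⟩, ⟨w2, -, e2⟩⟩ := h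
      obtain ⟨c1, hc1⟩ := Coord.exists_exact D.frame D.coord w1
      obtain ⟨c2, hc2⟩ := Coord.exists_exact D.frame D.coord w2
      simp only [Bool.false_eq_true, false_or]
      constructor
      · intro h'
        rw [e, ← d_image D hc2.norm (e ▸ hf), co_high D hc2 hk, e2] at h'
        exact h'
      · intro h'
        rw [← d_image D hc1.norm (by decide : (1 : Nat) <<< 5 < 2048), co_high D hc1 (by norm_num), e1, ← e] at h'
        exact h'
    · simp only [hp, cond_true, List.any_eq_true, beq_iff_eq] at h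
      obtain ⟨w1, -, e1⟩ := h
      obtain ⟨c1, hc1⟩ := Coord.exists_exact D.frame D.coord w1
      refine iff_of_true ?_ (Or.inl rfl)
      have h' := (d_image D hc1.norm (by norm_num : (1056 : Nat) < 2048)).2 (base_mem_d D)
      rw [show (1056 : Nat) = 33 <<< 5 from rfl, co_high D hc1 (by norm_num), e1, ← e] at h'
      exact h'
  rw [← count_facts.2.1 (decide ((1 : Nat) <<< 5 ∈ DS))]
  congr 1
  ext f
  simp only [Finset.mem_filter, Finset.mem_range]
  constructor
  · rintro ⟨hD, hl⟩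
    have hf := ((mem_d D).1 hD).1
    exact ⟨hf, hl, (key f hf hl).1 hD⟩
  · rintro ⟨hf, hl, h⟩
    exact ⟨(key f hf hl).2 h, hl⟩

/-- The classes over the first functional. -/
theorem fib_two : ∃ H : Finset Nat, (∀ h ∈ H, h < 8) ∧
    (∀ f < 2048, f &&& 31 = 2 → (f ∈ DS ↔ f >>> 8 ∈ H)) ∧ ((DS).filter fun f => f &&& 31 = 2).card = 8 * H.card := by
  classical
  refine ⟨(Finset.range 8).filter fun h => (h <<< 3) <<< 5 ^^^ 2 ∈ DS, fun h hh => by simpa using
    (Finset.mem_filter.1 hh).1, ?_, ?_⟩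
  · intro f hf hl
    obtain ⟨e, hk⟩ := low_shift hf
    rw [hl] at e
    have h8 : f >>> 8 < 8 ∧ (f >>> 5) >>> 3 = f >>> 8 := by
      constructor
      · rw [Nat.shiftRight_eq_div_pow]; omega
      · rw [← Nat.shiftRight_add]
    have h := List.all_eq_true.1 mask_facts.2.2.2.2.1 _ (List.mem_range.2 hk)
    simp only [List.any_eq_true, List.mem_range, beq_iff_eq] at h
    obtain ⟨x, hx, ex⟩ := h
    rw [← e, h8.2] at ex
    rw [← d_tau D hx hf, ex]
    simp [h8.1]
  ·
    rw [Finset.card_eq_sum_card_fiberwise (f := fun f => f >>> 8) (t := Finset.range 8) fun f hf => by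
      have := ((mem_d D).1 (Finset.mem_filter.1 hf).1).1
      refine Finset.mem_coe.2 (Finset.mem_range.2 ?_)
      simp only [Nat.shiftRight_eq_div_pow]
      omega]
    rw [Finset.card_filter (fun h => (h <<< 3) <<< 5 ^^^ 2 ∈ DS), Finset.mul_sum]
    refine Finset.sum_congr rfl fun h hh => ?_
    rw [Finset.filter_filter]
    have hin : ∀ f < 2048, f &&& 31 = 2 → f >>> 8 = h → (f ∈ DS ↔ (h <<< 3) <<< 5 ^^^ 2 ∈ DS) := by
      intro f hf hl e8
      obtain ⟨e, hk⟩ := low_shift hf
      rw [hl] at e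
      have h' := List.all_eq_true.1 mask_facts.2.2.2.2.1 _ (List.mem_range.2 hk)
      simp only [List.any_eq_true, List.mem_range, beq_iff_eq] at h'
      obtain ⟨x, hx, ex⟩ := h'
      rw [← e, ← Nat.shiftRight_add, e8] at ex
      rw [← d_tau D hx hf, ex]
    split_ifs with hD
    · rw [mul_one]
      refine Eq.trans ?_ (count_facts.2.2.1 h (Finset.mem_range.1 hh))
      congr 1
      ext f
      simp only [Finset.mem_filter, Finset.mem_range]
      exact ⟨fun ⟨h1, h2⟩ => ⟨((mem_d D).1 h1).1, h2⟩, fun ⟨h1, h2⟩ => ⟨(hin f h1 h2.1 h2.2).2 hD, h2⟩⟩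
    · rw [mul_zero, Finset.card_eq_zero, Finset.filter_eq_empty_iff]
      rintro f hf ⟨h1, h2⟩
      exact hD ((hin f ((mem_d D).1 hf).1 h1 h2).1 hf)

theorem d_split : (DS).card = ((DS).filter fun f => f &&& 31 = 0).card +
      15 * ((DS).filter fun f => f &&& 31 = 2).card + 16 * ((DS).filter fun f => f &&& 31 = 1).card ∧
    ((DS).filter fun f => par 1 f = true).card = 16 * ((DS).filter fun f => f &&& 31 = 1).card := by
  have hmem : ∀ f ∈ DS, f &&& 31 < 32 := fun f _ => Nat.lt_succ_of_le Nat.and_le_right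
  have hcases : ∀ l < 32, l = 0 ∨ (l % 2 = 0 ∧ l / 2 ≠ 0 ∧ l / 2 < 16 ∧ l = (l / 2) <<< 1) ∨
      (l % 2 = 1 ∧ l / 2 < 16 ∧ l = 1 ^^^ (l / 2) <<< 1) := by decide +kernel
  have hval : ∀ l ∈ Finset.range 32, ((DS).filter fun f => f &&& 31 = l).card =
      if l = 0 then ((DS).filter fun f => f &&& 31 = 0).card else
        if l % 2 = 0 then ((DS).filter fun f => f &&& 31 = 2).card else
          ((DS).filter fun f => f &&& 31 = 1).card := by
    intro l hl
    rcases hcases l (Finset.mem_range.1 hl) with rfl | ⟨h2, h0, hlt, e⟩ | ⟨h2, hlt, e⟩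
    · rfl
    · rw [if_neg (by omega), if_pos h2]
      conv_lhs => rw [e]
      exact fib_even D h0 hlt
    · rw [if_neg (by omega), if_neg (by omega)]
      conv_lhs => rw [e]
      exact fib_odd D hlt
  constructor
  · rw [Finset.card_eq_sum_card_fiberwise (f := fun f => f &&& 31) (t := Finset.range 32)
      fun f hf => Finset.mem_coe.2 (Finset.mem_range.2 (hmem f hf)), Finset.sum_congr rfl hval]
    simp [Finset.sum_range_succ]
    ring
  · rw [Finset.card_eq_sum_card_fiberwise (f := fun f => f &&& 31) (t := Finset.range 32)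
      fun f hf => Finset.mem_coe.2 (Finset.mem_range.2 (hmem f (Finset.mem_filter.1 hf).1))]
    rw [Finset.sum_congr rfl (g := fun l => if l % 2 = 1 then ((DS).filter fun f => f &&& 31 = 1).card else 0)
      fun l hl => ?_]
    · simp [Finset.sum_range_succ]
      ring
    rw [Finset.filter_filter]
    have hb : ∀ f, f &&& 31 = l → par 1 f = decide (l % 2 = 1) := by
      intro f e
      rw [show (1 : Nat) = 2 ^ 0 from rfl, par_two_pow (by norm_num), ← e, Nat.testBit_zero]
      congr 2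
      rw [show (31 : Nat) = 2 ^ 5 - 1 from rfl, Nat.and_two_pow_sub_one_eq_mod]
      omega
    split_ifs with h
    · have := hval l hl
      rw [if_neg (by omega), if_neg (by omega)] at this
      rw [← this]
      congr 1
      exact Finset.filter_congr fun f _ => ⟨fun e => e.2, fun e => ⟨by rw [hb f e]; simpa using h, e⟩⟩
    · rw [Finset.card_eq_zero, Finset.filter_eq_empty_iff]
      rintro f - ⟨e1, e2⟩
      rw [hb f e2] at e1
      exact h (by simpa using e1)

/-- The parameters. -/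
theorem params : (DS).card = 276 ∧ ((DS).filter fun f => f &&& 31 = 1).card = 8 ∧
    ∀ f < 2048, f &&& 31 = 2 → (f ∈ DS ↔ f >>> 8 = 0) := by
  obtain ⟨b, hb⟩ := fib_zero D
  obtain ⟨H, hH8, hH, hcard⟩ := fib_two D
  obtain ⟨h1, h2⟩ := d_split D
  have hdc := double_count D
  have hs : ((DS).filter fun f => f &&& 31 = 1).card ≤ 64 := by
    refine le_trans (Finset.card_le_card_of_injOn (fun f => f >>> 5) (t := Finset.range 64) ?_ ?_)
      (Finset.card_range 64).le
    · intro f hf
      exact Finset.mem_coe.2 (Finset.mem_range.2 (low_shift ((mem_d D).1 (Finset.mem_filter.1 hf).1).1).2)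
    · intro f hf f' hf' e
      obtain ⟨hD, hl⟩ := Finset.mem_filter.1 hf
      obtain ⟨hD', hl'⟩ := Finset.mem_filter.1 hf'
      simp only at e
      rw [(low_shift ((mem_d D).1 hD).1).1, (low_shift ((mem_d D).1 hD').1).1, e, hl, hl']
  have hm : H.card ≤ 8 :=
    le_trans (Finset.card_le_card fun h hh => Finset.mem_range.2 (hH8 h hh)) (Finset.card_range 8).le
  rw [h2, h1, hb, hcard] at hdc
  rw [h1, hb, hcard]
  obtain ⟨hm1, hs8, hb'⟩ : H.card = 1 ∧ ((DS).filter fun f => f &&& 31 = 1).card = 8 ∧ b = false := by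
    cases b <;> simp only [cond_true, cond_false] at hdc <;>
      refine ⟨by omega, by omega, ?_⟩ <;> first | rfl | omega
  refine ⟨by rw [hm1, hs8, hb']; rfl, hs8, fun f hf hl => ?_⟩
  obtain ⟨h0, rfl⟩ := Finset.card_eq_one.1 hm1
  rw [hH f hf hl, Finset.mem_singleton]
  suffices h0 = 0 by rw [this]
  by_contra hne
  have h8 := hH8 h0 (Finset.mem_singleton_self _)
  have hw := List.all_eq_true.1 word_facts.2.2.2.1 h0 (List.mem_range.2 h8)
  simp only [Bool.or_eq_true, beq_iff_eq, hne, false_or, List.any_eq_true, Bool.and_eq_true, Bool.not_eq_true',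
    beq_eq_false_iff_ne] at hw
  obtain ⟨w, -, ⟨hw1, hw2⟩, hw3⟩ := hw
  obtain ⟨c, hc⟩ := Coord.exists_exact D.frame D.coord w
  have hk : h0 <<< 3 < 64 := by rw [Nat.shiftLeft_eq]; omega
  have key : ∀ h < 8, ((h <<< 3) <<< 5 ^^^ 2) &&& 31 = 2 ∧ ((h <<< 3) <<< 5 ^^^ 2) >>> 8 = h ∧
      (h <<< 3) <<< 5 ^^^ 2 < 2048 := by decide +kernel
  obtain ⟨g1, g2, g3⟩ := key h0 h8
  have hmem : (h0 <<< 3) <<< 5 ^^^ 2 ∈ DS := (hH _ g3 g1).2 (Finset.mem_singleton.2 g2)
  have h2' := (d_image D hc.norm g3).2 hmem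
  have himg : cO c 2 = 2 := by
    have := co_aEl D hc (x := 0) (x' := 1) (y := 0) (y' := 1) (by norm_num) (by norm_num) (by norm_num) (by norm_num)
      (by rw [show wsp 0 = 0 by decide +kernel, app_zero]) hw1
    rwa [mask_facts.2.2.2.2.2.1] at this
  have hlow : cO c ((h0 <<< 3) <<< 5 ^^^ 2) &&& 31 = 2 := by rw [co_low D hc, g1, hw2]
  have h3 := (hH (cO c ((h0 <<< 3) <<< 5 ^^^ 2)) (msk_lt _) hlow).1 h2'
  rw [Coord.co_xor D.frame D.coord hc.norm, himg, co_high D hc hk, Finset.mem_singleton,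
    Nat.shiftRight_xor_distrib, show (2 : Nat) >>> 8 = 0 from rfl, Nat.xor_zero] at h3
  exact hw3 h3

/-- The masks with `z` part over the trivial functional form a translate of a star. -/
theorem exists_star : ∃ s < 64, ∀ e ∈ starList.getD 0 [], (s ^^^ e) <<< 5 ^^^ 1 ∈ DS := by
  classical
  set S := ((DS).filter fun f => f &&& 31 = 1).image (fun f => f >>> 5) with hS
  have hSd : ∀ {x}, x ∈ S ↔ x < 64 ∧ x <<< 5 ^^^ 1 ∈ DS := by
    intro x
    rw [hS, Finset.mem_image]
    constructor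
    · rintro ⟨f, hf, rfl⟩
      obtain ⟨hD, hl⟩ := Finset.mem_filter.1 hf
      obtain ⟨e, hk⟩ := low_shift ((mem_d D).1 hD).1
      rw [hl] at e
      exact ⟨hk, e ▸ hD⟩
    · rintro ⟨hx, hD⟩
      have key : ∀ x < 64, (x <<< 5 ^^^ 1) &&& 31 = 1 ∧ (x <<< 5 ^^^ 1) >>> 5 = x := by decide +kernel
      exact ⟨_, Finset.mem_filter.2 ⟨hD, (key x hx).1⟩, (key x hx).2⟩
  have hS8 : S.card = 8 := by
    rw [hS, Finset.card_image_of_injOn, (params D).2.1]
    intro f hf f' hf' e
    obtain ⟨hD, hl⟩ := Finset.mem_filter.1 hf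
    obtain ⟨hD', hl'⟩ := Finset.mem_filter.1 hf'
    simp only at e
    rw [(low_shift ((mem_d D).1 hD).1).1, (low_shift ((mem_d D).1 hD').1).1, e, hl, hl']
  -- differences are nonsingular
  have hdiff : ∀ x ∈ S, ∀ y ∈ S, x ≠ y → pf (x ^^^ y) = true := by
    intro x hx y hy hxy
    by_contra hpf
    rw [Bool.not_eq_true] at hpf
    have hd : x ^^^ y < 64 := Nat.xor_lt_two_pow (n := 6) (hSd.1 hx).1 (hSd.1 hy).1
    have h := List.all_eq_true.1 word_facts.2.2.1 _ (List.mem_range.2 hd)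
    simp only [Bool.or_eq_true, beq_iff_eq, Nat.xor_eq_zero_iff, hxy, false_or, hpf, cond_false,
      Bool.and_eq_true, List.any_eq_true] at h
    obtain ⟨-, w1, -, e1⟩ := h
    -- the images of the pair under a word
    have move : ∀ (w : List Nat) (x y : Nat), x ∈ S → y ∈ S → ∀ d, d < 64 → coF (levW w) (x ^^^ y) = d <<< 5 →
        ∃ x' ∈ S, ∃ y' ∈ S, x' ^^^ y' = d := by
      intro w x y hx hy d hd e
      obtain ⟨c, hc⟩ := Coord.exists_exact D.frame D.coord w
      have img : ∀ x ∈ S, cO c (x <<< 5 ^^^ 1) ∈ DS ∧ cO c (x <<< 5 ^^^ 1) &&& 31 = 1 := by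
        intro x hx
        obtain ⟨hlt, hD⟩ := hSd.1 hx
        refine ⟨(d_image D hc.norm ((mem_d D).1 hD).1).2 hD, ?_⟩
        rw [co_low D hc]
        have key : ∀ x < 64, (x <<< 5 ^^^ 1) &&& 31 = 1 := by decide +kernel
        rw [key x hlt, lowL]
        refine Nat.eq_of_testBit_eq fun i => ?_
        rw [mskN_bit]
        rcases i with _ | j
        · simp
        · rw [show par (unspr (app (levW w) (2 ^ (2 * (j + 1 - 1))))) 1 = false by
            rw [show (1 : Nat) = 2 ^ 0 from rfl, par_comm, par_two_pow (by norm_num)]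
            have : ∀ a b c d : Bool, ((bif a then 2 else 0) ^^^ (bif b then 4 else 0) ^^^ (bif c then 8 else 0) ^^^
                (bif d then 16 else 0)).testBit 0 = false := by decide +kernel
            exact this _ _ _ _]
          simp [Nat.testBit_add_one]
      refine ⟨cO c (x <<< 5 ^^^ 1) >>> 5, ?_, cO c (y <<< 5 ^^^ 1) >>> 5, ?_, ?_⟩
      · exact Finset.mem_image.2 ⟨_, Finset.mem_filter.2 (img x hx), rfl⟩
      · exact Finset.mem_image.2 ⟨_, Finset.mem_filter.2 (img y hy), rfl⟩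
      · have hxy' : x ^^^ y < 64 := Nat.xor_lt_two_pow (n := 6) (hSd.1 hx).1 (hSd.1 hy).1
        have es : x <<< 5 ^^^ 1 ^^^ (y <<< 5 ^^^ 1) = (x ^^^ y) <<< 5 := by
          rw [Nat.shiftLeft_xor_distrib]
          calc x <<< 5 ^^^ 1 ^^^ (y <<< 5 ^^^ 1) = x <<< 5 ^^^ y <<< 5 ^^^ (1 ^^^ 1) := by ac_rfl
            _ = _ := by rw [Nat.xor_self, Nat.xor_zero]
        rw [← Nat.shiftRight_xor_distrib, ← Coord.co_xor D.frame D.coord hc.norm, es, co_high D hc hxy', e,
          Nat.shiftLeft_shiftRight]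
    obtain ⟨x1, hx1, y1, hy1, e11⟩ := move w1 x y hx hy 1 (by norm_num) e1
    have hall : ((Finset.range 64).filter fun d => d ≠ 0 ∧ pf d = false) ⊆ S.offDiag.image fun q => q.1 ^^^ q.2 := by
      intro d hd
      obtain ⟨hd64, hd0, hdpf⟩ := Finset.mem_filter.1 hd
      have h := List.all_eq_true.1 word_facts.2.2.1 d (List.mem_range.2 (Finset.mem_range.1 hd64))
      simp only [Bool.or_eq_true, beq_iff_eq, hd0, false_or, hdpf, cond_false, Bool.and_eq_true,
        List.any_eq_true] at h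
      obtain ⟨⟨w2, -, e2⟩, -⟩ := h
      rw [← e11] at e2
      obtain ⟨x', hx', y', hy', e'⟩ := move w2 x1 y1 hx1 hy1 d (Finset.mem_range.1 hd64) e2
      refine Finset.mem_image.2 ⟨(x', y'), Finset.mem_offDiag.2 ⟨hx', hy', fun e0 => hd0 ?_⟩, e'⟩
      rw [← e', show x' = y' from e0, Nat.xor_self]
    have h2 : 2 * (S.offDiag.image fun q => q.1 ^^^ q.2).card ≤ S.offDiag.card := by
      refine Finset.mul_card_image_le_card _ _ fun d hd => ?_
      obtain ⟨⟨x', y'⟩, hq, rfl⟩ := Finset.mem_image.1 hd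
      obtain ⟨h1, h2, h3⟩ := Finset.mem_offDiag.1 hq
      refine le_trans (le_of_eq (Finset.card_pair (a := (x', y')) (b := (y', x'))
        (fun e => h3 (congrArg Prod.fst e))).symm) (Finset.card_le_card fun q hq' => ?_)
      rcases Finset.mem_insert.1 hq' with rfl | hq'
      · exact Finset.mem_filter.2 ⟨hq, rfl⟩
      · rw [Finset.mem_singleton.1 hq']
        exact Finset.mem_filter.2 ⟨Finset.mem_offDiag.2 ⟨h2, h1, Ne.symm h3⟩, Nat.xor_comm _ _⟩
    have h35 : ((Finset.range 64).filter fun d => d ≠ 0 ∧ pf d = false).card = 35 := by decide +kernel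
    have := Finset.card_le_card hall
    rw [h35] at this
    rw [Finset.offDiag_card, hS8] at h2
    omega
  obtain ⟨k0, hk0⟩ := Finset.card_pos.1 (by omega : 0 < S.card)
  set T := (S.erase k0).image (· ^^^ k0) with hT
  have hT7 : T.card = 7 := by
    rw [hT, Finset.card_image_of_injective _ (Nat.xor_left_injective), Finset.card_erase_of_mem hk0, hS8]
  have hTp : ∀ t ∈ T, t < 64 ∧ pf t = true ∧ t ^^^ k0 ∈ S := by
    intro t ht
    obtain ⟨x, hx, rfl⟩ := Finset.mem_image.1 ht
    obtain ⟨hne, hxS⟩ := Finset.mem_erase.1 hx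
    refine ⟨Nat.xor_lt_two_pow (n := 6) (hSd.1 hxS).1 (hSd.1 hk0).1, hdiff x hxS k0 hk0 hne, ?_⟩
    rwa [Nat.xor_assoc, Nat.xor_self, Nat.xor_zero]
  have hTadj : ∀ t ∈ T, ∀ t' ∈ T, t ≠ t' → pf (t ^^^ t') = true := by
    intro t ht t' ht' hne
    have := hdiff _ (hTp t ht).2.2 _ (hTp t' ht').2.2 (fun e => hne (Nat.xor_left_injective e))
    rwa [show t ^^^ k0 ^^^ (t' ^^^ k0) = t ^^^ t' ^^^ (k0 ^^^ k0) by ac_rfl, Nat.xor_self, Nat.xor_zero] at this
  obtain ⟨x, hx⟩ := Finset.card_pos.1 (by omega : 0 < T.card)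
  obtain ⟨y, hy⟩ := Finset.card_pos.1 (by rw [Finset.card_erase_of_mem hx]; omega : 0 < (T.erase x).card)
  obtain ⟨e, he⟩ := Finset.card_pos.1
    (by rw [Finset.card_erase_of_mem hy, Finset.card_erase_of_mem hx]; omega : 0 < ((T.erase x).erase y).card)
  obtain ⟨w, hw⟩ := Finset.card_pos.1 (by
    rw [Finset.card_erase_of_mem he, Finset.card_erase_of_mem hy, Finset.card_erase_of_mem hx]; omega :
      0 < (((T.erase x).erase y).erase e).card)
  simp only [Finset.mem_erase] at hy he hw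
  have hh := List.all_eq_true.1 star_facts.1 x (List.mem_range.2 (hTp x hx).1)
  simp only [(hTp x hx).2.1, Bool.not_true, Bool.false_or, List.all_eq_true, List.mem_range] at hh
  replace hh := hh y (hTp y hy.2).1
  simp only [(hTp y hy.2).2.1, hTadj x hx y hy.2 hy.1.symm, Bool.and_self, Bool.not_true, Bool.false_or,
    List.all_eq_true, List.mem_range] at hh
  replace hh := hh e (hTp e he.2.2).1
  simp only [(hTp e he.2.2).2.1, hTadj x hx e he.2.2 he.2.1.symm, hTadj y hy.2 e he.2.2 he.1.symm, Bool.and_self,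
    Bool.not_true, Bool.false_or, Bool.or_eq_true, List.all_eq_true, List.mem_range, List.any_eq_true,
    Bool.and_eq_true, List.contains_iff_mem] at hh
  rcases hh with hh | ⟨st, hst, ⟨⟨sx, sy⟩, se⟩, hrest⟩
  · exfalso
    have := hh w (hTp w hw.2.2.2).1
    rw [(hTp w hw.2.2.2).2.1, hTadj x hx w hw.2.2.2 hw.2.2.1.symm, hTadj y hy.2 w hw.2.2.2 hw.2.1.symm,
      hTadj e he.2.2 w hw.2.2.2 hw.1.symm] at this
    simp at this
  have hTst : ∀ t ∈ T, t ∈ st := by
    intro t ht
    by_cases h1 : t = x; · exact h1 ▸ sx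
    by_cases h2 : t = y; · exact h2 ▸ sy
    by_cases h3 : t = e; · exact h3 ▸ se
    rcases hrest t (hTp t ht).1 with h | h
    · rw [(hTp t ht).2.1, hTadj x hx t ht (Ne.symm h1), hTadj y hy.2 t ht (Ne.symm h2),
        hTadj e he.2.2 t ht (Ne.symm h3)] at h
      simp at h
    · exact h
  have hst' := List.all_eq_true.1 star_facts.2.1 st hst
  simp only [Bool.and_eq_true, decide_eq_true_eq, List.any_eq_true, List.mem_range, List.all_eq_true,
    List.contains_iff_mem] at hst'
  obtain ⟨⟨hl, h0⟩, sh, hsh64, hsh⟩ := hst'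
  have heq : insert 0 T = st.toFinset := by
    refine Finset.eq_of_subset_of_card_le ?_ ?_
    · intro t ht
      rcases Finset.mem_insert.1 ht with rfl | ht
      · exact List.mem_toFinset.2 h0
      · exact List.mem_toFinset.2 (hTst t ht)
    · rw [Finset.card_insert_of_notMem, hT7]
      · exact le_trans (List.toFinset_card_le _) (le_of_eq hl)
      · intro h
        have := (hTp 0 h).2.1
        rw [star_facts.2.2.2.2.2.2] at this
        exact Bool.noConfusion this
  refine ⟨k0 ^^^ sh, Nat.xor_lt_two_pow (n := 6) (hSd.1 hk0).1 hsh64, fun e' he' => ?_⟩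
  have hm := List.mem_toFinset.2 (hsh e' he')
  rw [← heq, Finset.mem_insert] at hm
  have hS' : k0 ^^^ sh ^^^ e' ∈ S := by
    rw [Nat.xor_assoc]
    rcases hm with h | h
    · rw [h, Nat.xor_zero]; exact hk0
    · rw [Nat.xor_comm]; exact (hTp _ h).2.2
  exact (hSd.1 hS').2

/-- The orbit consists of the pairs. -/
theorem d_eq : ∃ s < 64, DS = pairSet s := by
  obtain ⟨hcard, -, h2⟩ := params D
  obtain ⟨s, hs, hstar⟩ := exists_star D
  refine ⟨s, hs, (Finset.eq_of_subset_of_card_le ?_ ?_).symm⟩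
  · intro f hf
    simp only [pairSet, List.mem_toFinset, List.mem_flatMap, List.mem_map, List.mem_range] at hf
    obtain ⟨i, hi, j, hj, rfl⟩ := hf
    have shift0 : ∀ f, f.testBit 0 = false → shiftMask s f = f := fun f h => by simp [shiftMask, h]
    set L0 := starList.getD 0 [] with hL0
    have low0 : ∀ x, (x <<< 5).testBit 0 = false := fun x => by simp [Nat.testBit_shiftLeft]
    have tbit : ∀ x < 16, (cotau x 1).testBit 0 = true := by decide +kernel
    have hget : ∀ i, i < 8 → L0.getD i 0 ∈ L0 := fun i hi => by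
      rw [List.getD_eq_getElem _ _ (by rw [star_facts.2.2.1]; exact hi)]
      exact List.getElem_mem _
    rcases lt_or_ge i 8 with hi8 | hi8
    · have hj8 : j < 8 := by omega
      have e : pMask i ^^^ pMask j = (L0.getD i 0 ^^^ L0.getD j 0) <<< 5 := by
        simp only [pMask, hi8, hj8, if_true, Nat.shiftLeft_xor_distrib]
        calc 1 ^^^ L0.getD i 0 <<< 5 ^^^ (1 ^^^ L0.getD j 0 <<< 5)
            = (1 ^^^ 1) ^^^ (L0.getD i 0 <<< 5 ^^^ L0.getD j 0 <<< 5) := by ac_rfl
          _ = _ := by rw [Nat.xor_self, Nat.zero_xor]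
      have hne : L0.getD i 0 ≠ L0.getD j 0 := by
        have key : ∀ i < 8, ∀ j < 8, (starList.getD 0 []).getD i 0 = (starList.getD 0 []).getD j 0 → i = j := by
          decide +kernel
        intro h
        have := key i hi8 j hj8 h
        omega
      have hp := List.all_eq_true.1 (List.all_eq_true.1 star_facts.2.2.2.2.2.1 _ (hget i hi8)) _ (hget j hj8)
      simp only [Bool.or_eq_true, beq_iff_eq, hne, false_or] at hp
      have hlt : L0.getD i 0 ^^^ L0.getD j 0 < 64 :=
        Nat.xor_lt_two_pow (n := 6) (star_facts.2.2.2.2.1 _ (hget i hi8)) (star_facts.2.2.2.2.1 _ (hget j hj8))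
      rw [e, shift0 _ (low0 _)]
      have h := List.all_eq_true.1 word_facts.2.2.1 _ (List.mem_range.2 hlt)
      simp only [Bool.or_eq_true, beq_iff_eq, Nat.xor_eq_zero_iff, hne, false_or, hp, cond_true,
        List.any_eq_true] at h
      obtain ⟨w1, -, e1⟩ := h
      obtain ⟨c1, hc1⟩ := Coord.exists_exact D.frame D.coord w1
      have h' := (d_image D hc1.norm (by norm_num : (1056 : Nat) < 2048)).2 (base_mem_d D)
      rwa [show (1056 : Nat) = 33 <<< 5 from rfl, co_high D hc1 (by norm_num), e1] at h'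
    have hi16 : i - 8 < 16 := by omega
    rcases lt_or_ge j 8 with hj8 | hj8
    · have hmem := (d_tau D hi16 ((mem_d D).1 (hstar _ (hget j hj8))).1).2 (hstar _ (hget j hj8))
      have hpure : ∀ x < 64, cotau (i - 8) (x <<< 5) = x <<< 5 := fun x hx => by
        have := List.all_eq_true.1 (List.all_eq_true.1 mask_facts.2.2.1 _ (List.mem_range.2 hi16)) x
          (List.mem_range.2 hx)
        simp only [Bool.and_eq_true, beq_iff_eq] at this
        exact this.1.1
      have hlt : s ^^^ L0.getD j 0 < 64 := Nat.xor_lt_two_pow (n := 6) hs (star_facts.2.2.2.2.1 _ (hget j hj8))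
      rw [cotau_xor D hi16, hpure _ hlt] at hmem
      convert hmem using 1
      have e : pMask i ^^^ pMask j = cotau (i - 8) 1 ^^^ L0.getD j 0 <<< 5 := by
        simp only [pMask, not_lt.2 hi8, hj8, if_true, if_false]
        calc cotau (i - 8) 1 ^^^ 1 ^^^ (1 ^^^ L0.getD j 0 <<< 5)
            = cotau (i - 8) 1 ^^^ L0.getD j 0 <<< 5 ^^^ (1 ^^^ 1) := by ac_rfl
          _ = _ := by rw [Nat.xor_self, Nat.xor_zero]
      have hb : (pMask i ^^^ pMask j).testBit 0 = true := by
        rw [e, Nat.testBit_xor, tbit _ hi16, low0]; rfl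
      rw [shiftMask, hb, cond_true, e, Nat.shiftLeft_xor_distrib]
      ac_rfl
    · have hj16 : j - 8 < 16 := by omega
      have e : pMask i ^^^ pMask j = aEl (i - 8) (j - 8) := by
        simp only [pMask, not_lt.2 hi8, not_lt.2 hj8, if_false, aEl]
        calc cotau (i - 8) 1 ^^^ 1 ^^^ (cotau (j - 8) 1 ^^^ 1)
            = cotau (i - 8) 1 ^^^ cotau (j - 8) 1 ^^^ (1 ^^^ 1) := by ac_rfl
          _ = _ := by rw [Nat.xor_self, Nat.xor_zero]
      rw [shift0 _ (by rw [e, aEl, Nat.testBit_xor, tbit _ hi16, tbit _ hj16]; rfl), e]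
      set w := (i - 8) ^^^ (j - 8) with hw
      have hw16 : w < 16 := Nat.xor_lt_two_pow (n := 4) hi16 hj16
      have hw0 : w ≠ 0 := fun h => by have := Nat.xor_eq_zero_iff.1 h; omega
      have h1 := List.all_eq_true.1 word_facts.1 w (List.mem_range.2 hw16)
      simp only [Bool.or_eq_true, beq_iff_eq, hw0, false_or, List.any_eq_true, Bool.and_eq_true] at h1
      obtain ⟨ww, -, -, eL⟩ := h1
      obtain ⟨c, hc⟩ := Coord.exists_exact D.frame D.coord ww
      have hbase : aEl 0 1 ∈ DS := by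
        rw [mask_facts.2.2.2.2.2.1]
        exact (h2 2 (by norm_num) rfl).2 rfl
      have h' := (d_image D hc.norm ((mem_d D).1 hbase).1).2 hbase
      rw [co_aEl D hc (y := 0) (y' := w) (by norm_num) (by norm_num) (by norm_num) hw16
        (by rw [show wsp 0 = 0 by decide +kernel, app_zero]) eL] at h'
      have hf := List.all_eq_true.1 (List.all_eq_true.1 mask_facts.2.2.2.1 _ (List.mem_range.2 hi16)) w
        (List.mem_range.2 hw16)
      simp only [Bool.and_eq_true, beq_iff_eq] at hf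
      have h'' := (d_tau D hi16 ((mem_d D).1 h').1).2 h'
      rw [aEl, show cotau 0 1 = 1 by decide +kernel, hf.1,
        show (i - 8) ^^^ w = j - 8 by rw [hw, ← Nat.xor_assoc, Nat.xor_self, Nat.zero_xor]] at h''
      exact h''
  · rw [hcard, ← count_facts.2.2.2]
    refine le_of_eq (Eq.symm ?_)
    have inv : ∀ f, shiftMask s (shiftMask s f) = f := by
      intro f
      simp only [shiftMask]
      cases hb : f.testBit 0
      · simp [hb]
      · have : (s <<< 5).testBit 0 = false := by simp [Nat.testBit_shiftLeft]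
        rw [cond_true, Nat.testBit_xor, hb, this, show (true ^^ false) = true from rfl, cond_true, Nat.xor_assoc,
          Nat.xor_self, Nat.xor_zero]
    have e : pairSet s = (pairSet 0).image (shiftMask s) := by
      ext f
      have z0 : ∀ f, shiftMask 0 f = f := fun f => by simp [shiftMask]
      simp only [pairSet, Finset.mem_image, List.mem_toFinset, List.mem_flatMap, List.mem_map, z0]
      constructor
      · rintro ⟨i, hi, j, hj, rfl⟩
        exact ⟨_, ⟨i, hi, j, hj, rfl⟩, rfl⟩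
      · rintro ⟨_, ⟨i, hi, j, hj, rfl⟩, rfl⟩
        exact ⟨i, hi, j, hj, rfl⟩
    rw [e, Finset.card_image_of_injective _ (Function.Involutive.injective inv)]

end Ctx

end CfsgLib.Recog.CoOneCode
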