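import Cfsg.Agent.Lib.Recog.CoOneCode.Abelian
import Cfsg.Agent.Lib.Recog.CoOneType.Hat

/-!
An element normalizing the centralizer and moving the central involution (owner: helper8).
-/

set_option autoImplicit false
set_option linter.unusedSectionVars false
set_option linter.unusedVariables false
set_option quotPrecheck false
set_option maxRecDepth 100000
set_option maxHeartbeats 1000000
set_option Elab.async false

namespace CfsgLib.Recog.CoOneCode

open CfsgLib.Recog.CoOneType CfsgLib.Recog.CoOneFive CfsgLib.ThreeTrans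

/-- The thirty maximal singular subspaces at the first vector: the family, a map, and the section. -/
def moveTable : List (Nat × List (Nat × Nat) × List Nat) :=
  [
  (85, [], [0, 4, 16, 20, 64, 68, 80, 84]),
  (85, [(12, 52)], [0, 24, 36, 60, 64, 88, 100, 124]),
  (85, [(12, 56)], [0, 8, 32, 40, 64, 72, 96, 104]),
  (85, [(12, 180)], [0, 24, 72, 80, 164, 188, 236, 244]),
  (85, [(12, 184)], [0, 8, 80, 88, 160, 168, 240, 248]),
  (85, [(12, 196)], [0, 16, 72, 88, 132, 148, 204, 220]),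
  (85, [(12, 200)], [0, 8, 16, 24, 128, 136, 144, 152]),
  (85, [(44, 156)], [0, 40, 84, 124, 136, 160, 220, 244]),
  (85, [(44, 176)], [0, 60, 84, 104, 152, 164, 204, 240]),
  (85, [(44, 196)], [0, 20, 104, 124, 132, 144, 236, 248]),
  (85, [(44, 232)], [0, 20, 40, 60, 128, 148, 168, 188]),
  (85, [(48, 156)], [0, 36, 68, 96, 152, 188, 220, 248]),
  (85, [(48, 172)], [0, 32, 68, 100, 136, 168, 204, 236]),
  (85, [(48, 208)], [0, 4, 96, 100, 144, 148, 240, 244]),
  (85, [(48, 224)], [0, 4, 32, 36, 128, 132, 160, 164]),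
  (89, [], [0, 8, 16, 24, 64, 72, 80, 88]),
  (89, [(12, 52)], [0, 4, 32, 36, 64, 68, 96, 100]),
  (89, [(12, 56)], [0, 20, 40, 60, 64, 84, 104, 124]),
  (89, [(12, 180)], [0, 4, 80, 84, 160, 164, 240, 244]),
  (89, [(12, 184)], [0, 20, 68, 80, 168, 188, 236, 248]),
  (89, [(12, 196)], [0, 4, 16, 20, 128, 132, 144, 148]),
  (89, [(12, 200)], [0, 16, 68, 84, 136, 152, 204, 220]),
  (89, [(44, 156)], [0, 36, 88, 124, 132, 160, 220, 248]),
  (89, [(44, 176)], [0, 60, 88, 100, 148, 168, 204, 240]),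
  (89, [(44, 200)], [0, 24, 100, 124, 136, 144, 236, 244]),
  (89, [(44, 228)], [0, 24, 36, 60, 128, 152, 164, 188]),
  (89, [(48, 156)], [0, 40, 72, 96, 148, 188, 220, 244]),
  (89, [(48, 172)], [0, 32, 72, 104, 132, 164, 204, 236]),
  (89, [(48, 208)], [0, 8, 96, 104, 144, 152, 240, 248]),
  (89, [(48, 224)], [0, 8, 32, 40, 128, 136, 160, 168])]

/-- The nonzero singular vectors of the section. -/
def singList : List Nat := sect.filter fun n => !(n == 0) && !qb n

theorem singList_mem : sect.all (fun n => n == 0 || qb n || singList.contains n) = true := by decide +kernel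

theorem move_facts :
    moveTable.all (fun e => (e.2.1.all fun de => decide (de.1 < 256) && decide (de.2 < 256) && qb de.1 && qb de.2 &&
      bb de.1 de.2) && (e.1 == 85 || e.1 == 89) && (app (pmap e.2.1) 1 &&& e.1 == app (pmap e.2.1) 1) &&
      e.2.2.all fun n => app (pmap e.2.1) n &&& e.1 == app (pmap e.2.1) n) = true ∧
    singList.all (fun a => singList.all fun b => bb a b || a == b || singList.all fun c =>
      bb a c || bb b c || c == a || c == b || c == a ^^^ b ||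
        moveTable.any fun e => e.2.2.contains a && e.2.2.contains b && e.2.2.contains c) = true := by
  decide +kernel

/-- The combination of four vectors. -/
def comb (a b c i : Nat) : Nat := sel i 0 1 ^^^ sel i 1 a ^^^ sel i 2 b ^^^ sel i 3 c

theorem comb_xor (a b c i j : Nat) : comb a b c (i ^^^ j) = comb a b c i ^^^ comb a b c j := by
  have e : ∀ s v : Nat, sel (i ^^^ j) s v = sel i s v ^^^ sel j s v := by
    intro s v
    simp only [sel, Nat.testBit_xor]
    cases i.testBit s <;> cases j.testBit s <;> simp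
  simp only [comb, e]
  ac_rfl

theorem comb_facts : (List.range 256).all (fun n => !(n &&& 89 == n) || (fixU.contains n && !bb n 1 && !bb 8 n)) = true ∧
    (List.range 256).all (fun n => !(n &&& 93 == n) || fixU.contains n) = true ∧
    ((List.range 256).filter fun n => n &&& 89 == n).Nodup ∧
    ((List.range 256).filter fun n => n &&& 89 == n).length = 16 ∧ qb 8 = false := by decide +kernel

variable {G : Type*} [Group G] [Finite G] {z : G} {Q : Subgroup G} {p : G → Nat} {k u : G}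

theorem card_eSet (h : CfsgLib.Recog.CoOneType.Sys z Q p) {m : Nat} (hm : m = 85 ∨ m = 89) :
    Nat.card (eSet Q p m) = 32 := by
  have hl : ((List.range 256).filter fun n => n &&& m == n).Nodup ∧
      ((List.range 256).filter fun n => n &&& m == n).length = 16 := by
    rcases hm with rfl | rfl
    · exact ⟨wList_facts.1, wList_facts.2.1⟩
    · exact ⟨comb_facts.2.2.1, comb_facts.2.2.2.1⟩
  rw [Nat.card_congr (Equiv.subtypeEquivRight fun a => ?_),
    card_fibre h hl.1 (fun n hn => List.mem_range.1 (List.mem_filter.1 hn).1), hl.2]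
  constructor
  · rintro ⟨ha, hc⟩
    exact ⟨ha, List.mem_filter.2 ⟨List.mem_range.2 (h.lt a ha), beq_iff_eq.2 hc⟩⟩
  · rintro ⟨ha, hc⟩
    exact ⟨ha, beq_iff_eq.1 (List.mem_filter.1 hc).2⟩

namespace Frame

variable (F : CfsgLib.Recog.CoOneType.Frame z Q p k)
include F

local notation "X" => k * z * k⁻¹
local notation "P" => Q.map (MulAut.conj k).toMonoidHom
local notation "sS" => sOf z Q p k
local notation "hM" => hm z Q p k

theorem hm_comb_ne : ∀ i < 16, i ≠ 0 →
    comb (hM 4 &&& 252) (hM 16 &&& 252) (hM 64 &&& 252) i ≠ 0 := by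
  have h4 : 4 ∈ sect ∧ 16 ∈ sect ∧ 64 ∈ sect := by decide +kernel
  have key : ∀ v ∈ sect, v ≠ 0 → hM v &&& 252 ≠ 0 := by
    intro v hv hv0 e
    obtain ⟨hlt, hb, -⟩ := F.hm_spec hv
    rcases reduce_perp _ hlt hb with e' | e' <;> rw [e] at e'
    · exact hv0 (F.hm_inj hv (Or.inl e'))
    · exact hv0 (F.hm_inj hv (Or.inr e'))
  have add : ∀ v w, v ∈ sect → w ∈ sect → hM (v ^^^ w) &&& 252 = (hM v &&& 252) ^^^ (hM w &&& 252) := by
    intro v w hv hw
    obtain ⟨i, e⟩ := F.hm_xor hv hw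
    rw [e, Nat.and_xor_distrib_right, Nat.and_xor_distrib_right]
    cases i <;> simp
  have s420 : 4 ^^^ 16 ∈ sect := sect_mem_xor h4.1 h4.2.1
  intro i hi hi0 e
  have hlow : ∀ x, (x &&& 252) % 2 = 0 := fun x => by
    rw [Nat.mod_two_eq_zero_iff_testBit_zero, Nat.testBit_and]
    simp
  by_cases h0 : i.testBit 0
  · have h2 : (comb (hM 4 &&& 252) (hM 16 &&& 252) (hM 64 &&& 252) i).testBit 0 = (0 : Nat).testBit 0 := by
      rw [e]
    have hb : ∀ (t : Bool) (n : Nat), (bif t then n &&& 252 else 0).testBit 0 = false := by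
      intro t n
      cases t
      · exact Nat.zero_testBit 0
      · rw [cond_true, Nat.testBit_and, show (252 : Nat).testBit 0 = false by decide +kernel, Bool.and_false]
    simp only [comb, sel, Nat.testBit_xor, hb, h0, cond_true, Nat.zero_testBit] at h2
    simp at h2
  · have hv : ∃ v ∈ sect, v ≠ 0 ∧ hM v &&& 252 = comb (hM 4 &&& 252) (hM 16 &&& 252) (hM 64 &&& 252) i := by
      interval_cases i <;> simp [Nat.testBit, Nat.shiftRight_eq_div_pow] at h0 ⊢
      · exact absurd rfl hi0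
      all_goals simp only [comb, sel, Nat.testBit, Nat.shiftRight_eq_div_pow]
      · exact ⟨4, h4.1, by norm_num, by simp⟩
      · exact ⟨16, h4.2.1, by norm_num, by simp⟩
      · exact ⟨4 ^^^ 16, s420, by decide, (add 4 16 h4.1 h4.2.1).trans (by simp)⟩
      · exact ⟨64, h4.2.2, by norm_num, by simp⟩
      · exact ⟨4 ^^^ 64, sect_mem_xor h4.1 h4.2.2, by decide, (add 4 64 h4.1 h4.2.2).trans (by simp)⟩
      · exact ⟨16 ^^^ 64, sect_mem_xor h4.2.1 h4.2.2, by decide, (add 16 64 h4.2.1 h4.2.2).trans (by simp)⟩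
      · exact ⟨4 ^^^ 16 ^^^ 64, sect_mem_xor s420 h4.2.2, by decide,
          (add _ 64 s420 h4.2.2).trans (by rw [add 4 16 h4.1 h4.2.1]; simp)⟩
    obtain ⟨v, hv, hv0, e'⟩ := hv
    exact key v hv hv0 (e'.trans e)

variable (hu : Good z Q p k u)
include hu

theorem exists_move : ∃ g : G, (∀ x, x ∈ cGrp Q p 85 ↔ g * x * g⁻¹ ∈ cGrp Q p 85) ∧ g * z * g⁻¹ = X ∧
    ∀ i j, ∃ e ∈ Q, p e &&& 85 = p e ∧ p e ≠ 0 ∧ g * e * g⁻¹ = sS 4 * (sg z i * sg X j) := by
  obtain ⟨m4, c4, -⟩ := sOf_mem F (Or.inl rfl : (4 : Nat) = 4 ∨ (4 : Nat) = 16 ∨ (4 : Nat) = 64)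
  obtain ⟨m16, c16, -⟩ := sOf_mem F (Or.inr (Or.inl rfl) : (16 : Nat) = 4 ∨ (16 : Nat) = 16 ∨ (16 : Nat) = 64)
  obtain ⟨m64, c64, -⟩ := sOf_mem F (Or.inr (Or.inr rfl) : (64 : Nat) = 4 ∨ (64 : Nat) = 16 ∨ (64 : Nat) = 64)
  set A := cGrp Q p 85 with hA
  set a := hM 4 &&& 252 with hadef
  set b := hM 16 &&& 252 with hbdef
  set c := hM 64 &&& 252 with hcdef
  have hindep := hm_comb_ne F
  rw [← hadef, ← hbdef, ← hcdef] at hindep
  have hab := cGrp_elementary F hu
  have hzA : z ∈ A := (Sys.mem_cGrp_q F.sys F.sys.large.z_mem).2 (by rw [F.sys.z0]; rfl)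
  have hXA : X ∈ A := (Sys.mem_cGrp_q F.sys F.memQ).2 (by rw [F.px]; rfl)
  -- the transported part
  have hpart : ∀ n, (n = 1 ∨ n = hM 4 ∨ n = hM 16 ∨ n = hM 64) → ∃ y ∈ Q, p y = n ∧ k * y * k⁻¹ ∈ A := by
    have mk : ∀ s ∈ P, s ∈ A → ∃ y ∈ Q, p y = p (k⁻¹ * s * k) ∧ k * y * k⁻¹ ∈ A := fun s hs hsA =>
      ⟨k⁻¹ * s * k, mem_conjMap.1 hs, rfl, by rwa [show k * (k⁻¹ * s * k) * k⁻¹ = s by group]⟩
    rintro n (rfl | rfl | rfl | rfl)
    · exact F.pz ▸ mk z F.z_memP hzA
    · exact mk _ (F.sOf_spec m4).1 c4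
    · exact mk _ (F.sOf_spec m16).1 c16
    · exact mk _ (F.sOf_spec m64).1 c64
  have hred : ∀ v ∈ sect, (hM v = 1 ∨ ∃ y ∈ Q, p y = hM v ∧ k * y * k⁻¹ ∈ A) →
      ∃ y ∈ Q, p y = hM v &&& 252 ∧ k * y * k⁻¹ ∈ A := by
    intro v hv hy
    obtain ⟨hlt, hb, -⟩ := F.hm_spec hv
    obtain ⟨y, hy, hpy, hyA⟩ : ∃ y ∈ Q, p y = hM v ∧ k * y * k⁻¹ ∈ A :=
      hy.elim (fun e => e ▸ hpart 1 (Or.inl rfl)) id
    rcases reduce_perp _ hlt hb with e | e
    · exact ⟨y, hy, hpy.trans e, hyA⟩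
    · obtain ⟨w, hw, hpw, hwA⟩ := hpart 1 (Or.inl rfl)
      refine ⟨y * w, Q.mul_mem hy hw, ?_, ?_⟩
      · rw [F.sys.map_mul y hy w hw, hpy, hpw]
        conv_lhs => rw [e]
        rw [Nat.xor_assoc, Nat.xor_self, Nat.xor_zero]
      · rw [show k * (y * w) * k⁻¹ = k * y * k⁻¹ * (k * w * k⁻¹) by group]
        exact mul_mem hyA hwA
  have hspan : ∀ i < 16, ∀ y ∈ Q, p y = comb a b c i → k * y * k⁻¹ ∈ A := by
    intro i hi y hy hpy
    have one' : ∀ (t : Bool) (n : Nat), (∃ w ∈ Q, p w = n ∧ k * w * k⁻¹ ∈ A) →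
        ∃ w ∈ Q, p w = (bif t then n else 0) ∧ k * w * k⁻¹ ∈ A := by
      intro t n hn
      cases t
      · exact ⟨1, Q.one_mem, F.sys.p_one, by simp⟩
      · exact hn
    obtain ⟨w0, hw0, e0, hA0⟩ := one' (i.testBit 0) 1 (hpart 1 (Or.inl rfl))
    obtain ⟨w1, hw1, e1, hA1⟩ := one' (i.testBit 1) a (hred 4 m4 (Or.inr (hpart _ (Or.inr (Or.inl rfl)))))
    obtain ⟨w2, hw2, e2, hA2⟩ :=
      one' (i.testBit 2) b (hred 16 m16 (Or.inr (hpart _ (Or.inr (Or.inr (Or.inl rfl))))))
    obtain ⟨w3, hw3, e3, hA3⟩ :=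
      one' (i.testBit 3) c (hred 64 m64 (Or.inr (hpart _ (Or.inr (Or.inr (Or.inr rfl))))))
    have hw := Q.mul_mem (Q.mul_mem (Q.mul_mem hw0 hw1) hw2) hw3
    have hpw : p (w0 * w1 * w2 * w3) = comb a b c i := by
      rw [F.sys.map_mul _ (Q.mul_mem (Q.mul_mem hw0 hw1) hw2) _ hw3,
        F.sys.map_mul _ (Q.mul_mem hw0 hw1) _ hw2, F.sys.map_mul _ hw0 _ hw1, e0, e1, e2, e3]
      rfl
    obtain ⟨t, et⟩ := F.sys.eq_of_p hw hy (hpw.trans hpy.symm)
    have hs : k * sg z t * k⁻¹ ∈ A := by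
      cases t
      · simp [sg]
      · exact hXA
    rw [et, show k * (w0 * w1 * w2 * w3 * sg z t) * k⁻¹ =
      k * w0 * k⁻¹ * (k * w1 * k⁻¹) * (k * w2 * k⁻¹) * (k * w3 * k⁻¹) * (k * sg z t * k⁻¹) by group]
    exact mul_mem (mul_mem (mul_mem (mul_mem hA0 hA1) hA2) hA3) hs
  -- the table entry
  have hsing : ∀ v ∈ sect, v ≠ 0 → qb v = false → comb a b c 1 = 1 →
      hM v &&& 252 ≠ 0 → hM v &&& 252 ∈ singList := by
    intro v hv hv0 hq _ hne
    obtain ⟨hlt, hb, hqv⟩ := F.hm_spec hv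
    have h1 := List.all_eq_true.1 singList_mem _ (reduce_mem _ hlt)
    have hq' : qb (hM v &&& 252) = false := by
      rcases reduce_perp _ hlt hb with e | e
      · rw [← e, hqv, hq]
      · rw [← qb_xor_one (sect_lt _ (reduce_mem _ hlt)).2.1, ← e, hqv, hq]
    simpa [hne, hq'] using h1
  have n4 : a ≠ 0 := fun e => hindep 2 (by norm_num) (by norm_num) (by simp [comb, sel, Nat.testBit, Nat.shiftRight_eq_div_pow, e])
  have n16 : b ≠ 0 := fun e => hindep 4 (by norm_num) (by norm_num) (by simp [comb, sel, Nat.testBit, Nat.shiftRight_eq_div_pow, e])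
  have n64 : c ≠ 0 := fun e => hindep 8 (by norm_num) (by norm_num) (by simp [comb, sel, Nat.testBit, Nat.shiftRight_eq_div_pow, e])
  have nab : a ≠ b := fun e => hindep 6 (by norm_num) (by norm_num) (by simp [comb, sel, Nat.testBit, Nat.shiftRight_eq_div_pow, e])
  have nca : c ≠ a := fun e => hindep 10 (by norm_num) (by norm_num) (by simp [comb, sel, Nat.testBit, Nat.shiftRight_eq_div_pow, e])
  have ncb : c ≠ b := fun e => hindep 12 (by norm_num) (by norm_num) (by simp [comb, sel, Nat.testBit, Nat.shiftRight_eq_div_pow, e])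
  have ncab : c ≠ a ^^^ b := fun e => hindep 14 (by norm_num) (by norm_num) (by simp [comb, sel, Nat.testBit, Nat.shiftRight_eq_div_pow, e])
  have c1 : comb a b c 1 = 1 := by simp [comb, sel, Nat.testBit, Nat.shiftRight_eq_div_pow]
  obtain ⟨s4', s16', s64', q4, q16, q64⟩ : (4 : Nat) ≠ 0 ∧ (16 : Nat) ≠ 0 ∧ (64 : Nat) ≠ 0 ∧ qb 4 = false ∧
      qb 16 = false ∧ qb 64 = false := by decide +kernel
  have ha := hsing 4 m4 s4' q4 c1 n4
  have hb := hsing 16 m16 s16' q16 c1 n16
  have hc := hsing 64 m64 s64' q64 c1 n64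
  rw [← hadef] at ha; rw [← hbdef] at hb; rw [← hcdef] at hc
  have horth : ∀ i j, i < 16 → j < 16 → bb (comb a b c i) (comb a b c j) = false := by
    intro i j hi hj
    have hlt : ∀ i < 16, comb a b c i < 256 := by
      intro i hi
      have := fun x (hx : x ∈ singList) => (sect_lt x (List.mem_filter.1 hx).1).1
      have l : ∀ (t : Bool) (n : Nat), n < 256 → (bif t then n else 0) < 256 := by
        intro t n hn; cases t <;> simp [hn]
      exact lt_xor (lt_xor (lt_xor (l _ 1 (by norm_num)) (l _ a (this a ha))) (l _ b (this b hb))) (l _ c (this c hc))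
    obtain ⟨y, hy, hpy⟩ := F.sys.surj _ (hlt i hi)
    obtain ⟨w, hw, hpw⟩ := F.sys.surj _ (hlt j hj)
    rw [← hpy, ← hpw, ← F.sys.commute_iff hy hw]
    refine (Commute.conj_iff k).1 ?_
    exact congrArg Subtype.val
      (hab.1.1.1 ⟨_, hspan i hi y hy hpy⟩ ⟨_, hspan j hj w hw hpw⟩)
  have bab : bb a b = false := by
    have := horth 2 4 (by norm_num) (by norm_num)
    simpa [comb, sel, Nat.testBit, Nat.shiftRight_eq_div_pow] using this
  have bac : bb a c = false := by
    have := horth 2 8 (by norm_num) (by norm_num)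
    simpa [comb, sel, Nat.testBit, Nat.shiftRight_eq_div_pow] using this
  have bbc : bb b c = false := by
    have := horth 4 8 (by norm_num) (by norm_num)
    simpa [comb, sel, Nat.testBit, Nat.shiftRight_eq_div_pow] using this
  have hent := List.all_eq_true.1 (List.all_eq_true.1 move_facts.2 a ha) b hb
  simp only [bab, Bool.false_or, Bool.or_eq_true, beq_iff_eq, nab, false_or, List.all_eq_true] at hent
  replace hent := hent c hc
  simp only [bac, bbc, Bool.false_or, Bool.or_eq_true, beq_iff_eq, nca, ncb, ncab, false_or, List.any_eq_true,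
    Bool.and_eq_true, List.contains_iff_mem, Bool.false_eq_true] at hent
  obtain ⟨⟨m, l, L⟩, he, ⟨la, lb⟩, lc⟩ := hent
  have hrow := List.all_eq_true.1 move_facts.1 _ he
  simp only [Bool.and_eq_true, List.all_eq_true, Bool.or_eq_true, beq_iff_eq] at hrow
  obtain ⟨⟨⟨hl, hm⟩, h1m⟩, hLm⟩ := hrow
  obtain ⟨hlen, d, hd⟩ := Sys.acts_pairs F.sys l (List.all_eq_true.2 fun de h => by
    simpa [Bool.and_eq_true] using hl de h)
  set M := pmap l with hM'
  have hMm : ∀ i < 16, app M (comb a b c i) &&& m = app M (comb a b c i) := by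
    intro i hi
    have l' : ∀ (t : Bool) (n : Nat), app M n &&& m = app M n →
        app M (bif t then n else 0) &&& m = app M (bif t then n else 0) := by
      intro t n hn; cases t
      · simp [app_zero]
      · exact hn
    simp only [comb, sel, app_xor, Nat.and_xor_distrib_right, l' _ _ h1m, l' _ _ (hLm a la),
      l' _ _ (hLm b lb), l' _ _ (hLm c lc)]
  set U : Set G := {y | y ∈ Q ∧ p y ∈ (List.range 16).map (comb a b c)} with hU
  have hnd : ((List.range 16).map (comb a b c)).Nodup := by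
    refine (List.nodup_map_iff_inj_on List.nodup_range).2 fun i hi j hj e => ?_
    by_contra hne
    refine hindep (i ^^^ j) (Nat.xor_lt_two_pow (n := 4) (List.mem_range.1 hi) (List.mem_range.1 hj))
      (fun e0 => hne (Nat.xor_eq_zero_iff.1 e0)) ?_
    rw [comb_xor, e, Nat.xor_self]
  have hltU : ∀ n ∈ (List.range 16).map (comb a b c), n < 256 := by
    intro n hn
    obtain ⟨i, hi, rfl⟩ := List.mem_map.1 hn
    have := fun x (hx : x ∈ singList) => (sect_lt x (List.mem_filter.1 hx).1).1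
    have l' : ∀ (t : Bool) (n : Nat), n < 256 → (bif t then n else 0) < 256 := by
      intro t n hn; cases t <;> simp [hn]
    exact lt_xor (lt_xor (lt_xor (l' _ 1 (by norm_num)) (l' _ a (this a ha))) (l' _ b (this b hb))) (l' _ c (this c hc))
  have hcardU : Nat.card U = 32 := by
    have := card_fibre F.sys hnd hltU
    rw [List.length_map, List.length_range] at this
    exact this
  have hUE : (fun y => d * y * d⁻¹) '' U = eSet Q p m := by
    refine Set.eq_of_subset_of_ncard_le ?_ ?_ (Set.toFinite _)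
    · rintro _ ⟨y, ⟨hy, hpy⟩, rfl⟩
      obtain ⟨i, hi, e⟩ := List.mem_map.1 hpy
      refine ⟨F.sys.large.conj_mem hd.1 hy, ?_⟩
      rw [hd.2 y hy, ← e]
      exact hMm i (List.mem_range.1 hi)
    · rw [Set.ncard_image_of_injective _ fun x y e => mul_left_cancel (mul_right_cancel e),
        ← Nat.card_coe_set_eq, ← Nat.card_coe_set_eq, card_eSet F.sys hm, hcardU]
  set H := cGrp Q p m with hH
  have hsub : A.map (MulAut.conj (d * k⁻¹)).toMonoidHom ≤ H := by
    rintro _ ⟨x, hx, rfl⟩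
    refine mem_cGrp.2 fun e he hme => ?_
    obtain ⟨y, ⟨hy, hpy⟩, rfl⟩ : e ∈ (fun y => d * y * d⁻¹) '' U := by rw [hUE]; exact ⟨he, hme⟩
    obtain ⟨i, hi, ei⟩ := List.mem_map.1 hpy
    have hc : Commute x (k * y * k⁻¹) :=
      congrArg Subtype.val (hab.1.1.1 ⟨x, hx⟩ ⟨_, hspan i (List.mem_range.1 hi) y hy ei.symm⟩)
    show Commute (d * k⁻¹ * x * (d * k⁻¹)⁻¹) (d * y * d⁻¹)
    rw [show d * y * d⁻¹ = d * k⁻¹ * (k * y * k⁻¹) * (d * k⁻¹)⁻¹ by group]
    exact (Commute.conj_iff _).2 hc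
  have hcardA : Nat.card (A.map (MulAut.conj (d * k⁻¹)).toMonoidHom) = 2048 := by
    rw [← Nat.card_congr ((A.equivMapOfInjective _ (MulAut.conj (d * k⁻¹)).injective).toEquiv)]
    exact cGrp_card F hu
  have heq : A.map (MulAut.conj (d * k⁻¹)).toMonoidHom = H := by
    refine Subgroup.eq_of_le_of_card_ge hsub ?_
    rw [hcardA]
    rcases hm with rfl | rfl
    · exact Sys.card_le F.sys
    · exact Sys.card_le' F.sys
  rcases hm with rfl | rfl
  swap
  · exfalso
    obtain ⟨hw, -, -, -, q8⟩ := comb_facts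
    have s8 : 8 ∈ sect := by decide +kernel
    obtain ⟨b1, b2, b3⟩ := F.sOf_spec s8
    have hm' : ∀ e ∈ Q, p e &&& 89 = p e → p e ∈ fixU ∧ bb (p e) 1 = false ∧ bb 8 (p e) = false := by
      intro e he hme
      have := List.all_eq_true.1 hw (p e) (List.mem_range.2 (F.sys.lt e he))
      simp only [hme, beq_self_eq_true, Bool.not_true, Bool.false_or, Bool.and_eq_true, Bool.not_eq_true',
        List.contains_iff_mem] at this
      exact ⟨this.1.1, this.1.2, this.2⟩
    have h8 : sS 8 ∈ H := mem_cGrp.2 fun e he hme => by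
      obtain ⟨-, e1, e8⟩ := hm' e he hme
      have e' := F.commutator_eq s8 b1 b2 b3 he e1
      rw [e8] at e'
      exact mul_inv_eq_iff_eq_mul.1 (mul_inv_eq_one.1 (e'.trans (one_mul (1 : G))))
    have huH : u ∈ H := mem_cGrp.2 fun e he hme => hu.comm_q e he (hm' e he hme).1
    rw [← heq] at h8 huH
    obtain ⟨x, hx, ex⟩ := h8
    obtain ⟨y, hy, ey⟩ := huH
    refine hu.comm8 _ b1 b2 b3 ?_
    rw [← ex, ← ey]
    exact Commute.map (f := (MulAut.conj (d * k⁻¹)).toMonoidHom) (congrArg Subtype.val (hab.1.1.1 ⟨y, hy⟩ ⟨x, hx⟩) : Commute y x)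
  refine ⟨k * d⁻¹, fun x => ?_, ?_, fun i j => ?_⟩
  · have : x ∈ H ↔ k * d⁻¹ * x * (k * d⁻¹)⁻¹ ∈ A := by
      rw [← heq]
      constructor
      · rintro ⟨y, hy, rfl⟩
        rwa [show k * d⁻¹ * (MulAut.conj (d * k⁻¹)).toMonoidHom y * (k * d⁻¹)⁻¹ = y by
          simp [MulAut.conj_apply, mul_assoc]]
      · intro hy
        exact ⟨_, hy, by simp [MulAut.conj_apply, mul_assoc]⟩
    exact this
  · rw [show k * d⁻¹ * z * (k * d⁻¹)⁻¹ = k * (d⁻¹ * z * d⁻¹⁻¹) * k⁻¹ by group, hd.1.inv_left.eq,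
      mul_inv_cancel_right]
  · obtain ⟨s1, s2, s3⟩ := F.sOf_spec m4
    set w := k⁻¹ * (sS 4 * (sg z i * sg X j)) * k with hw
    have hsP : sS 4 * (sg z i * sg X j) ∈ P := mul_mem s1 (F.pair_mem i j).2
    have hwQ : w ∈ Q := mem_conjMap.1 hsP
    have hpw : p w = hM 4 ^^^ (bif i then 1 else 0) := by
      have := F.sys'.map_mul _ s1 _ (F.pair_mem i j).2
      rw [F.hp_pair] at this
      exact this
    have hwU : w ∈ U := by
      refine ⟨hwQ, List.mem_map.2 ?_⟩
      obtain ⟨hlt, hb', -⟩ := F.hm_spec m4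
      rcases reduce_perp _ hlt hb' with e | e <;> cases i
      · exact ⟨2, by simp, by rw [hpw]; simp [comb, sel, Nat.testBit, Nat.shiftRight_eq_div_pow, ← e, hadef]⟩
      · exact ⟨3, by simp, by rw [hpw]; simp [comb, sel, Nat.testBit, Nat.shiftRight_eq_div_pow, ← e, hadef, Nat.xor_comm]⟩
      · exact ⟨3, by simp, by rw [hpw]; conv_rhs => rw [e]
                              simp [comb, sel, Nat.testBit, Nat.shiftRight_eq_div_pow, hadef, Nat.xor_comm]⟩
      · exact ⟨2, by simp, by rw [hpw]; conv_rhs => rw [e]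
                              simp [comb, sel, Nat.testBit, Nat.shiftRight_eq_div_pow, hadef, Nat.xor_assoc]⟩
    have he : d * w * d⁻¹ ∈ eSet Q p 85 := hUE ▸ ⟨w, hwU, rfl⟩
    refine ⟨d * w * d⁻¹, he.1, he.2, ?_, by rw [hw]; group⟩
    rw [hd.2 w hwQ]
    intro e0
    have hw0 : p w = 0 := by
      refine F.sys.app_inj hd (F.sys.lt w hwQ) (by norm_num) ?_
      rw [e0, app_zero]
    rw [hpw] at hw0
    have h2 := hindep 2 (by norm_num) (by norm_num)
    apply h2
    cases i
    · simp [comb, sel, Nat.testBit, Nat.shiftRight_eq_div_pow, hadef, show hM 4 = 0 by simpa using hw0]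
    · simp [comb, sel, Nat.testBit, Nat.shiftRight_eq_div_pow, hadef, Nat.xor_eq_zero_iff.1 hw0]

end Frame

end CfsgLib.Recog.CoOneCode
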