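import Cfsg.Agent.Lib.Recog.CoOneCode.Coord

/-!
The elements of `Q` and the lifts of the Levi maps in coordinates (owner: helper8).
-/

set_option autoImplicit false
set_option linter.unusedSectionVars false
set_option linter.unusedVariables false
set_option quotPrecheck false
set_option maxRecDepth 100000
set_option Elab.async false

namespace CfsgLib.Recog.CoOneCode

open CfsgLib.Recog.CoOneType CfsgLib.Recog.CoOneFive CfsgLib.ThreeTrans

/-- The coordinate action of the lift of the `i`-th complementary vector. -/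
def tauB (i n : Nat) : Nat :=
  n ^^^ (bif n.testBit (i + 1) then 1 else 0) ^^^ (sel n 5 (imask 0 i) ^^^ sel n 6 (imask 1 i) ^^^
    sel n 7 (imask 2 i) ^^^ sel n 8 (imask 3 i) ^^^ sel n 9 (imask 4 i) ^^^ sel n 10 (imask 5 i))

/-- The coordinate action of the lift of a complementary vector. -/
def tau (x n : Nat) : Nat :=
  let n3 := bif x.testBit 3 then tauB 3 n else n
  let n2 := bif x.testBit 2 then tauB 2 n3 else n3
  let n1 := bif x.testBit 1 then tauB 1 n2 else n2
  bif x.testBit 0 then tauB 0 n1 else n1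

/-- The pull-back of masks along `tau`. -/
def cotau (x f : Nat) : Nat := msk fun i => par (tau x (2 ^ i)) f

/-- The complementary vector. -/
def wsp (x : Nat) : Nat := sel x 0 2 ^^^ sel x 1 8 ^^^ sel x 2 32 ^^^ sel x 3 128

/-- The action of a map on the six bits. -/
def lamOf (L : List Nat) (t : Nat) : Nat :=
  ((List.range 64).find? fun s => comp (rmap s) L == comp L (rmap t)).getD 0

theorem tau_facts : (∀ x < 16, wsp x < 256) ∧
    (∀ i < 4, ∀ j < 11, ∀ b : Bool, tauB i ((bif b then 2 ^ j else 0)) < 2048) ∧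
    (∀ i < 4, tauB i 0 = 0) ∧ (∀ i < 4, tauB i 1 = 1) ∧
    (∀ i < 4, ∀ j < 4, tauB i (2 ^ (j + 1)) = 2 ^ (j + 1) ^^^ (bif bb (2 ^ (2 * i + 1)) (2 ^ (2 * j)) then 1 else 0)) ∧
    (∀ i < 4, ∀ t < 6, tauB i (2 ^ (5 + t)) = 2 ^ (5 + t) ^^^ imask t i) ∧
    (∀ i < 4, ∀ t < 6, imask t i < 32) ∧
    (∀ n < 256, app one n = n) := by
  decide +kernel

theorem tauB_xor {i : Nat} (a b : Nat) : tauB i (a ^^^ b) = tauB i a ^^^ tauB i b := by
  have e : ∀ s v : Nat, sel (a ^^^ b) s v = sel a s v ^^^ sel b s v := by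
    intro s v
    simp only [sel, Nat.testBit_xor]
    cases a.testBit s <;> cases b.testBit s <;> simp
  have e1 : (bif (a ^^^ b).testBit (i + 1) then 1 else 0) =
      (bif a.testBit (i + 1) then 1 else 0) ^^^ (bif b.testBit (i + 1) then 1 else 0) := e (i + 1) 1
  simp only [tauB, e, e1]
  ac_rfl

theorem tau_xor {x : Nat} (a b : Nat) : tau x (a ^^^ b) = tau x a ^^^ tau x b := by
  simp only [tau]
  cases x.testBit 0 <;> cases x.testBit 1 <;> cases x.testBit 2 <;> cases x.testBit 3 <;> simp [tauB_xor]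

variable {G : Type*} [Group G] [Finite G] {z : G} {Q : Subgroup G} {p : G → Nat} {k u : G} {a r : Nat → G}

/-- A lift of a word of Levi maps adapted to the coordinates. -/
structure Exact (z : G) (Q : Subgroup G) (p : G → Nat) (a r : Nat → G) (c : G) (w : List Nat) : Prop where
  norm : c ∈ Subgroup.normalizer (cGrp Q p 85 : Set G)
  comm : Commute c z
  acts : Acts z Q p c (levW w)
  cn_a : ∀ j < 4, cn z a r c (2 ^ (j + 1)) = unspr (app (levW w) (2 ^ (2 * j)))
  cn_r : ∀ n < 2048, (cn z a r c n) >>> 5 = lamOf (levW w) (n >>> 5)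

theorem levW_iff (w : List Nat) : (∀ n < 256, app (levW w) n < 256) →
    ∀ n < 256, n &&& 85 = n ↔ app (levW w) n &&& 85 = app (levW w) n := by
  induction w with
  | nil => intro _ n hn; rw [show levW [] = one from rfl, app_one n hn]
  | cons g w ih =>
    intro _ n hn
    have hlt : ∀ v : List Nat, ∀ m < 256, app (levW v) m < 256 := by
      intro v
      induction v with
      | nil => intro m hm; rw [show levW [] = one from rfl, app_one m hm]; exact hm
      | cons g' v ih' =>
        intro m hm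
        show app (comp (lev g') (levW v)) m < 256
        rw [app_comp (levW_length v)]
        refine lev_lt g' _ (ih' m hm)
    show _ ↔ app (comp (lev g) (levW w)) n &&& 85 = app (comp (lev g) (levW w)) n
    rw [app_comp (levW_length w), ih (hlt w) n hn]
    exact app_lev_iff (hlt w n hn)
where
  lev_lt : ∀ g m, m < 256 → app (lev g) m < 256 := by
    intro g m hm
    rcases lt_or_ge g 4 with h | h
    · have := (show ∀ g < 4, ∀ m < 256, app (lev g) m < 256 by decide +kernel)
      exact this g h m hm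
    · rw [lev_default h, app_one m hm]; exact hm

namespace Coord

variable (F : CfsgLib.Recog.CoOneType.Frame z Q p k) (C : Coord z Q p k a r)
include F C

theorem z_mem : z ∈ cGrp Q p 85 := by
  rw [← (el_gen (z := z) a r).1]
  exact el_mem F C 1

theorem x_eq : el z a r 2 = k * z * k⁻¹ := by rw [← C.a_zero]; exact (el_gen a r).2.1 0 (by norm_num)

theorem el_xor_z (n : Nat) (b : Bool) : el z a r (n ^^^ (bif b then 1 else 0)) = el z a r n * sg z b := by
  rw [el_xor F C]
  cases b
  · rw [cond_false, el_zero F C]; rfl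
  · rw [cond_true, (el_gen a r).1]; rfl

theorem acts_norm {c : G} {L : List Nat} (hc : Acts z Q p c L)
    (hL : ∀ n < 256, n &&& 85 = n ↔ app L n &&& 85 = app L n) :
    c ∈ Subgroup.normalizer (cGrp Q p 85 : Set G) :=
  Subgroup.mem_normalizer_iff.2 fun x => Sys.conj_cGrp F.sys hc hL

theorem q_norm {q : G} (hq : q ∈ Q) : q ∈ Subgroup.normalizer (cGrp Q p 85 : Set G) :=
  acts_norm F C (F.sys.acts_of_mem hq) fun n hn => by rw [app_one n hn]

theorem cn_lift {i : Nat} (hi : i < 4) {q : G} (hq : q ∈ Q) (hpq : p q = 2 ^ (2 * i + 1)) :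
    ∀ n < 2048, cn z a r q n = tauB i n := by
  have hN := q_norm F C hq
  obtain ⟨-, -, t0, t1, ta, tr, tlt, -⟩ := tau_facts
  have hzero : cn z a r q 0 = tauB i 0 := by
    rw [t0 i hi, cn_of_comm F C (by norm_num) (by rw [el_zero F C]; exact Commute.one_right q)]
  refine lin11 (· ^^^ ·) _ _ (fun m n _ _ => cn_xor F C hN m n) (fun m n _ _ => tauB_xor m n) hzero fun j hj => ?_
  obtain ⟨g1, g2, g3⟩ := el_gen (z := z) a r
  rcases lt_or_ge j 5 with hj5 | hj5
  · rcases j with _ | j
    · rw [pow_zero, t1 i hi, cn_of_comm F C (by norm_num) (by rw [g1]; exact F.sys.large.commute_z hq)]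
    · have hj4 : j < 4 := by omega
      have h2 : 2 ^ (j + 1) < 2048 := Nat.pow_lt_pow_right (by norm_num) hj
      rw [ta i hi j hj4]
      refine dec_eq F C (Nat.xor_lt_two_pow (n := 11) h2 ?_) ?_
      · cases bb (2 ^ (2 * i + 1)) (2 ^ (2 * j)) <;> norm_num
      · rw [el_xor_z F C, g2 j hj4]
        obtain ⟨ha, hpa⟩ := C.a_mem j hj4
        rw [F.sys.conj_eq ha hq, hpq, hpa]
  · obtain ⟨t, rfl⟩ : ∃ t, j = 5 + t := ⟨j - 5, by omega⟩
    have ht : t < 6 := by omega
    rw [tr i hi t ht]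
    refine dec_eq F C (Nat.xor_lt_two_pow (n := 11) (Nat.pow_lt_pow_right (by norm_num) hj) ?_) ?_
    · exact lt_trans (tlt i hi t ht) (by norm_num)
    · rw [el_xor F C, g3 t ht]
      exact (C.rel i hi q hq hpq t ht).symm

/-- The action of an element of `Q` over a complementary vector. -/
theorem cn_tau {x : Nat} (hx : x < 16) {q : G} (hq : q ∈ Q) (hpq : p q = wsp x) :
    ∀ n < 2048, cn z a r q n = tau x n := by
  intro n hn
  let g : Nat → G := fun i => aOf Q p (2 ^ (2 * i + 1))
  have hg : ∀ i < 4, g i ∈ Q ∧ p (g i) = 2 ^ (2 * i + 1) := fun i hi =>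
    F.aOf_spec (show 2 ^ (2 * i + 1) < 256 by interval_cases i <;> norm_num)
  let h : Nat → G := fun i => bif x.testBit i then g i else 1
  have hh : ∀ i < 4, h i ∈ Q ∧ p (h i) = sel x i (2 ^ (2 * i + 1)) := by
    intro i hi
    simp only [h, sel]
    cases x.testBit i
    · exact ⟨Q.one_mem, F.sys.p_one⟩
    · exact hg i hi
  obtain ⟨⟨a0, b0⟩, ⟨a1, b1⟩, ⟨a2, b2⟩, ⟨a3, b3⟩⟩ :=
    And.intro (hh 0 (by norm_num)) (And.intro (hh 1 (by norm_num)) (And.intro (hh 2 (by norm_num)) (hh 3 (by norm_num))))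
  have hpp : p (h 0 * h 1 * h 2 * h 3) = p q := by
    rw [F.sys.map_mul _ (mul_mem (mul_mem a0 a1) a2) _ a3, F.sys.map_mul _ (mul_mem a0 a1) _ a2,
      F.sys.map_mul _ a0 _ a1, b0, b1, b2, b3, hpq]
    rfl
  obtain ⟨e, he⟩ := F.sys.eq_of_p (mul_mem (mul_mem (mul_mem a0 a1) a2) a3) hq hpp
  have hone : ∀ i < 4, ∀ m < 2048, cn z a r (h i) m = (bif x.testBit i then tauB i m else m) := by
    intro i hi m hm
    simp only [h]
    cases x.testBit i
    · exact cn_one F C hm
    · exact cn_lift F C hi (hg i hi).1 (hg i hi).2 m hm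
  have hN := fun i (hi : i < 4) => q_norm F C (hh i hi).1
  have hlt := fun i (hi : i < 4) m => (cn_spec F C (hN i hi) m).1
  have hz : cn z a r (sg z e) n = n := by
    refine cn_of_comm F C hn ?_
    have hc : Commute (el z a r n) z := Sys.commute_z_cGrp F.sys (el_mem F C n)
    exact (F.sys.sg_comm hc e).symm
  rw [he, cn_mul F C (q_norm F C (mul_mem (mul_mem (mul_mem a0 a1) a2) a3)) (q_norm F C (F.sys.sg_mem e)), hz,
    cn_mul F C (q_norm F C (mul_mem (mul_mem a0 a1) a2)) (hN 3 (by norm_num)),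
    cn_mul F C (q_norm F C (mul_mem a0 a1)) (hN 2 (by norm_num)), cn_mul F C (hN 0 (by norm_num)) (hN 1 (by norm_num)),
    hone 0 (by norm_num) _ (hlt 1 (by norm_num) _), hone 1 (by norm_num) _ (hlt 2 (by norm_num) _),
    hone 2 (by norm_num) _ (hlt 3 (by norm_num) _), hone 3 (by norm_num) n hn]
  rfl

theorem co_tau {x : Nat} (hx : x < 16) {q : G} (hq : q ∈ Q) (hpq : p q = wsp x) (f : Nat) :
    co z a r q f = cotau x f := by
  refine par_ext (msk_lt _) (msk_lt _) fun i hi => ?_
  have h2 : 2 ^ i < 2048 := Nat.pow_lt_pow_right (by norm_num) hi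
  rw [par_co F C (q_norm F C hq) f h2, cn_tau F C hx hq hpq _ h2, par_two_pow hi, cotau, msk, mskN_bit]
  simp [hi]

theorem exists_tau {x : Nat} (hx : x < 16) : ∃ q, q ∈ Q ∧ q ∈ Subgroup.normalizer (cGrp Q p 85 : Set G) ∧
    Commute q z ∧ p q = wsp x ∧ (∀ n < 2048, cn z a r q n = tau x n) ∧ ∀ f, co z a r q f = cotau x f := by
  obtain ⟨h1, h2⟩ := F.aOf_spec (tau_facts.1 x hx)
  exact ⟨_, h1, q_norm F C h1, F.sys.large.commute_z h1, h2, cn_tau F C hx h1 h2, co_tau F C hx h1 h2⟩

theorem lam_eq {c : G} {w : List Nat} (hN : c ∈ Subgroup.normalizer (cGrp Q p 85 : Set G))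
    (hc : Acts z Q p c (levW w)) {n : Nat} (hn : n < 2048) : (cn z a r c n) >>> 5 = lamOf (levW w) (n >>> 5) := by
  obtain ⟨hlt, e⟩ := cn_spec F C hN n
  have hs : ∀ m < 2048, m >>> 5 < 64 := fun m hm => by rw [Nat.shiftRight_eq_div_pow]; omega
  have h1 := F.sys.acts_mul (rmap_facts.1 _ (hs n hn)) hc (el_acts F C n hn)
  have h2 := F.sys.acts_mul (levW_length w) (el_acts F C _ hlt) hc
  rw [e, inv_mul_cancel_right] at h2
  have heq := F.sys.acts_unique (by rw [length_comp, levW_length])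
    (by rw [length_comp, rmap_facts.1 _ (hs n hn)]) h2 h1
  unfold lamOf
  cases hf : (List.range 64).find? fun s => comp (rmap s) (levW w) == comp (levW w) (rmap (n >>> 5)) with
  | none =>
    exfalso
    have := List.find?_eq_none.1 hf _ (List.mem_range.2 (hs _ hlt))
    exact this (beq_iff_eq.2 heq)
  | some s =>
    rw [Option.getD_some]
    have h3 := List.find?_some hf
    rw [beq_iff_eq, ← heq] at h3
    have hs' := List.mem_range.1 (List.mem_of_find?_eq_some hf)
    refine (coord_facts.2.2.2.2.2 _ hs' _ (hs _ hlt) (eq_of_app (rmap_facts.1 _ hs') (rmap_facts.1 _ (hs _ hlt))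
      fun m hm => ?_)).symm
    have hm256 : m < 256 := by revert m; decide
    obtain ⟨y, hy, rfl⟩ := F.sys.app_surj hc m hm256
    rw [← app_comp (levW_length w), ← app_comp (levW_length w), h3]

theorem exists_exact (w : List Nat) : ∃ c, Exact z Q p a r c w := by
  obtain ⟨c, hc⟩ := Sys.exists_levW F.sys w
  have hlt : ∀ n < 256, app (levW w) n < 256 := by
    intro n hn
    obtain ⟨y, hy, rfl⟩ := F.sys.surj n hn
    rw [← hc.2 y hy]
    exact F.sys.lt _ (F.sys.large.conj_mem hc.1 hy)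
  have hL := levW_iff w hlt
  -- the signs of the images of the first four generators
  have hb : ∀ j < 4, ∃ b : Bool, c * a j * c⁻¹ = el z a r (unspr (app (levW w) (2 ^ (2 * j)))) * sg z b := by
    intro j hj
    obtain ⟨ha, hpa⟩ := C.a_mem j hj
    have h256 : 2 ^ (2 * j) < 256 := by interval_cases j <;> norm_num
    have hw := List.all_eq_true.1 coord_facts.2.2.2.1 _ (List.mem_range.2 (hlt _ h256))
    simp only [(hL _ h256).1 (coord_facts.1 j hj), beq_self_eq_true, Bool.not_true, Bool.false_or, Bool.and_eq_true,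
      decide_eq_true_eq, beq_iff_eq] at hw
    obtain ⟨h1, h2⟩ := p_qPart F.sys C.a_mem (unspr (app (levW w) (2 ^ (2 * j))))
    rw [el_low hw.1.1]
    refine F.sys.eq_of_p h1 (F.sys.large.conj_mem hc.1 ha) ?_
    rw [h2, hw.1.2, hc.2 _ ha, hpa]
  choose! b hb using hb
  let x : Nat := (bif b 0 then 1 else 0) ^^^ (bif b 1 then 2 else 0) ^^^ (bif b 2 then 4 else 0) ^^^ (bif b 3 then 8 else 0)
  obtain ⟨hx, hbx⟩ : x < 16 ∧ ∀ j < 4, bb (wsp x) (2 ^ (2 * j)) = b j := by
    have key : ∀ b0 b1 b2 b3 : Bool,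
        ((bif b0 then 1 else 0) ^^^ (bif b1 then 2 else 0) ^^^ (bif b2 then 4 else 0) ^^^ (bif b3 then 8 else 0)) < 16 ∧
        ∀ j < 4, bb (wsp ((bif b0 then 1 else 0) ^^^ (bif b1 then 2 else 0) ^^^ (bif b2 then 4 else 0) ^^^
          (bif b3 then 8 else 0))) (2 ^ (2 * j)) = [b0, b1, b2, b3].getD j false := by decide +kernel
    obtain ⟨k1, k2⟩ := key (b 0) (b 1) (b 2) (b 3)
    refine ⟨k1, fun j hj => (k2 j hj).trans ?_⟩
    interval_cases j <;> rfl
  obtain ⟨hq, hpq⟩ := F.aOf_spec (tau_facts.1 x hx)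
  have hA : Acts z Q p (c * aOf Q p (wsp x)) (levW w) := by
    have e : comp (levW w) one = levW w :=
      eq_of_app (by rw [length_comp]; rfl) (levW_length w) fun n hn => by
        have : n < 256 := by revert n; decide
        rw [app_comp (show one.length = 8 from rfl), app_one n this]
    exact e ▸ F.sys.acts_mul (show one.length = 8 from rfl) hc (F.sys.acts_of_mem hq)
  have hN := acts_norm F C hA hL
  refine ⟨c * aOf Q p (wsp x), hN, hA.1, hA, fun j hj => ?_, fun n hn => lam_eq F C hN hA hn⟩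
  obtain ⟨ha, hpa⟩ := C.a_mem j hj
  have h256 : 2 ^ (2 * j) < 256 := by interval_cases j <;> norm_num
  have hw := List.all_eq_true.1 coord_facts.2.2.2.1 _ (List.mem_range.2 (hlt _ h256))
  simp only [(hL _ h256).1 (coord_facts.1 j hj), beq_self_eq_true, Bool.not_true, Bool.false_or, Bool.and_eq_true,
    decide_eq_true_eq, beq_iff_eq] at hw
  refine dec_eq F C (lt_trans hw.1.1 (by norm_num)) ?_
  rw [(el_gen (z := z) a r).2.1 j hj,
    show c * aOf Q p (wsp x) * a j * (c * aOf Q p (wsp x))⁻¹ =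
      c * (aOf Q p (wsp x) * a j * (aOf Q p (wsp x))⁻¹) * c⁻¹ by group,
    F.sys.conj_eq ha hq, hpq, hpa, hbx j hj,
    show c * (a j * sg z (b j)) * c⁻¹ = c * a j * c⁻¹ * (c * sg z (b j) * c⁻¹) by group, hb j hj,
    (F.sys.sg_comm hc.1 _).eq, mul_inv_cancel_right, mul_assoc, F.sys.sg_mul, Bool.xor_self]
  exact (mul_one _).symm

end Coord

end CfsgLib.Recog.CoOneCode
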