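import Cfsg.Agent.Lib.Recog.CoOneCode.Moves
import Cfsg.Agent.Lib.Recog.CoOneCode.Move
import Cfsg.Agent.Lib.Recog.CoOneType.Distinct
import Cfsg.Agent.Lib.Recog.CoOneType.Climb

/-!
The conjugates of the central involution in the elementary abelian subgroup: there are `759`
(owner: helper8).
-/

set_option autoImplicit false
set_option linter.unusedSectionVars false
set_option linter.unusedVariables false
set_option quotPrecheck false
set_option maxRecDepth 100000
set_option maxHeartbeats 800000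
set_option Elab.async false

namespace CfsgLib.Recog.CoOneCode

open CfsgLib.Recog.CoOneType CfsgLib.Recog.CoOneFive CfsgLib.ThreeTrans

/-- Words moving the first vector of the subspace to every vector. -/
def eWords : List (List Nat) :=
  [[], [0], [3], [1, 0], [1, 3], [0, 1, 3], [3, 1, 3], [2, 1, 0], [2, 1, 3], [0, 2, 1, 3], [2, 3, 1, 3], [1, 0, 2, 1, 3], [1, 2, 3, 1, 3], [0, 1, 2, 3, 1, 3], [3, 1, 2, 3, 1, 3]]

/-- Words moving the first bit to every singular one. -/
def lamSWords : List (List Nat) :=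
  [[], [1], [0, 1, 3, 1], [2, 1], [0, 2, 1, 3, 1], [1, 0, 2, 1, 3, 1], [0, 1, 2, 3, 1, 2, 3, 1], [0, 1], [1, 3, 1], [3, 1], [3, 0, 1, 3, 1], [0, 2, 1], [2, 1, 3, 1], [2, 3, 1], [2, 3, 0, 1, 3, 1], [0, 1, 0, 2, 1, 3, 1], [1, 2, 3, 1, 2, 3, 1], [3, 1, 0, 2, 1, 3, 1], [3, 0, 1, 2, 3, 1, 2, 3, 1], [1, 0, 2, 1], [1, 2, 1, 3, 1], [1, 2, 3, 1], [1, 2, 3, 0, 1, 3, 1], [0, 1, 2, 1, 3, 1], [2, 3, 1, 2, 3, 1], [1, 3, 1, 0, 2, 1, 3, 1], [1, 3, 0, 1, 2, 3, 1, 2, 3, 1], [0, 1, 2, 3, 1], [0, 1, 3, 1, 0, 2, 1, 3, 1], [3, 1, 2, 3, 1], [0, 1, 3, 1, 2, 3, 0, 1, 3, 1], [0, 1, 2, 3, 0, 1, 3, 1], [2, 1, 3, 1, 2, 3, 0, 1, 3, 1], [1, 3, 1, 2, 3, 0, 1, 3, 1], [3, 1, 2, 3, 0, 1, 3, 1]]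

/-- Words moving the standard nonsingular bit pattern to every one. -/
def lamNWords : List (List Nat) :=
  [[0, 1], [1, 0, 3, 1], [0, 3, 1], [0, 1, 3, 0, 1, 3, 1], [1], [0, 1, 0, 3, 1], [0, 2, 3, 1], [0, 3, 1, 0, 3, 1], [3, 1], [1, 3, 0, 1, 3, 1], [2, 3, 1], [3, 1, 0, 3, 1], [], [0, 1, 3, 1], [0, 2, 1, 3, 1], [1, 0, 3, 1, 0, 3, 1], [1, 3, 1], [3, 0, 1, 3, 1], [1, 2, 3, 1], [1, 3, 1, 0, 3, 1], [2, 1, 3, 1], [0, 1, 2, 3, 1], [2, 3, 0, 1, 3, 1], [0, 3, 1, 2, 3, 1], [1, 2, 3, 1, 2, 3, 1], [2, 3, 1, 2, 3, 1], [3, 1, 2, 3, 1], [3, 1, 0, 3, 1, 0, 3, 1]]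

/-- Words fixing the first two vectors. -/
def t23Words : List (List Nat) :=
  [[], [2], [1, 0, 2, 1, 3, 1, 0, 2, 1]]

/-- The quadratic form of the six bits. -/
def pf (k : Nat) : Bool :=
  (k.testBit 0 && k.testBit 5) ^^ ((k.testBit 1 && k.testBit 4) ^^ (k.testBit 2 && k.testBit 3))

/-- The number of conjugates of `z` over six bits. -/
def cnt (k : Nat) : Nat := if k = 0 then 31 else if pf k then 16 else 8

/-- One of the two orbits over the standard nonsingular pattern. -/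
def inA (n : Nat) : Bool := (List.range 16).any fun x => tau x 1056 == n

theorem orbit_facts :
    ((List.range 32).all fun n => decide (n < 2) || eWords.any fun w => (List.range 16).any fun x =>
      tau x (unspr (app (levW w) 1)) == n) = true ∧
    ((List.range 32).all fun l0 => !(l0 &&& 28 == 4) || (List.range 32).all fun l =>
      bif l &&& 24 == 0 then (List.range 4).any fun v => (List.range 16).any fun x => tau x (32 ^^^ l0 ^^^ v) == 32 ^^^ l
      else (List.range 4).all fun v => (List.range 16).any fun x => tau x (32 ^^^ l0 ^^^ v ^^^ (l &&& 24)) == 32 ^^^ l)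
      = true ∧
    ([8, 16, 24].all fun h => t23Words.any fun w => (app (levW w) 1 == 1) && (app (levW w) 4 == 4) &&
      (unspr (app (levW w) 16) == h) && (comp (levW w) (rho 4) == comp (rho 4) (levW w))) = true ∧
    ((List.range 64).all fun k => k == 0 || bif pf k then lamNWords.any fun w => lamOf (levW w) 33 == k
      else lamSWords.any fun w => lamOf (levW w) 1 == k) = true ∧
    ((List.range 32).all fun l => (List.range 16).any fun x => tau x (1056 ^^^ l) == (bif inA (1056 ^^^ l) then 1056 else 1057))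
      = true := by
  decide +kernel

theorem cnt_facts : (∑ k ∈ Finset.range 64, cnt k) = 759 ∧
    (∑ k ∈ Finset.range 64, if k = 0 then 31 else if pf k then 0 else 8) = 311 ∧
    (∑ k ∈ Finset.range 64, if k = 0 then 31 else if pf k then 32 else 8) = 1207 ∧
    (∀ b1 b2 : Bool, ((Finset.range 2048).filter fun n => n >>> 5 = 33 ∧
      (bif inA n then b1 else b2) = true).card ∈ [0, 16, 32]) ∧
    (∀ k < 2, ∀ n < 2048, n >>> 5 = k → n = k * 32 ^^^ (n % 32)) ∧
    (∀ l < 32, (1056 ^^^ l) >>> 5 = 33) ∧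
    (∀ n < 2048, n >>> 5 = 33 → n = 1056 ^^^ (n % 32)) ∧
    ((Finset.range 2048).filter fun n => n >>> 5 = 0 ∧ n ≠ 0).card = 31 ∧
    ((Finset.range 2048).filter fun n => n >>> 5 = 1 ∧ n &&& 24 = 0).card = 8 := by
  decide +kernel

theorem no_primes : ∀ q, (q = 311 ∨ q = 71) → ∀ j ≤ 11, j ≠ 11 → ¬ (2 ^ j ≡ 2048 [MOD q]) := by
  rintro q (rfl | rfl) j hj hne <;> interval_cases j <;> first | decide | exact absurd rfl hne

variable {G : Type*} [Group G] [Finite G] {z : G} {Q : Subgroup G} {p : G → Nat} {k u : G} {a r : Nat → G} {g : G}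

/-- The data for counting. -/
structure Ctx (z : G) (Q : Subgroup G) (p : G → Nat) (k : G) (a r : Nat → G) (g : G) : Prop where
  frame : CfsgLib.Recog.CoOneType.Frame z Q p k
  coord : Coord z Q p k a r
  g_norm : g ∈ Subgroup.normalizer (cGrp Q p 85 : Set G)
  g_z : g * z * g⁻¹ = k * z * k⁻¹
  g_e : ∀ i j, ∃ e ∈ Q, p e &&& 85 = p e ∧ p e ≠ 0 ∧
    g * e * g⁻¹ = sOf z Q p k 4 * (sg z i * sg (k * z * k⁻¹) j)

theorem Frame.exists_ctx (F : CfsgLib.Recog.CoOneType.Frame z Q p k) (hu : Good z Q p k u) :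
    ∃ (a r : Nat → G) (g : G), Ctx z Q p k a r g := by
  obtain ⟨a, r, C⟩ := Frame.exists_coord F hu
  obtain ⟨g, h1, h2, h3⟩ := Frame.exists_move F hu
  exact ⟨a, r, g, F, C, Subgroup.mem_normalizer_iff.2 h1, h2, h3⟩

open scoped _root_.Classical in
/-- The coordinates of the conjugates of `z` under the normalizer. -/
noncomputable def oSet (z : G) (Q : Subgroup G) (p : G → Nat) (a r : Nat → G) : Finset Nat :=
  (Finset.range 2048).filter fun n =>
    ∃ c ∈ Subgroup.normalizer (cGrp Q p 85 : Set G), c * z * c⁻¹ = el z a r n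

namespace Ctx

variable (D : Ctx z Q p k a r g)
include D

local notation "X" => k * z * k⁻¹
local notation "P" => Q.map (MulAut.conj k).toMonoidHom
local notation "NN" => Subgroup.normalizer (cGrp Q p 85 : Set G)
local notation "O" => oSet z Q p a r
local notation "cN" => cn z a r

theorem mem_o {n : Nat} : n ∈ O ↔ n < 2048 ∧ ∃ c ∈ NN, cN c 1 = n := by
  simp only [oSet, Finset.mem_filter, Finset.mem_range]
  refine and_congr_right fun hn => exists_congr fun c => and_congr_right fun hc => ?_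
  constructor
  · intro e
    exact Coord.dec_eq D.frame D.coord hn (by rw [(el_gen (z := z) a r).1, e])
  · rintro rfl
    rw [(Coord.cn_spec D.frame D.coord hc 1).2, (el_gen (z := z) a r).1]

theorem o_image {c : G} (hc : c ∈ NN) {n : Nat} (hn : n < 2048) : cN c n ∈ O ↔ n ∈ O := by
  constructor
  · intro h
    obtain ⟨-, d, hd, e⟩ := mem_o D |>.1 h
    refine (mem_o D).2 ⟨hn, c⁻¹ * d, mul_mem (inv_mem hc) hd, ?_⟩
    rw [Coord.cn_mul D.frame D.coord (inv_mem hc) hd, e, ← Coord.cn_mul D.frame D.coord (inv_mem hc) hc,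
      inv_mul_cancel, Coord.cn_one D.frame D.coord hn]
  · intro h
    obtain ⟨-, d, hd, e⟩ := mem_o D |>.1 h
    exact (mem_o D).2 ⟨(Coord.cn_spec D.frame D.coord hc n).1, c * d, mul_mem hc hd, by
      rw [Coord.cn_mul D.frame D.coord hc hd, e]⟩

theorem o_tau {x n : Nat} (hx : x < 16) (hn : n < 2048) : tau x n ∈ O ↔ n ∈ O := by
  obtain ⟨q, -, hq, -, -, hcn, -⟩ := Coord.exists_tau D.frame D.coord hx
  rw [← hcn n hn]
  exact o_image D hq hn

theorem one_mem_o : (1 : Nat) ∈ O :=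
  (mem_o D).2 ⟨by norm_num, 1, one_mem _, Coord.cn_one D.frame D.coord (by norm_num)⟩

theorem zero_not_mem : (0 : Nat) ∉ O := by
  intro h
  obtain ⟨-, c, hc, e⟩ := (mem_o D).1 h
  have h2 := (Coord.cn_spec D.frame D.coord hc 1).2
  rw [e, Coord.el_zero D.frame D.coord, (el_gen (z := z) a r).1] at h2
  exact D.frame.sys.large.z_ne_one (conj_eq_one_iff.1 h2.symm)

theorem two_mem_o : (2 : Nat) ∈ O :=
  (mem_o D).2 ⟨by norm_num, g, D.g_norm, Coord.dec_eq D.frame D.coord (by norm_num)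
    (by rw [Coord.x_eq D.frame D.coord, (el_gen (z := z) a r).1, D.g_z])⟩

/-- All nontrivial elements of the part in `Q`. -/
theorem low_mem_o {n : Nat} (h1 : 1 ≤ n) (hn : n < 32) : n ∈ O := by
  rcases Nat.eq_or_lt_of_le h1 with e | e
  · exact e ▸ one_mem_o D
  have h := List.all_eq_true.1 orbit_facts.1 n (List.mem_range.2 hn)
  simp only [Bool.or_eq_true, decide_eq_true_eq, List.any_eq_true, List.mem_range,
    beq_iff_eq] at h
  obtain ⟨w, -, x, hx, e'⟩ := h.resolve_left (by omega)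
  obtain ⟨c, hc⟩ := Coord.exists_exact D.frame D.coord w
  have h2 : cN c 2 = unspr (app (levW w) 1) := hc.cn_a 0 (by norm_num)
  have h3 := (o_image D hc.norm (by norm_num : (2 : Nat) < 2048)).2 (two_mem_o D)
  rw [h2] at h3
  rw [← e', o_tau D hx ((mem_o D).1 h3).1]
  exact h3

theorem q_iff {n : Nat} (hn : n < 2048) : el z a r n ∈ Q ↔ n >>> 5 = 0 := by
  constructor
  · intro h
    have hlt : n >>> 5 < 64 := by rw [Nat.shiftRight_eq_div_pow]; omega
    refine coord_facts.2.2.2.2.2 _ hlt 0 (by norm_num) ?_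
    rw [rmap_facts.2.1]
    exact D.frame.sys.acts_unique (rmap_facts.1 _ hlt) rfl (Coord.el_acts D.frame D.coord n hn)
      (D.frame.sys.acts_of_mem h)
  · intro h
    rw [el_low (by rw [Nat.shiftRight_eq_div_pow] at h; omega)]
    exact (p_qPart D.frame.sys D.coord.a_mem n).1

theorem exists_shift : ∃ l0 < 32, l0 &&& 28 = 4 ∧ el z a r (32 ^^^ l0) = sOf z Q p k 4 := by
  obtain ⟨l0, hl, hl', e⟩ := D.coord.r_zero
  refine ⟨l0, hl, hl', ?_⟩
  have h32 : el z a r 32 = r 0 := (el_gen (z := z) a r).2.2 0 (by norm_num)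
  rw [Coord.el_xor D.frame D.coord, h32, e, mul_assoc, ← pow_two, D.coord.elem.2 _ (Coord.el_mem D.frame D.coord l0),
    mul_one]

theorem el_small : ∀ i j : Bool, el z a r ((bif i then 1 else 0) ^^^ (bif j then 2 else 0)) = sg z i * sg X j := by
  intro i j
  rw [Coord.el_xor D.frame D.coord]
  cases i <;> cases j <;>
    simp [Coord.el_zero D.frame D.coord, (el_gen (z := z) a r).1, Coord.x_eq D.frame D.coord, sg]

theorem small_cases {v : Nat} (hv : v < 4) : ∃ i j : Bool, v = (bif i then 1 else 0) ^^^ (bif j then 2 else 0) := by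
  interval_cases v
  exacts [⟨false, false, rfl⟩, ⟨true, false, rfl⟩, ⟨false, true, rfl⟩, ⟨true, true, rfl⟩]

theorem line_mem {l0 v : Nat} (hl : l0 < 32) (hs : el z a r (32 ^^^ l0) = sOf z Q p k 4) (hv : v < 4) :
    32 ^^^ l0 ^^^ v ∈ O := by
  have hlt : 32 ^^^ l0 ^^^ v < 2048 :=
    Nat.xor_lt_two_pow (n := 11) (Nat.xor_lt_two_pow (n := 11) (by norm_num) (by omega)) (by omega)
  obtain ⟨i, j, rfl⟩ := small_cases D hv
  obtain ⟨e, heQ, hem, he0, hge⟩ := D.g_e i j
  have heA : e ∈ cGrp Q p 85 := (Sys.mem_cGrp_q D.frame.sys heQ).2 hem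
  obtain ⟨n, hn, hne⟩ := Coord.el_surj D.frame D.coord heA
  have hlow : n >>> 5 = 0 := (q_iff D hn).1 (hne ▸ heQ)
  have hn1 : 1 ≤ n := by
    by_contra h0
    obtain rfl : n = 0 := by omega
    rw [Coord.el_zero D.frame D.coord] at hne
    exact he0 (hne ▸ D.frame.sys.p_one)
  have hnO := low_mem_o D hn1 (by rw [Nat.shiftRight_eq_div_pow] at hlow; omega)
  rw [← o_image D D.g_norm hn] at hnO
  convert hnO using 1
  refine (Coord.dec_eq D.frame D.coord hlt ?_).symm
  rw [hne, hge, Coord.el_xor D.frame D.coord, hs, el_small D]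

theorem non_mem {l0 v h : Nat} (hl : l0 < 32) (hl' : el z a r (32 ^^^ l0) = sOf z Q p k 4) (hv : v < 4)
    (hh : h = 8 ∨ h = 16 ∨ h = 24) : 32 ^^^ l0 ^^^ v ^^^ h ∉ O := by
  intro hO
  have F := D.frame
  have C := D.coord
  have hw := List.all_eq_true.1 orbit_facts.2.2.1 h (by rcases hh with rfl | rfl | rfl <;> simp)
  simp only [List.any_eq_true, Bool.and_eq_true, beq_iff_eq] at hw
  obtain ⟨w, -, ⟨⟨w1, w4⟩, w16⟩, wc⟩ := hw
  obtain ⟨c, hc⟩ := Coord.exists_exact F C w
  have hcX : Commute c X := by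
    have h2 : cN c 2 = unspr (app (levW w) 1) := hc.cn_a 0 (by norm_num)
    rw [w1, show unspr 1 = 2 by decide +kernel] at h2
    have := (Coord.cn_spec F C hc.norm 2).2
    rw [h2, Coord.x_eq F C] at this
    exact mul_inv_eq_iff_eq_mul.1 this.symm
  obtain ⟨s1, s2, s3⟩ := F.sOf_spec (show 4 ∈ sect by decide +kernel)
  have hconj : Acts z Q p (c * sOf z Q p k 4 * c⁻¹) (rho 4) :=
    F.sys.acts_conj (levW_length w) (length_rho 4) (length_rho 4) hc.acts s3 wc
  obtain ⟨i, j, hij⟩ := F.inter (F.sys.inv_mul_mem s3 hconj)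
    (mul_mem (Subgroup.inv_mem _ s1) (F.sys'.large.conj_mem hcX s1))
  -- the image of the element outside the class
  obtain ⟨h16, hp16⟩ := F.aOf_spec (show 16 < 256 by norm_num)
  obtain ⟨e, he⟩ : ∃ e : Bool, aOf Q p 16 = el z a r (8 ^^^ (bif e then 1 else 0)) := by
    obtain ⟨m1, m2⟩ := C.a_mem 2 (by norm_num)
    obtain ⟨e, he⟩ := F.sys.eq_of_p m1 h16 (m2.trans hp16.symm)
    refine ⟨e, he.trans ?_⟩
    rw [Coord.el_xor_z F C]
    congr 1
    exact ((el_gen (z := z) a r).2.1 2 (by norm_num)).symm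
  have hu : el z a r (32 ^^^ l0 ^^^ (8 ^^^ (bif e then 1 else 0))) = uEl z Q p k := by
    rw [uEl, he, Coord.el_xor F C, hl']
  set n := 32 ^^^ l0 ^^^ (8 ^^^ (bif e then 1 else 0)) with hn
  have hnlt : n < 2048 := by
    have : (8 ^^^ (bif e then 1 else 0)) < 32 := by cases e <;> decide
    exact Nat.xor_lt_two_pow (n := 11) (Nat.xor_lt_two_pow (n := 11) (by norm_num) (by omega)) (by omega)
  have h0 : n ∉ O := fun hmem => by
    obtain ⟨-, d, hd, ed⟩ := (mem_o D).1 hmem
    refine F.uEl_ne (isConj_iff.2 ⟨d, ?_⟩)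
    rw [← hu, ← ed, (Coord.cn_spec F C hd 1).2, (el_gen (z := z) a r).1]
  -- the conjugate
  have h8 : cN c 8 = h := (hc.cn_a 2 (by norm_num)).trans w16
  have hbz : ∀ b : Bool, cN c (bif b then 1 else 0) = bif b then 1 else 0 := by
    intro b
    refine Coord.cn_of_comm F C (by cases b <;> norm_num) ?_
    cases b
    · rw [cond_false, Coord.el_zero F C]; exact Commute.one_right c
    · rw [cond_true, (el_gen (z := z) a r).1]; exact hc.comm
  set v' := (bif i then 1 else 0) ^^^ (bif j then 2 else 0) with hv'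
  have hv'4 : v' < 4 := by cases i <;> cases j <;> decide
  have hsl : cN c (32 ^^^ l0) = 32 ^^^ l0 ^^^ v' := by
    refine Coord.dec_eq F C (Nat.xor_lt_two_pow (n := 11) (Nat.xor_lt_two_pow (n := 11) (by norm_num) (by omega))
      (by omega)) ?_
    rw [Coord.el_xor F C, hl', hv', el_small D, ← hij, mul_inv_cancel_left]
  have hall : cN c n = 32 ^^^ l0 ^^^ v' ^^^ (h ^^^ (bif e then 1 else 0)) := by
    rw [hn, Coord.cn_xor F C hc.norm, Coord.cn_xor F C hc.norm 8, hsl, h8, hbz]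
  have h1 : 32 ^^^ l0 ^^^ v' ^^^ (h ^^^ (bif e then 1 else 0)) ∉ O := hall ▸ fun hm => h0 ((o_image D hc.norm hnlt).1 hm)
  -- move within the orbit of `Q`
  set v'' := v' ^^^ (bif e then 1 else 0) with hv''
  have hv''4 : v'' < 4 := Nat.xor_lt_two_pow (n := 2) hv'4 (by cases e <;> norm_num)
  have e1 : 32 ^^^ l0 ^^^ v' ^^^ (h ^^^ (bif e then 1 else 0)) = 32 ^^^ l0 ^^^ v'' ^^^ h := by
    rw [hv'']; ac_rfl
  rw [e1] at h1
  obtain ⟨l0', hl0', hl28, hl''⟩ := exists_shift D
  have hll : l0' = l0 := by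
    have hlt' : ∀ m < 32, 32 ^^^ m < 2048 := fun m hm => Nat.xor_lt_two_pow (n := 11) (by norm_num) (by omega)
    have := Coord.el_inj F C (hlt' _ hl0') (hlt' _ hl) (hl''.trans hl'.symm)
    exact Nat.xor_right_injective this
  rw [hll] at hl28
  have hmod : (32 ^^^ l0 ^^^ v ^^^ h) ^^^ 32 < 32 ∧ ((32 ^^^ l0 ^^^ v ^^^ h) ^^^ 32) &&& 24 = h ∧
      32 ^^^ ((32 ^^^ l0 ^^^ v ^^^ h) ^^^ 32) = 32 ^^^ l0 ^^^ v ^^^ h := by
    have key : ∀ l0 < 32, l0 &&& 28 = 4 → ∀ v < 4, ∀ h ∈ [8, 16, 24], (32 ^^^ l0 ^^^ v ^^^ h) ^^^ 32 < 32 ∧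
        ((32 ^^^ l0 ^^^ v ^^^ h) ^^^ 32) &&& 24 = h ∧
        32 ^^^ ((32 ^^^ l0 ^^^ v ^^^ h) ^^^ 32) = 32 ^^^ l0 ^^^ v ^^^ h := by decide +kernel
    exact key l0 hl hl28 v hv h (by rcases hh with rfl | rfl | rfl <;> simp)
  have hf := List.all_eq_true.1 orbit_facts.2.1 l0 (List.mem_range.2 hl)
  simp only [hl28, beq_self_eq_true, Bool.not_true, Bool.false_or, List.all_eq_true] at hf
  have hf' := hf _ (List.mem_range.2 hmod.1)
  rw [hmod.2.1, show (h == 0) = false by rcases hh with rfl | rfl | rfl <;> rfl, cond_false] at hf'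
  simp only [List.all_eq_true, List.any_eq_true, List.mem_range, beq_iff_eq] at hf'
  obtain ⟨x, hx, ex⟩ := hf' v'' hv''4
  rw [hmod.2.2] at ex
  rw [← ex, o_tau D hx] at hO
  · exact h1 hO
  · exact Nat.xor_lt_two_pow (n := 11) (Nat.xor_lt_two_pow (n := 11)
      (Nat.xor_lt_two_pow (n := 11) (by norm_num) (by omega)) (by omega)) (by rcases hh with rfl | rfl | rfl <;> norm_num)

/-- The conjugates over the standard singular pattern. -/
theorem mem_line {n : Nat} (hn : n < 2048) (h1 : n >>> 5 = 1) : n ∈ O ↔ n &&& 24 = 0 := by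
  obtain ⟨l0, hl, hl28, hl'⟩ := exists_shift D
  have hl32 : n % 32 < 32 := Nat.mod_lt _ (by norm_num)
  have en : n = 32 ^^^ n % 32 := cnt_facts.2.2.2.2.1 1 (by norm_num) n hn h1
  have hf := List.all_eq_true.1 orbit_facts.2.1 l0 (List.mem_range.2 hl)
  simp only [hl28, beq_self_eq_true, Bool.not_true, Bool.false_or, List.all_eq_true] at hf
  have hf' := hf _ (List.mem_range.2 hl32)
  have h24 : n &&& 24 = n % 32 &&& 24 := by
    have key : ∀ m < 32, (32 ^^^ m) &&& 24 = m &&& 24 := by decide +kernel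
    conv_lhs => rw [en]
    exact key _ hl32
  by_cases h : n % 32 &&& 24 = 0
  · rw [h, beq_self_eq_true, cond_true] at hf'
    simp only [List.any_eq_true, List.mem_range, beq_iff_eq] at hf'
    obtain ⟨v, hv, x, hx, ex⟩ := hf'
    rw [iff_true_right (h24.trans h), en, ← ex, o_tau D hx ?_]
    · exact line_mem D hl hl' hv
    · exact Nat.xor_lt_two_pow (n := 11) (Nat.xor_lt_two_pow (n := 11) (by norm_num) (by omega)) (by omega)
  · rw [iff_false_right (h24 ▸ h)]
    rw [beq_eq_false_iff_ne.2 h, cond_false] at hf'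
    simp only [List.all_eq_true, List.any_eq_true, List.mem_range, beq_iff_eq] at hf'
    obtain ⟨x, hx, ex⟩ := hf' 0 (by norm_num)
    have hh : n % 32 &&& 24 = 8 ∨ n % 32 &&& 24 = 16 ∨ n % 32 &&& 24 = 24 := by
      have key : ∀ m < 32, m &&& 24 ≠ 0 → m &&& 24 = 8 ∨ m &&& 24 = 16 ∨ m &&& 24 = 24 := by decide +kernel
      exact key _ hl32 h
    rw [en, ← ex, o_tau D hx]
    · exact non_mem D hl hl' (by norm_num) hh
    · exact Nat.xor_lt_two_pow (n := 11) (Nat.xor_lt_two_pow (n := 11)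
        (Nat.xor_lt_two_pow (n := 11) (by norm_num) (by omega)) (by norm_num))
        (by rcases hh with e | e | e <;> rw [e] <;> norm_num)

theorem lam_inj {c : G} {w : List Nat} (hc : Exact z Q p a r c w) {m n : Nat} (hm : m < 2048) (hn : n < 2048)
    (e : lamOf (levW w) (m >>> 5) = lamOf (levW w) (n >>> 5)) : m >>> 5 = n >>> 5 := by
  refine Nat.xor_eq_zero_iff.1 ?_
  rw [← Nat.shiftRight_xor_distrib]
  have hmn : m ^^^ n < 2048 := Nat.xor_lt_two_pow (n := 11) hm hn
  have h1 : cN c (m ^^^ n) >>> 5 = 0 := by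
    rw [Coord.cn_xor D.frame D.coord hc.norm, Nat.shiftRight_xor_distrib, hc.cn_r m hm, hc.cn_r n hn, e,
      Nat.xor_self]
  obtain ⟨hlt, he⟩ := Coord.cn_spec D.frame D.coord hc.norm (m ^^^ n)
  refine (q_iff D hmn).1 ?_
  have h2 := (q_iff D hlt).2 h1
  rw [he] at h2
  have h3 := D.frame.sys.large.conj_mem hc.comm.inv_left h2
  rwa [show c⁻¹ * (c * el z a r (m ^^^ n) * c⁻¹) * c⁻¹⁻¹ = el z a r (m ^^^ n) by group] at h3

/-- The size of a fibre of the conjugates depends only on the orbit of the bits. -/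
theorem fibre_eq {w : List Nat} {k0 k1 : Nat} (hk0 : k0 < 64) (e : lamOf (levW w) k0 = k1) :
    ((O).filter fun n => n >>> 5 = k0).card = ((O).filter fun n => n >>> 5 = k1).card := by
  obtain ⟨c, hc⟩ := Coord.exists_exact D.frame D.coord w
  have hN := hc.norm
  refine Finset.card_bij (fun n _ => cN c n) ?_ ?_ ?_
  · intro n hn
    obtain ⟨hO, hk⟩ := Finset.mem_filter.1 hn
    have hlt := ((mem_o D).1 hO).1
    exact Finset.mem_filter.2 ⟨(o_image D hN hlt).2 hO, by rw [hc.cn_r n hlt, hk, e]⟩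
  · intro m hm n hn e'
    have hm' := ((mem_o D).1 (Finset.mem_filter.1 hm).1).1
    have hn' := ((mem_o D).1 (Finset.mem_filter.1 hn).1).1
    rw [← Coord.cn_one D.frame D.coord hm', ← Coord.cn_one D.frame D.coord hn', ← inv_mul_cancel c,
      Coord.cn_mul D.frame D.coord (inv_mem hN) hN, Coord.cn_mul D.frame D.coord (inv_mem hN) hN, e']
  · intro n hn
    obtain ⟨hO, hk⟩ := Finset.mem_filter.1 hn
    have hlt := ((mem_o D).1 hO).1
    have hm := (Coord.cn_spec D.frame D.coord (inv_mem hN) n).1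
    have em : cN c (cN c⁻¹ n) = n := by
      rw [← Coord.cn_mul D.frame D.coord hN (inv_mem hN), mul_inv_cancel, Coord.cn_one D.frame D.coord hlt]
    refine ⟨cN c⁻¹ n, Finset.mem_filter.2 ⟨(o_image D (inv_mem hN) hlt).2 hO, ?_⟩, em⟩
    have h1 := hc.cn_r _ hm
    rw [em, hk] at h1
    have h32 : k0 * 32 < 2048 := by omega
    have e32 : (k0 * 32) >>> 5 = k0 := by rw [Nat.shiftRight_eq_div_pow]; omega
    have := lam_inj D hc hm h32 (by rw [← h1, e32, e])
    rwa [e32] at this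

theorem o_eq : ((O).card = ∑ k ∈ Finset.range 64, ((O).filter fun n => n >>> 5 = k).card) := by
  refine Finset.card_eq_sum_card_fiberwise fun n hn => ?_
  rw [Finset.mem_coe, Finset.mem_range, Nat.shiftRight_eq_div_pow]
  have := ((mem_o D).1 hn).1
  omega

theorem fibre_low : ((O).filter fun n => n >>> 5 = 0).card = 31 := by
  rw [← cnt_facts.2.2.2.2.2.2.2.1]
  congr 1
  ext n
  simp only [Finset.mem_filter, Finset.mem_range]
  constructor
  · rintro ⟨hO, hk⟩
    exact ⟨((mem_o D).1 hO).1, hk, fun e => zero_not_mem D (e ▸ hO)⟩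
  · rintro ⟨hn, hk, h0⟩
    exact ⟨low_mem_o D (by omega) (by rw [Nat.shiftRight_eq_div_pow] at hk; omega), hk⟩

theorem fibre_sing {k0 : Nat} (hk : k0 < 64) (h0 : k0 ≠ 0) (hpf : pf k0 = false) :
    ((O).filter fun n => n >>> 5 = k0).card = 8 := by
  have h := List.all_eq_true.1 orbit_facts.2.2.2.1 k0 (List.mem_range.2 hk)
  simp only [Bool.or_eq_true, beq_iff_eq, h0, false_or, hpf, cond_false, List.any_eq_true] at h
  obtain ⟨w, -, e⟩ := h
  rw [← fibre_eq D (by norm_num) e, ← cnt_facts.2.2.2.2.2.2.2.2]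
  congr 1
  ext n
  simp only [Finset.mem_filter, Finset.mem_range]
  constructor
  · rintro ⟨hO, hk'⟩
    have hn := ((mem_o D).1 hO).1
    exact ⟨hn, hk', (mem_line D hn hk').1 hO⟩
  · rintro ⟨hn, hk', h24⟩
    exact ⟨(mem_line D hn hk').2 h24, hk'⟩

theorem fibre_non {k0 : Nat} (hk : k0 < 64) (h0 : k0 ≠ 0) (hpf : pf k0 = true) :
    ((O).filter fun n => n >>> 5 = k0).card = ((O).filter fun n => n >>> 5 = 33).card := by
  have h := List.all_eq_true.1 orbit_facts.2.2.2.1 k0 (List.mem_range.2 hk)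
  simp only [Bool.or_eq_true, beq_iff_eq, h0, false_or, hpf, cond_true, List.any_eq_true] at h
  obtain ⟨w, -, e⟩ := h
  exact (fibre_eq D (by norm_num) e).symm

/-- Over the standard nonsingular pattern one of the four unions of orbits. -/
theorem fibre_std : ((O).filter fun n => n >>> 5 = 33).card ∈ [0, 16, 32] := by
  classical
  have key : ∀ n < 2048, n >>> 5 = 33 →
      (n ∈ O ↔ (bif inA n then decide ((1056 : Nat) ∈ O) else decide ((1057 : Nat) ∈ O)) = true) := by
    intro n hn hk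
    have en := cnt_facts.2.2.2.2.2.2.1 n hn hk
    have h := List.all_eq_true.1 orbit_facts.2.2.2.2 (n % 32) (List.mem_range.2 (Nat.mod_lt _ (by norm_num)))
    rw [← en] at h
    simp only [List.any_eq_true, List.mem_range, beq_iff_eq] at h
    obtain ⟨x, hx, e⟩ := h
    rw [← o_tau D hx hn, e]
    cases inA n <;> simp
  have := cnt_facts.2.2.2.1 (decide ((1056 : Nat) ∈ O)) (decide ((1057 : Nat) ∈ O))
  convert this using 2
  ext n
  simp only [Finset.mem_filter, Finset.mem_range]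
  constructor
  · rintro ⟨hO, hk⟩
    have hn := ((mem_o D).1 hO).1
    exact ⟨hn, hk, (key n hn hk).1 hO⟩
  · rintro ⟨hn, hk, h⟩
    exact ⟨(key n hn hk).2 h, hk⟩

theorem range_conj : Nat.card (Set.range fun c : NN => (c : G) * z * (c : G)⁻¹) = (O).card := by
  classical
  have e : (Set.range fun c : NN => (c : G) * z * (c : G)⁻¹) = el z a r '' (O : Set Nat) := by
    ext y
    constructor
    · rintro ⟨c, rfl⟩
      obtain ⟨h1, h2⟩ := Coord.cn_spec D.frame D.coord c.2 1
      refine ⟨_, (mem_o D).2 ⟨h1, c, c.2, rfl⟩, ?_⟩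
      rw [h2, (el_gen (z := z) a r).1]
    · rintro ⟨n, hn, rfl⟩
      obtain ⟨-, c, hc, rfl⟩ := (mem_o D).1 hn
      refine ⟨⟨c, hc⟩, ?_⟩
      rw [(Coord.cn_spec D.frame D.coord hc 1).2, (el_gen (z := z) a r).1]
  rw [e, Nat.card_coe_set_eq, Set.ncard_image_of_injOn, Set.ncard_coe_finset]
  intro m hm n hn e'
  exact Coord.el_inj D.frame D.coord ((mem_o D).1 hm).1 ((mem_o D).1 hn).1 e'

theorem card_nn : Nat.card NN = (O).card * Nat.card (NN ⊓ Subgroup.centralizer ({z} : Set G) : Subgroup G) := by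
  rw [← range_conj D]
  exact card_conj_orbit NN z

/-- An element of such a prime order would centralize the subgroup. -/
theorem no_prime {q : Nat} (hq : q = 311 ∨ q = 71) : ¬ q ∣ Nat.card NN := by
  intro hdvd
  have hprime : q.Prime := by rcases hq with rfl | rfl <;> norm_num
  haveI : Fact q.Prime := ⟨hprime⟩
  classical
  haveI := Fintype.ofFinite NN
  haveI := Fintype.ofFinite (cGrp Q p 85)
  obtain ⟨x, hx⟩ := exists_prime_orderOf_dvd_card' q hdvd
  have hxq : (x : G) ^ q = 1 := by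
    have := pow_orderOf_eq_one x
    rw [hx] at this
    exact congrArg Subtype.val this
  have hmem := fun y => (Subgroup.mem_normalizer_iff.1 x.2 y)
  let f : Function.End (cGrp Q p 85) := fun y => ⟨(x : G) * y * (x : G)⁻¹, (hmem y).1 y.2⟩
  have hpow : ∀ (n : Nat) (y : cGrp Q p 85), (((f ^ n) y : cGrp Q p 85) : G) = (x : G) ^ n * y * ((x : G) ^ n)⁻¹ := by
    intro n
    induction n with
    | zero => intro y; simp [Function.End.one_def]
    | succ n ih =>
      intro y
      rw [pow_succ']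
      show (x : G) * ((f ^ n) y : G) * (x : G)⁻¹ = _
      rw [ih y, pow_succ']
      group
  have hf : f ^ (q ^ 1) = 1 := by
    funext y
    refine Subtype.ext ?_
    rw [pow_one, hpow, hxq]
    simp [Function.End.one_def]
  have hmod := Equiv.Perm.card_fixedPoints_modEq hf
  have hfix : Fintype.card (Function.fixedPoints f) =
      Nat.card (cGrp Q p 85 ⊓ Subgroup.centralizer ({(x : G)} : Set G) : Subgroup G) := by
    rw [← Nat.card_eq_fintype_card]
    refine Nat.card_congr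
      { toFun := fun y => ⟨(y.1 : G), y.1.2, mem_centralizer_singleton_iff'.2 ?_⟩
        invFun := fun y => ⟨⟨(y : G), y.2.1⟩, ?_⟩
        left_inv := fun y => rfl
        right_inv := fun y => rfl }
    · have h' : (x : G) * (y.1 : G) * (x : G)⁻¹ = y.1 := congrArg Subtype.val y.2
      exact (mul_inv_eq_iff_eq_mul.1 h').symm
    · refine Subtype.ext ?_
      show (x : G) * (y : G) * (x : G)⁻¹ = y
      rw [← mem_centralizer_singleton_iff'.1 y.2.2, mul_inv_cancel_right]
  rw [← Nat.card_eq_fintype_card (α := cGrp Q p 85), D.coord.card, hfix] at hmod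
  set B := (cGrp Q p 85 ⊓ Subgroup.centralizer ({(x : G)} : Set G) : Subgroup G) with hB
  have hle : B ≤ cGrp Q p 85 := inf_le_left
  have hdv : Nat.card B ∣ 2 ^ 11 := (Subgroup.card_dvd_of_le hle).trans (by rw [D.coord.card]; norm_num)
  obtain ⟨j, hj, ej⟩ := (Nat.dvd_prime_pow Nat.prime_two).1 hdv
  have h11 : j = 11 := by
    by_contra hne
    exact no_primes q hq j hj hne (by rw [← ej]; exact hmod.symm)
  have hBA : B = cGrp Q p 85 := Subgroup.eq_of_le_of_card_ge hle (by rw [D.coord.card, ej, h11]; norm_num)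
  have hxz : (x : G) ∈ Subgroup.centralizer ({z} : Set G) := by
    have hz : z ∈ B := hBA ▸ Coord.z_mem D.frame D.coord
    exact mem_centralizer_singleton_iff'.2 (mem_centralizer_singleton_iff'.1 hz.2).symm
  have hord : orderOf (x : G) = q := by rw [orderOf_submonoid, hx]
  have := Subgroup.orderOf_dvd_natCard _ hxz
  rw [hord, D.frame.sys.cardC] at this
  rcases hq with rfl | rfl <;> norm_num at this

/-- There are `759` conjugates of `z`. -/
theorem o_card : (O).card = 759 ∧ ((O).filter fun n => n >>> 5 = 33).card = 16 := by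
  have hsum : (O).card = ∑ k ∈ Finset.range 64,
      if k = 0 then 31 else if pf k then ((O).filter fun n => n >>> 5 = 33).card else 8 := by
    rw [o_eq D]
    refine Finset.sum_congr rfl fun k0 hk => ?_
    rw [Finset.mem_range] at hk
    split_ifs with h0 h1
    · rw [h0]; exact fibre_low D
    · exact fibre_non D hk h0 h1
    · exact fibre_sing D hk h0 (Bool.eq_false_iff.2 h1)
  have hN := card_nn D
  have hm := fibre_std D
  simp only [List.mem_cons, List.not_mem_nil, or_false] at hm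
  rcases hm with e | e | e <;> rw [e] at hsum
  · exfalso
    refine no_prime D (Or.inl rfl) ?_
    rw [hN, hsum, cnt_facts.2.1]
    exact dvd_mul_right 311 _
  · exact ⟨hsum.trans cnt_facts.1, e⟩
  · exfalso
    refine no_prime D (Or.inr rfl) ?_
    rw [hN, hsum, cnt_facts.2.2.1]
    exact (Dvd.intro 17 (by norm_num : 71 * 17 = 1207)).mul_right _

theorem fibre_count {k0 : Nat} (hk : k0 < 64) : ((O).filter fun n => n >>> 5 = k0).card = cnt k0 := by
  unfold cnt
  split_ifs with h0 h1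
  · rw [h0]; exact fibre_low D
  · rw [fibre_non D hk h0 h1]; exact (o_card D).2
  · exact fibre_sing D hk h0 (Bool.eq_false_iff.2 h1)

end Ctx

end CfsgLib.Recog.CoOneCode
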