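import Cfsg.Agent.Lib.Recog.CoOneType.Seeds
import Cfsg.Agent.Lib.Recog.CoOneFive.Change

/-!
An involution over a middle map commuting with exactly one of two lifts in the second extraspecial group
(owner: helper8).
-/

set_option autoImplicit false
set_option linter.unusedSectionVars false
set_option linter.unusedVariables false
set_option quotPrecheck false
set_option linter.style.haveILetI false
set_option maxRecDepth 100000
set_option Elab.async false

namespace CfsgLib.Recog.CoOneCode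

open CfsgLib.Recog.CoOneType CfsgLib.Recog.CoOneFive CfsgLib.ThreeTrans

/-- The map pairing the last two planes. -/
def m23 : List Nat := [1, 2, 4, 8, 16, 96, 64, 144]

/-- The span of `1, 4, 8, 16, 64`. -/
def fixU : List Nat := (List.range 256).filter fun n => n &&& 93 == n

/-- The two relabellings. -/
def swapA : List Nat := [1, 2, 8, 4, 16, 32, 128, 64]
def swapB : List Nat := [1, 2, 4, 8, 16, 32, 128, 64]

theorem parity_facts :
    (List.range 256).all (fun n => !(app (rep 4) n == n ^^^ 1) || (!qb n && bb 12 n && !bb n 1 &&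
      (app (rho 4) (app (wmap wordA) n) == app (wmap wordA) n))) = true ∧
    (List.range 256).all (fun n => !(app (wmap wordA) n == 1) || (!bb n 1 && !bb 4 n && !bb 8 n)) = true ∧
    app (wmap wordA) 1 ≠ 0 ∧ app (wmap wordA) 1 ≠ 1 ∧ app (rep 4) 1 = 1 ∧
    comp midA (rho 4) = comp (rho 4) midA ∧ comp midA (rho 8) = comp (rho 8) midA ∧
    app (rho 4) (app (wmap wordA) 1) = app (wmap wordA) 1 ∧ 12 ∈ sect ∧ 4 ∈ sect ∧ 8 ∈ sect ∧
    qb 12 = true ∧ qb 4 = false ∧ qb 8 = false ∧ 4 ^^^ 8 = 12 := by decide +kernel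

theorem swap_facts : ∀ S ∈ [swapA, swapB], Iso S ∧ comp S S = one ∧ app S 1 = 1 ∧
    comp (comp S midA) S = m23 ∧ ∀ n ∈ fixU, app (rho 4) (app (wmap wordA) (app S n)) = app (wmap wordA) (app S n) := by
  simp only [← isoB_iff]
  decide +kernel

theorem swap_rho : comp (comp swapA (rho 4)) swapA = rho 8 ∧ comp (comp swapA (rho 8)) swapA = rho 4 ∧
    comp (comp swapB (rho 4)) swapB = rho 4 ∧ comp (comp swapB (rho 8)) swapB = rho 8 := by decide +kernel

variable {G : Type*} [Group G] [Finite G] {z : G} {Q : Subgroup G} {p : G → Nat} {k : G}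

/-- The choice of the middle involution. -/
structure Good (z : G) (Q : Subgroup G) (p : G → Nat) (k u : G) : Prop where
  acts : Acts z Q p u m23
  sq : u * u = 1
  comm_x : Commute u (k * z * k⁻¹)
  comm_q : ∀ a ∈ Q, p a ∈ fixU → Commute u a
  comm4 : ∀ s ∈ Q.map (MulAut.conj k).toMonoidHom, Commute s z → Acts z Q p s (rho 4) → Commute u s
  comm8 : ∀ s ∈ Q.map (MulAut.conj k).toMonoidHom, Commute s z → Acts z Q p s (rho 8) → ¬ Commute u s

theorem acts_relabel {S : List Nat} (hl : S.length = 8) (hS : comp S S = one) (h : Sys z Q p) {c : G}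
    {A : List Nat} (hA : A.length = 8) (hc : Acts z Q p c A) :
    Acts z Q (fun a => app S (p a)) c (comp (comp S A) S) :=
  ⟨hc.1, fun a ha => by
    show app S (p _) = app _ (app S (p a))
    rw [hc.2 a ha, app_comp hl, app_comp hA, app_of_comp hl hS (h.lt a ha)]⟩

theorem acts_relabel' {S : List Nat} (hS : Iso S) (hSS : comp S S = one) (h : Sys z Q p) {c : G}
    {A : List Nat} (hA : A.length = 8) (hc : Acts z Q (fun a => app S (p a)) c A) :
    Acts z Q p c (comp (comp S A) S) := by
  refine ⟨hc.1, fun a ha => ?_⟩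
  have h1 : app S (p (c * a * c⁻¹)) = app A (app S (p a)) := hc.2 a ha
  rw [app_comp hS.1, app_comp hA, ← h1, app_of_comp hS.1 hSS (h.lt _ (h.large.conj_mem hc.1 ha))]

namespace Frame

open CfsgLib.Recog.CoOneType.Frame

variable (F : CfsgLib.Recog.CoOneType.Frame z Q p k)
include F

local notation "X" => k * z * k⁻¹
local notation "P" => Q.map (MulAut.conj k).toMonoidHom
local notation "sS" => sOf z Q p k

/-- The commutator of the middle lift with a lift in the second group is central. -/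
theorem mid_comm {d : G} (hd : Acts z Q p d (wmap wordA)) (hlW : (wmap wordA).length = 8) {v : Nat}
    (hv : v = 4 ∨ v = 8) {s : G} (hs : s ∈ P) (hsz : Commute s z) (hsA : Acts z Q p s (rho v))
    (huA : Acts z Q p (d⁻¹ * sS 4 * d) midA) (hux : Commute (d⁻¹ * sS 4 * d) X) :
    ∃ i, d⁻¹ * sS 4 * d * s * (d⁻¹ * sS 4 * d)⁻¹ = s * sg z i := by
  obtain ⟨-, hy, w0, w1, -, c4, c8, -, -, s4, -⟩ := parity_facts
  set u := d⁻¹ * sS 4 * d with hu
  set Y := d⁻¹ * X * d with hY
  have hYQ : Y ∈ Q := by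
    have := F.sys.large.conj_mem hd.1.inv_left F.memQ
    rwa [inv_inv] at this
  have hpY : app (wmap wordA) (p Y) = 1 := by
    rw [← hd.2 Y hYQ, show d * Y * d⁻¹ = X by rw [hY]; group, F.px]
  have hy' := List.all_eq_true.1 hy _ (List.mem_range.2 (F.sys.lt Y hYQ))
  simp only [hpY, beq_self_eq_true, Bool.not_true, Bool.false_or, Bool.and_eq_true, Bool.not_eq_true'] at hy'
  have hv' : v ∈ sect := by rcases hv with rfl | rfl <;> decide +kernel
  have hsY : Commute s Y := by
    have e := F.commutator_eq hv' hs hsz hsA hYQ hy'.1.1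
    have hb : bb v (p Y) = false := by
      rcases hv with rfl | rfl
      exacts [hy'.1.2, hy'.2]
    rw [hb] at e
    exact mul_inv_eq_iff_eq_mul.1 (mul_inv_eq_one.1 (e.trans (one_mul (1 : G))))
  have hS'' : Sys (d⁻¹ * X * d⁻¹⁻¹) ((P).map (MulAut.conj d⁻¹).toMonoidHom) _ := F.sys'.conj d⁻¹
  rw [inv_inv] at hS''
  have huY : u ∈ (P).map (MulAut.conj d⁻¹).toMonoidHom := by
    rw [mem_conjMap, hu, show d⁻¹⁻¹ * (d⁻¹ * sS 4 * d) * d⁻¹ = sS 4 by group]
    exact (F.sOf_spec s4).1
  have hzY : z ∈ (P).map (MulAut.conj d⁻¹).toMonoidHom := by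
    rw [mem_conjMap, inv_inv, hd.1.eq, mul_inv_cancel_right]
    exact F.z_memP
  set e := s⁻¹ * (u * s * u⁻¹) with he
  have hcm : comp midA (rho v) = comp (rho v) midA := by
    rcases hv with rfl | rfl
    exacts [c4, c8]
  have heQ : e ∈ Q := F.sys.inv_mul_mem hsA (F.sys.acts_conj rfl (length_rho v) (length_rho v) huA hsA hcm)
  have heP : e ∈ P := Subgroup.mul_mem _ (Subgroup.inv_mem _ hs) (F.sys'.large.conj_mem hux hs)
  have heY : e ∈ (P).map (MulAut.conj d⁻¹).toMonoidHom := by
    rw [he, show s⁻¹ * (u * s * u⁻¹) = s⁻¹ * u * s⁻¹⁻¹ * u⁻¹ by group]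
    exact Subgroup.mul_mem _ (hS''.large.conj_mem hsY.inv_left huY) (Subgroup.inv_mem _ huY)
  obtain ⟨i, j, eij⟩ := F.inter heQ heP
  cases j
  · refine ⟨i, ?_⟩
    rw [eij, show sg X false = 1 from rfl, mul_one] at he
    rw [he]; group
  · exfalso
    have hX : X ∈ (P).map (MulAut.conj d⁻¹).toMonoidHom := by
      have h1 : sg z i ∈ (P).map (MulAut.conj d⁻¹).toMonoidHom := by
        cases i
        exacts [Subgroup.one_mem _, hzY]
      have := Subgroup.mul_mem _ (Subgroup.inv_mem _ h1) heY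
      rwa [eij, show sg X true = X from rfl, inv_mul_cancel_left] at this
    rw [mem_conjMap, inv_inv] at hX
    have h2 := F.inter_p (F.sys.large.conj_mem hd.1 F.memQ) hX
    rw [hd.2 _ F.memQ, F.px] at h2
    exact h2.elim w0 w1

/-- The coordinates with a good middle involution. -/
theorem exists_good : ∃ (p2 : G → Nat) (u : G), CfsgLib.Recog.CoOneType.Frame z Q p2 k ∧ Good z Q p2 k u := by
  obtain ⟨hlist, -, -, -, r41, -, -, hfx, s12, s4, s8, q12, q4, q8, e48⟩ := parity_facts
  obtain ⟨wa, -⟩ := pull_words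
  obtain ⟨hlW, d, hd⟩ := F.sys.acts_word wordA
  have ltA : ∀ n < 256, app midA n < 256 := by decide +kernel
  obtain ⟨huA, huu, huf⟩ := F.mid_lift_spec (A := midA) rfl hlW ltA hd wa
  set u := d⁻¹ * sS 4 * d with hu
  have hux : Commute u X := huf _ F.memQ (by rw [F.px]; exact hfx)
  obtain ⟨a1, a2, a3⟩ := F.sOf_spec s4
  obtain ⟨b1, b2, b3⟩ := F.sOf_spec s8
  obtain ⟨i, hi⟩ := mid_comm F hd hlW (Or.inl rfl) a1 a2 a3 huA hux
  obtain ⟨j, hj⟩ := mid_comm F hd hlW (Or.inr rfl) b1 b2 b3 huA hux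
  rw [← hu] at hi hj
  have hA12 : Acts z Q p (sS 4 * sS 8) (rho 12) := e48 ▸ F.rho_mul s4 s8 a3 b3
  have hz12 : Commute (sS 4 * sS 8) z := a2.mul_left b2
  have hP12 : sS 4 * sS 8 ∈ P := Subgroup.mul_mem _ a1 b1
  have hij : (i ^^ j) = true := by
    set h := sS 4 * sS 8 * u with hh
    have hhA : Acts z Q p h (rep 4) := F.sys.acts_mul (show midA.length = 8 from rfl) hA12 huA
    have hh2 : h * h = sg X true * sg z (i ^^ j) := by
      calc h * h = sS 4 * sS 8 * (u * sS 4 * u⁻¹) * (u * sS 8 * u⁻¹) * (u * u) := by rw [hh]; group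
        _ = sS 4 * sS 8 * (sS 4 * (sg z i * sS 8)) * sg z j := by rw [hi, hj, huu]; group
        _ = sS 4 * sS 8 * (sS 4 * sS 8) * (sg z i * sg z j) := by rw [← (F.sys.sg_comm b2 i).eq]; group
        _ = _ := by rw [F.sq_eq s12 hP12 hz12 hA12, q12, F.sys.sg_mul]
    obtain ⟨t0, ht0, ht00, -⟩ := F.exists_seed
    have hq : h⁻¹ * t0 ∈ Q := F.sys.inv_mul_mem hhA ht0
    set q := h⁻¹ * t0 with hqdef
    have e1 : h * h * (h⁻¹ * q * h) * q = 1 := by
      rw [show h * h * (h⁻¹ * q * h) * q = t0 * t0 by rw [hqdef]; group, ht00]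
    have hrQ : h⁻¹ * q * h ∈ Q := by
      have := F.sys.large.conj_mem hhA.1.inv_left hq
      rwa [inv_inv] at this
    have hpq : app (rep 4) (p q) = p q ^^^ 1 := by
      have e2 := congrArg p e1
      have hX2 : X * sg z (i ^^ j) ∈ Q := Q.mul_mem F.memQ (F.sys.sg_mem _)
      rw [F.sys.p_one, hh2, show sg X true = X from rfl, F.sys.map_mul _ (Q.mul_mem hX2 hrQ) _ hq, F.sys.map_mul _ hX2 _ hrQ,
        F.sys.map_mul _ F.memQ _ (F.sys.sg_mem _), F.sys.p_sg, Nat.xor_zero,
        F.px, Nat.xor_eq_zero_iff] at e2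
      have e3 := hhA.2 _ hrQ
      rw [show h * (h⁻¹ * q * h) * h⁻¹ = q by group] at e3
      have e4 := congrArg (app (rep 4)) e2
      rw [app_xor, r41, ← e3] at e4
      rw [← e4, Nat.xor_comm]
    have hl := List.all_eq_true.1 hlist _ (List.mem_range.2 (F.sys.lt q hq))
    simp only [hpq, beq_self_eq_true, Bool.not_true, Bool.false_or, Bool.and_eq_true, Bool.not_eq_true',
      beq_iff_eq] at hl
    obtain ⟨⟨⟨lq, l12⟩, l1⟩, lfix⟩ := hl
    have huq : Commute u q := huf q hq lfix
    have hc := F.commutator_eq s12 hP12 hz12 hA12 hq l1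
    rw [l12, show sg z true = z from rfl, show sg X true = X from rfl] at hc
    have hconj : h * q * h⁻¹ = z * X * q := by
      calc h * q * h⁻¹ = sS 4 * sS 8 * (u * q * u⁻¹) * (sS 4 * sS 8)⁻¹ := by rw [hh]; group
        _ = sS 4 * sS 8 * q * (sS 4 * sS 8)⁻¹ := by rw [huq.eq, mul_inv_cancel_right]
        _ = _ := mul_inv_eq_iff_eq_mul.1 hc
    have hzX : Commute h (z * X) := hhA.1.mul_right
      (((F.sys'.large.commute_z hP12).mul_left hux))
    have hinv : h⁻¹ * q * h = z * X * q := by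
      have hsq : z * X * (z * X) = 1 := by
        have := F.pair_mul true true true true
        simpa [sg] using this
      calc h⁻¹ * q * h = h⁻¹ * (z * X * (h * q * h⁻¹)) * h := by
            rw [hconj, ← mul_assoc (z * X), hsq, one_mul]
        _ = z * X * q := by rw [← mul_assoc h⁻¹, hzX.inv_left.eq]; group
    rw [hinv, hh2, show sg X true = X from rfl] at e1
    have e5 : sg z (i ^^ j) * z = 1 := by
      calc sg z (i ^^ j) * z = X * (sg z (i ^^ j) * z) * X := by
            rw [((F.sys.sg_comm F.z_comm_x.symm _).mul_right F.z_comm_x.symm).eq, mul_assoc _ X X,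
              F.sys'.large.mul_self_z, mul_one]
        _ = X * sg z (i ^^ j) * (z * X * q) * q := by
            rw [mul_assoc (X * sg z (i ^^ j)) (z * X * q), mul_assoc (z * X), F.sys.sq q hq, lq, show sg z false = 1 from rfl]; group
        _ = 1 := e1
    revert e5
    cases (i ^^ j)
    · intro e5
      exact absurd ((one_mul z).symm.trans e5) F.sys.large.z_ne_one
    · exact fun _ => rfl
  have indep : ∀ v ∈ sect, ∀ s ∈ P, Commute s z → Acts z Q p s (rho v) → (Commute u s ↔ Commute u (sS v)) := by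
    intro v hv s hs hsz hsA
    obtain ⟨c1, c2, c3⟩ := F.sOf_spec hv
    obtain ⟨a, b, e⟩ := F.inter (F.sys.inv_mul_mem c3 hsA) (Subgroup.mul_mem _ (Subgroup.inv_mem _ c1) hs)
    have hcab : Commute u (sg z a * sg X b) := F.pair_comm huA.1 hux a b
    have es : s = sS v * (sg z a * sg X b) := by rw [← e]; group
    constructor
    · intro h'
      have := h'.mul_right hcab.inv_right
      rwa [es, mul_inv_cancel_right] at this
    · intro h'
      rw [es]
      exact h'.mul_right hcab
  have comm_iff : ∀ (v : Nat) (b : Bool), u * sS v * u⁻¹ = sS v * sg z b → (Commute u (sS v) ↔ b = false) := by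
    intro v b e
    constructor
    · intro h'
      rw [h'.eq, mul_inv_cancel_right] at e
      exact F.sys.sg_inj (b := false) (mul_eq_left.1 e.symm)
    · rintro rfl
      rw [show sg z false = 1 from rfl, mul_one] at e
      exact mul_inv_eq_iff_eq_mul.1 e
  have mk : ∀ S ∈ [swapA, swapB], ∀ v4 v8 : Nat, (v4 = 4 ∨ v4 = 8) → (v8 = 4 ∨ v8 = 8) →
      comp (comp S (rho 4)) S = rho v4 → comp (comp S (rho 8)) S = rho v8 →
      Commute u (sS v4) → ¬ Commute u (sS v8) →
      ∃ (p2 : G → Nat) (u : G), CfsgLib.Recog.CoOneType.Frame z Q p2 k ∧ Good z Q p2 k u := by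
    intro S hSm v4 v8 hv4 hv8 e4 e8 hc hnc
    obtain ⟨hS, hSS, hS1, hSu, hSf⟩ := swap_facts S hSm
    have hsys := sys_change F.sys hS hS hSS hSS
    have hv4' : v4 ∈ sect := by rcases hv4 with rfl | rfl <;> assumption
    have hv8' : v8 ∈ sect := by rcases hv8 with rfl | rfl <;> assumption
    refine ⟨fun a => app S (p a), u, ⟨hsys, F.memQ, F.memP, ?_, ?_⟩, ⟨?_, huu, hux, ?_, ?_, ?_⟩⟩
    · show app S (p X) = 1
      rw [F.px, hS1]
    · show app S (p (k⁻¹ * z * k)) = 1
      rw [F.pz, hS1]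
    · have := acts_relabel hS.1 hSS F.sys (show midA.length = 8 from rfl) huA
      rwa [hSu] at this
    · intro a ha hm
      have := hSf _ hm
      rw [app_of_comp hS.1 hSS (F.sys.lt a ha)] at this
      exact huf a ha this
    · intro s hs hsz hsA
      have := acts_relabel' hS hSS F.sys (length_rho 4) hsA
      rw [e4] at this
      exact (indep v4 hv4' s hs hsz this).2 hc
    · intro s hs hsz hsA h'
      have := acts_relabel' hS hSS F.sys (length_rho 8) hsA
      rw [e8] at this
      exact hnc ((indep v8 hv8' s hs hsz this).1 h')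
  obtain ⟨r1, r2, r3, r4⟩ := swap_rho
  cases i
  · refine mk swapB (by simp) 4 8 (Or.inl rfl) (Or.inr rfl) r3 r4 ((comm_iff 4 _ hi).2 rfl) fun h' => ?_
    have := (comm_iff 8 _ hj).1 h'
    rw [this] at hij
    exact Bool.noConfusion hij
  · refine mk swapA (by simp) 8 4 (Or.inr rfl) (Or.inl rfl) r1 r2 ((comm_iff 8 _ hj).2 ?_) fun h' => ?_
    · cases j
      · rfl
      · exact Bool.noConfusion hij
    · exact Bool.noConfusion ((comm_iff 4 _ hi).1 h')

end Frame

end CfsgLib.Recog.CoOneCode
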