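import Cfsg.Agent.Lib.Recog.CoOneCode.Dual
import Cfsg.Agent.Lib.Sporadic.Perms

/-!
The normalizer permutes twenty-four masks as automorphisms of the code of length 24 (owner: helper8).
-/

set_option autoImplicit false
set_option linter.unusedSectionVars false
set_option linter.unusedVariables false
set_option quotPrecheck false
set_option maxRecDepth 100000
set_option maxHeartbeats 800000
set_option Elab.async false

namespace CfsgLib.Recog.CoOneCode

open CfsgLib.Recog.CoOneType CfsgLib.Recog.CoOneFive CfsgLib.ThreeTrans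
open CfsgLib.Sporadic (ix pt maskOf setOfMask xorComb basisMask inCode)

/-- The position of every point among the twenty-four masks. -/
def pointIdx : List Nat :=
  [0, 1, 2, 3, 4, 8, 16, 5, 13, 18, 6, 17, 7, 20, 10, 12, 14, 11, 21, 15, 23, 22, 19, 9]

/-- Pairs of points summing to the unit masks. -/
def unitPairs : List (List (Nat × Nat)) :=
  [[(0, 5)], [(0, 2), (0, 4), (0, 6), (0, 10), (0, 11)], [(0, 1), (0, 6), (0, 7), (0, 9), (0, 10)], [(0, 1), (0, 2), (0, 5), (0, 6), (0, 7), (0, 8), (0, 10), (0, 11)], [(0, 5), (0, 6)], [(0, 1), (0, 2), (0, 3)], [(0, 1), (0, 4), (0, 7)], [(0, 2), (0, 4), (0, 10)], [(0, 1), (0, 2), (0, 4), (0, 10)], [(0, 1), (0, 7), (0, 10)], [(0, 3), (0, 4), (0, 7), (0, 10)]]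

/-- The mask of a point number. -/
def uVal (i : Nat) : Nat := pMask (pointIdx.getD i 0)

/-- The sum of the masks of a set of point numbers, with the parity of its size. -/
noncomputable def phN (m : Nat) : Nat := xorComb (fun i => uVal i <<< 1 ^^^ 1) m 24

/-- The same for a set of points. -/
noncomputable def ph (s : Finset Cfsg.GolayPt) : Nat := phN (maskOf s)

theorem phN_basis : ∀ i < 12, phN (basisMask i) = 0 := by decide +kernel

theorem phN_high : CfsgLib.Sporadic.forallLt 4096 (fun h => Nat.beq h 0 || !Nat.beq (phN (h <<< 12)) 0) = true := by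
  decide +kernel

theorem phN_xor (a b : Nat) : phN (a ^^^ b) = phN a ^^^ phN b := CfsgLib.Sporadic.xorComb_xor _ a b 24

theorem phN_enc (k n : Nat) (hn : n ≤ 12) : phN (xorComb basisMask k n) = 0 := by
  induction n with
  | zero =>
    show phN 0 = 0
    decide +kernel
  | succ n ih =>
    rw [CfsgLib.Sporadic.xorComb_succ, phN_xor, ih (by omega), CfsgLib.Sporadic.bitAt_eq, Nat.zero_xor]
    split
    · rw [one_mul]; exact phN_basis n (by omega)
    · rw [Nat.zero_mul]
      show phN 0 = 0
      decide +kernel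

theorem ph_code {s : Finset Cfsg.GolayPt} : ph s = 0 ↔ inCode (maskOf s) = true := by
  constructor
  · intro h
    set m := maskOf s with hm
    set c := CfsgLib.Sporadic.enc (m &&& 4095) with hc
    have hk : m &&& 4095 < 4096 := Nat.lt_succ_of_le Nat.and_le_right
    have hlt : m ^^^ c < 2 ^ 24 := Nat.xor_lt_two_pow (CfsgLib.Sporadic.maskOf_lt s) (CfsgLib.Sporadic.enc_lt hk)
    have hlow : (m ^^^ c) &&& 4095 = 0 := by
      rw [Nat.and_xor_distrib_right, hc, CfsgLib.Sporadic.enc_land hk, Nat.xor_self]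
    have he : ((m ^^^ c) >>> 12) <<< 12 = m ^^^ c := by
      rw [show (4095 : Nat) = 2 ^ 12 - 1 from rfl, Nat.and_two_pow_sub_one_eq_mod] at hlow
      rw [Nat.shiftLeft_eq, Nat.shiftRight_eq_div_pow]
      omega
    have hh : (m ^^^ c) >>> 12 < 4096 := by rw [Nat.shiftRight_eq_div_pow]; omega
    have := CfsgLib.Sporadic.forallLt_elim phN_high hh
    rw [he, phN_xor, show phN m = 0 from h, hc, CfsgLib.Sporadic.enc, phN_enc _ 12 le_rfl, Bool.or_eq_true] at this
    rcases this with e | e
    · have e' : (m ^^^ c) >>> 12 = 0 := Nat.eq_of_beq_eq_true e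
      have h0 : m ^^^ c = 0 := by rw [← he, e', Nat.zero_shiftLeft]
      rw [Nat.xor_eq_zero_iff.1 h0, hc]
      exact CfsgLib.Sporadic.inCode_enc hk
    · simp at e
  · intro h
    obtain ⟨k, hk, e⟩ := CfsgLib.Sporadic.inCode_iff.1 h
    rw [ph, ← e]
    exact phN_enc k 12 le_rfl

theorem ph_symmDiff (s t : Finset Cfsg.GolayPt) : ph (symmDiff s t) = ph s ^^^ ph t := by
  rw [ph, CfsgLib.Sporadic.maskOf_symmDiff, phN_xor]; rfl

/-- The mask of a point. -/
def uu (x : Cfsg.GolayPt) : Nat := uVal (ix x)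

theorem ph_single (x : Cfsg.GolayPt) : ph {x} = uu x <<< 1 ^^^ 1 := by
  rw [ph, CfsgLib.Sporadic.maskOf_singleton]
  revert x
  decide +kernel

theorem uu_facts : (∀ i < 24, uVal i < 2048) ∧
    (List.range 24).all (fun i => (pointIdx.getD i 0 < 24) && (List.range 24).any fun j => pointIdx.getD j 0 == i) = true ∧
    pointIdx.length = 24 ∧
    (List.range 11).all (fun i => ((unitPairs.getD i []).all fun pq => decide (pq.1 < 24) && decide (pq.2 < 24) &&
        !(pq.1 == pq.2)) &&
      ((unitPairs.getD i []).foldr (fun pq t => (uVal pq.1 ^^^ uVal pq.2) ^^^ t) 0 == 2 ^ i)) = true := by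
  decide +kernel

theorem pair_symmDiff {x y : Cfsg.GolayPt} (h : x ≠ y) : ({x, y} : Finset Cfsg.GolayPt) = symmDiff {x} {y} := by
  ext e
  simp only [Finset.mem_insert, Finset.mem_singleton, Finset.mem_symmDiff]
  constructor
  · rintro (rfl | rfl)
    · exact Or.inl ⟨rfl, h⟩
    · exact Or.inr ⟨rfl, fun e => h e.symm⟩
  · rintro (⟨rfl, -⟩ | ⟨rfl, -⟩)
    exacts [Or.inl rfl, Or.inr rfl]

theorem ph_pair {x y : Cfsg.GolayPt} (h : x ≠ y) : ph {x, y} = (uu x ^^^ uu y) <<< 1 := by
  rw [pair_symmDiff h, ph_symmDiff, ph_single, ph_single, Nat.shiftLeft_xor_distrib]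
  calc uu x <<< 1 ^^^ 1 ^^^ (uu y <<< 1 ^^^ 1) = uu x <<< 1 ^^^ uu y <<< 1 ^^^ (1 ^^^ 1) := by ac_rfl
    _ = _ := by rw [Nat.xor_self, Nat.xor_zero]

/-- No nonempty set of fewer than eight points sums to zero. -/
theorem ph_small {s : Finset Cfsg.GolayPt} (h : ph s = 0) (hc : s.card < 8) : s = ∅ := by
  have := CfsgLib.Sporadic.popc_inCode (ph_code.1 h)
  rw [CfsgLib.Sporadic.popc_maskOf] at this
  rcases this with e | e | e | e | e
  · exact Finset.card_eq_zero.1 e
  all_goals omega

theorem card_symmDiff_le (s t : Finset Cfsg.GolayPt) : (symmDiff s t).card ≤ s.card + t.card := by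
  refine le_trans (Finset.card_le_card fun e he => ?_) (Finset.card_union_le s t)
  rcases Finset.mem_symmDiff.1 he with h | h
  exacts [Finset.mem_union_left _ h.1, Finset.mem_union_right _ h.1]

/-- The value of a pair determines it. -/
theorem pair_inj {x y a b : Cfsg.GolayPt} (h : x ≠ y) (h' : a ≠ b) (e : uu x ^^^ uu y = uu a ^^^ uu b) :
    ({x, y} : Finset Cfsg.GolayPt) = {a, b} := by
  have h0 : ph (symmDiff {x, y} {a, b}) = 0 := by rw [ph_symmDiff, ph_pair h, ph_pair h', e, Nat.xor_self]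
  have hc : (symmDiff ({x, y} : Finset Cfsg.GolayPt) {a, b}).card < 8 := by
    have := card_symmDiff_le {x, y} {a, b}
    rw [Finset.card_pair h, Finset.card_pair h'] at this
    omega
  exact symmDiff_eq_bot.1 (ph_small h0 hc)

/-- Two pairs whose sum is a pair meet. -/
theorem pair_meet {x y a b c d : Cfsg.GolayPt} (h : x ≠ y) (h' : a ≠ b) (h'' : c ≠ d)
    (e : uu x ^^^ uu y ^^^ (uu a ^^^ uu b) = uu c ^^^ uu d) : a = x ∨ a = y ∨ b = x ∨ b = y := by
  by_contra hno
  simp only [not_or] at hno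
  obtain ⟨h1, h2, h3, h4⟩ := hno
  have h0 : ph (symmDiff (symmDiff {x, y} {a, b}) {c, d}) = 0 := by
    rw [ph_symmDiff, ph_symmDiff, ph_pair h, ph_pair h', ph_pair h'', ← Nat.shiftLeft_xor_distrib, e, Nat.xor_self]
  have hc : (symmDiff (symmDiff ({x, y} : Finset Cfsg.GolayPt) {a, b}) {c, d}).card < 8 := by
    have := card_symmDiff_le (symmDiff {x, y} {a, b}) {c, d}
    have := card_symmDiff_le {x, y} {a, b}
    rw [Finset.card_pair h, Finset.card_pair h'] at this
    rw [Finset.card_pair h''] at *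
    omega
  have heq : symmDiff ({x, y} : Finset Cfsg.GolayPt) {a, b} = {c, d} := symmDiff_eq_bot.1 (ph_small h0 hc)
  have hcard := congrArg Finset.card heq
  rw [Finset.card_pair h'', Disjoint.symmDiff_eq_sup] at hcard
  · rw [Finset.sup_eq_union, Finset.card_union_of_disjoint, Finset.card_pair h, Finset.card_pair h'] at hcard
    · omega
    simp [h1, h2, h3, h4, Ne.symm h1, Ne.symm h2, Ne.symm h3, Ne.symm h4]
  simp [h1, h2, h3, h4, Ne.symm h1, Ne.symm h2, Ne.symm h3, Ne.symm h4]

theorem pair_sub {x y a b c : Cfsg.GolayPt} (h : x ≠ y) (e : ({x, y} : Finset Cfsg.GolayPt) = {a, b}) (hc : c = x ∨ c = y) :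
    c = a ∨ c = b := by
  have : c ∈ ({x, y} : Finset Cfsg.GolayPt) := by simpa using hc
  simpa [e] using this

theorem shift_xor (s a b : Nat) : shiftMask s (a ^^^ b) = shiftMask s a ^^^ shiftMask s b := by
  simp only [shiftMask, Nat.testBit_xor]
  cases a.testBit 0 <;> cases b.testBit 0 <;>
    simp only [Bool.false_xor, Bool.true_xor, Bool.not_false, Bool.not_true, cond_true, cond_false, Nat.xor_zero]
  · ac_rfl
  · ac_rfl
  · calc a ^^^ b = a ^^^ b ^^^ (s <<< 5 ^^^ s <<< 5) := by rw [Nat.xor_self, Nat.xor_zero]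
      _ = _ := by ac_rfl

theorem shift_lt {s f : Nat} (hs : s < 64) (hf : f < 2048) : shiftMask s f < 2048 := by
  refine Nat.xor_lt_two_pow (n := 11) hf ?_
  cases f.testBit 0
  · norm_num
  · rw [cond_true, Nat.shiftLeft_eq]; omega

theorem shift_shift (s f : Nat) : shiftMask s (shiftMask s f) = f := by
  simp only [shiftMask]
  cases hb : f.testBit 0
  · simp [hb]
  · have : (s <<< 5).testBit 0 = false := by simp [Nat.testBit_shiftLeft]
    rw [cond_true, Nat.testBit_xor, hb, this, show (true ^^ false) = true from rfl, cond_true, Nat.xor_assoc,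
      Nat.xor_self, Nat.xor_zero]

theorem mem_pairSet {s f : Nat} :
    f ∈ pairSet s ↔ ∃ x y : Cfsg.GolayPt, x ≠ y ∧ shiftMask s (uu x ^^^ uu y) = f := by
  simp only [pairSet, List.mem_toFinset, List.mem_flatMap, List.mem_map, List.mem_range]
  have hperm := uu_facts.2.1
  simp only [List.all_eq_true, List.mem_range, Bool.and_eq_true, decide_eq_true_eq, List.any_eq_true, beq_iff_eq] at hperm
  constructor
  · rintro ⟨i, hi, j, hj, rfl⟩
    obtain ⟨-, a, ha, ea⟩ := hperm i hi
    obtain ⟨-, b, hb, eb⟩ := hperm j (by omega)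
    refine ⟨pt a, pt b, fun e => ?_, ?_⟩
    · have := congrArg ix e
      rw [CfsgLib.Sporadic.ix_pt ha, CfsgLib.Sporadic.ix_pt hb] at this
      rw [this, eb] at ea
      omega
    · simp only [uu, uVal, CfsgLib.Sporadic.ix_pt ha, CfsgLib.Sporadic.ix_pt hb, ea, eb]
  · rintro ⟨x, y, hxy, rfl⟩
    have inj : ∀ a < 24, ∀ b < 24, pointIdx.getD a 0 = pointIdx.getD b 0 → a = b := by decide +kernel
    have hne : pointIdx.getD (ix x) 0 ≠ pointIdx.getD (ix y) 0 := fun e =>
      hxy (CfsgLib.Sporadic.ix_injective (inj _ (CfsgLib.Sporadic.ix_lt x) _ (CfsgLib.Sporadic.ix_lt y) e))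
    have l1 := (hperm _ (CfsgLib.Sporadic.ix_lt x)).1
    have l2 := (hperm _ (CfsgLib.Sporadic.ix_lt y)).1
    rcases lt_or_gt_of_ne hne with h | h
    · exact ⟨_, l2, _, h, by rw [uu, uu, uVal, uVal, Nat.xor_comm]⟩
    · exact ⟨_, l1, _, h, rfl⟩

variable {G : Type*} [Group G] [Finite G] {z : G} {Q : Subgroup G} {p : G → Nat} {k u : G} {a r : Nat → G} {g : G}

/-- The permutation of the points attached to an element. -/
def Perms (z : G) (a r : Nat → G) (s : Nat) (c : G) (σ : Equiv.Perm Cfsg.GolayPt) : Prop :=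
  ∀ x y, x ≠ y → co z a r c (shiftMask s (uu x ^^^ uu y)) = shiftMask s (uu (σ x) ^^^ uu (σ y))

theorem exists_two : ∀ x : Cfsg.GolayPt, ∃ y1 y2 y3 : Cfsg.GolayPt,
    x ≠ y1 ∧ x ≠ y2 ∧ x ≠ y3 ∧ y1 ≠ y2 ∧ y1 ≠ y3 ∧ y2 ≠ y3 := by
  decide +kernel

namespace Ctx

variable (D : Ctx z Q p k a r g)
include D

local notation "NN" => Subgroup.normalizer (cGrp Q p 85 : Set G)
local notation "DS" => dSet z Q p a r
local notation "cN" => cn z a r
local notation "cO" => co z a r

theorem exists_perms {s : Nat} (hs : s < 64) (hDS : DS = pairSet s) {c : G} (hc : c ∈ NN) :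
    ∃ σ : Equiv.Perm Cfsg.GolayPt, Perms z a r s c σ := by
  classical
  have himg : ∀ x y : Cfsg.GolayPt, x ≠ y → ∃ x' y', x' ≠ y' ∧
      cO c (shiftMask s (uu x ^^^ uu y)) = shiftMask s (uu x' ^^^ uu y') := by
    intro x y hxy
    have h : shiftMask s (uu x ^^^ uu y) ∈ DS := hDS ▸ mem_pairSet.2 ⟨x, y, hxy, rfl⟩
    have h2 := (d_image D hc ((mem_d D).1 h).1).2 h
    rw [hDS] at h2
    obtain ⟨x', y', hne, e⟩ := mem_pairSet.1 h2
    exact ⟨x', y', hne, e.symm⟩
  choose! A B hAB himg using himg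
  have sinj : ∀ {f f'}, shiftMask s f = shiftMask s f' → f = f' := fun {f f'} e => by
    rw [← shift_shift s f, e, shift_shift]
  have vlt : ∀ x y : Cfsg.GolayPt, shiftMask s (uu x ^^^ uu y) < 2048 := fun x y =>
    shift_lt hs (Nat.xor_lt_two_pow (n := 11) (uu_facts.1 _ (CfsgLib.Sporadic.ix_lt x))
      (uu_facts.1 _ (CfsgLib.Sporadic.ix_lt y)))
  -- images of two pairs at a point meet in exactly one point
  have hinj : ∀ x y y', x ≠ y → x ≠ y' → y ≠ y' → ({A x y, B x y} : Finset Cfsg.GolayPt) ≠ {A x y', B x y'} := by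
    intro x y y' h1 h2 h3 e
    have hv : uu (A x y) ^^^ uu (B x y) = uu (A x y') ^^^ uu (B x y') := by
      have := congrArg ph e
      rw [ph_pair (hAB x y h1), ph_pair (hAB x y' h2)] at this
      have := congrArg (· >>> 1) this
      simpa [Nat.shiftLeft_shiftRight] using this
    have h4 := Coord.co_injective D.frame D.coord hc (vlt x y) (vlt x y')
      (by rw [himg x y h1, himg x y' h2, hv])
    have := pair_inj h1 h2 (sinj h4)
    have hy : y ∈ ({x, y'} : Finset Cfsg.GolayPt) := this ▸ by simp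
    simp [h1.symm, h3] at hy
  have hmeet : ∀ x y y', x ≠ y → x ≠ y' → y ≠ y' →
      A x y' = A x y ∨ A x y' = B x y ∨ B x y' = A x y ∨ B x y' = B x y := by
    intro x y y' h1 h2 h3
    have e : cO c (shiftMask s (uu y ^^^ uu y')) = shiftMask s (uu (A y y') ^^^ uu (B y y')) := himg y y' h3
    have e2 : uu y ^^^ uu y' = uu x ^^^ uu y ^^^ (uu x ^^^ uu y') := by
      calc uu y ^^^ uu y' = uu y ^^^ uu y' ^^^ (uu x ^^^ uu x) := by rw [Nat.xor_self, Nat.xor_zero]
        _ = _ := by ac_rfl
    rw [e2, shift_xor, Coord.co_xor D.frame D.coord hc, himg x y h1, himg x y' h2, ← shift_xor] at e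
    exact pair_meet (hAB x y h1) (hAB x y' h2) (hAB y y' h3) (sinj e)
  -- the common point of the images of the pairs at a point
  have hcommon : ∀ x, ∃ v, ∀ y, x ≠ y → v = A x y ∨ v = B x y := by
    intro x
    obtain ⟨y1, y2, y3, e1, e2, e3, n12, n13, n23⟩ := exists_two x
    -- the point shared by the first two
    obtain ⟨v, b1, b2, hv1, hv2⟩ : ∃ v b1 b2, ({A x y1, B x y1} : Finset Cfsg.GolayPt) = {v, b1} ∧
        ({A x y2, B x y2} : Finset Cfsg.GolayPt) = {v, b2} := by
      rcases hmeet x y1 y2 e1 e2 n12 with e | e | e | e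
      · exact ⟨A x y2, B x y1, B x y2, by rw [e], rfl⟩
      · exact ⟨A x y2, A x y1, B x y2, by rw [e, Finset.pair_comm], rfl⟩
      · exact ⟨B x y2, B x y1, A x y2, by rw [e], Finset.pair_comm _ _⟩
      · exact ⟨B x y2, A x y1, A x y2, by rw [e, Finset.pair_comm], Finset.pair_comm _ _⟩
    have hb : b1 ≠ b2 := fun e => hinj x y1 y2 e1 e2 n12 (by rw [hv1, hv2, e])
    have hvb : v ≠ b1 ∧ v ≠ b2 := by
      constructor <;> intro e <;> subst e
      · have := congrArg Finset.card hv1
        rw [Finset.card_pair (hAB x y1 e1)] at this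
        simp at this
      · have := congrArg Finset.card hv2
        rw [Finset.card_pair (hAB x y2 e2)] at this
        simp at this
    -- a pair missing the shared point is the third side
    have third : ∀ y, x ≠ y → y ≠ y1 → y ≠ y2 → v ≠ A x y → v ≠ B x y →
        ({A x y, B x y} : Finset Cfsg.GolayPt) = {b1, b2} := by
      intro y hy n1 n2 hA hB
      have m1 : b1 = A x y ∨ b1 = B x y := by
        have hh := hmeet x y y1 hy e1 n1
        have h1 : A x y1 = v ∨ A x y1 = b1 := pair_sub (hAB x y1 e1) hv1 (Or.inl rfl)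
        have h2 : B x y1 = v ∨ B x y1 = b1 := pair_sub (hAB x y1 e1) hv1 (Or.inr rfl)
        rcases hh with e | e | e | e <;> rcases h1 with f1 | f1 <;> rcases h2 with f2 | f2 <;> simp_all
      have m2 : b2 = A x y ∨ b2 = B x y := by
        have hh := hmeet x y y2 hy e2 n2
        have h1 : A x y2 = v ∨ A x y2 = b2 := pair_sub (hAB x y2 e2) hv2 (Or.inl rfl)
        have h2 : B x y2 = v ∨ B x y2 = b2 := pair_sub (hAB x y2 e2) hv2 (Or.inr rfl)
        rcases hh with e | e | e | e <;> rcases h1 with f1 | f1 <;> rcases h2 with f2 | f2 <;> simp_all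
      rcases m1 with m1 | m1 <;> rcases m2 with m2 | m2
      · exact absurd (m1.trans m2.symm) hb
      · rw [m1, m2]
      · rw [m1, m2, Finset.pair_comm]
      · exact absurd (m1.trans m2.symm) hb
    refine ⟨v, fun y hy => ?_⟩
    by_cases n1 : y = y1
    · subst n1; exact pair_sub hvb.1 hv1.symm (Or.inl rfl)
    by_cases n2 : y = y2
    · subst n2; exact pair_sub hvb.2 hv2.symm (Or.inl rfl)
    by_contra hno
    simp only [not_or] at hno
    have ht := third y hy n1 n2 hno.1 hno.2
    -- a fourth pair cannot exist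
    obtain ⟨y4, h4x, h41, h42, h4y⟩ : ∃ y4, x ≠ y4 ∧ y4 ≠ y1 ∧ y4 ≠ y2 ∧ y4 ≠ y := by
      have hcard : (({x, y1, y2, y} : Finset Cfsg.GolayPt)).card ≤ 4 := Finset.card_le_four
      obtain ⟨y4, -, h⟩ := Finset.exists_mem_notMem_of_card_lt_card (s := ({x, y1, y2, y} : Finset Cfsg.GolayPt))
        (t := Finset.univ) (by
          rw [Finset.card_univ, show Fintype.card Cfsg.GolayPt = 24 by decide +kernel]
          omega)
      simp only [Finset.mem_insert, Finset.mem_singleton, not_or] at h
      exact ⟨y4, Ne.symm h.1, h.2.1, h.2.2.1, h.2.2.2⟩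
    have h4v : v = A x y4 ∨ v = B x y4 := by
      by_contra hn
      simp only [not_or] at hn
      exact hinj x y4 y h4x hy h4y ((third y4 h4x h41 h42 hn.1 hn.2).trans ht.symm)
    have g1 : A x y = b1 ∨ A x y = b2 := pair_sub (hAB x y hy) ht (Or.inl rfl)
    have g2 : B x y = b1 ∨ B x y = b2 := pair_sub (hAB x y hy) ht (Or.inr rfl)
    have hm := hmeet x y y4 hy h4x (Ne.symm h4y)
    obtain ⟨d, hd, hv4⟩ : ∃ d, (d = b1 ∨ d = b2) ∧ ({A x y4, B x y4} : Finset Cfsg.GolayPt) = {v, d} := by
      rcases h4v with f | f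
      · refine ⟨B x y4, ?_, by rw [f]⟩
        rcases hm with e | e | e | e
        · exact absurd (f.trans e) hno.1
        · exact absurd (f.trans e) hno.2
        · exact e ▸ g1
        · exact e ▸ g2
      · refine ⟨A x y4, ?_, by rw [f, Finset.pair_comm]⟩
        rcases hm with e | e | e | e
        · exact e ▸ g1
        · exact e ▸ g2
        · exact absurd (f.trans e) hno.1
        · exact absurd (f.trans e) hno.2
    rcases hd with rfl | rfl
    · exact hinj x y4 y1 h4x e1 h41 (hv4.trans hv1.symm)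
    · exact hinj x y4 y2 h4x e2 h42 (hv4.trans hv2.symm)
  choose π hπ using hcommon
  have hπinj : Function.Injective π := by
    intro x x' e
    by_contra hne
    obtain ⟨w, hw1, hw2⟩ : ∃ w, w ≠ x ∧ w ≠ x' := by
      obtain ⟨y1, y2, y3, e1, e2, e3, n12, n13, n23⟩ := exists_two x
      by_cases h : y1 = x'
      · exact ⟨y2, e2.symm, fun e => n12 (h.trans e.symm)⟩
      · exact ⟨y1, e1.symm, h⟩
    -- the twenty-two pairs and the shared one all contain the image: too many
    have hsub : ((Finset.univ.erase x).image fun y => (({A x y, B x y} : Finset Cfsg.GolayPt))) ⊆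
        (Finset.univ.erase (π x)).image fun v => ({π x, v} : Finset Cfsg.GolayPt) := by
      intro S hS
      obtain ⟨y, hy, rfl⟩ := Finset.mem_image.1 hS
      have hy' : x ≠ y := fun e => Finset.ne_of_mem_erase hy e.symm
      rcases hπ x y hy' with h | h
      · exact Finset.mem_image.2 ⟨B x y, Finset.mem_erase.2 ⟨fun e => hAB x y hy' (h.symm.trans e.symm),
          Finset.mem_univ _⟩, by rw [h]⟩
      · exact Finset.mem_image.2 ⟨A x y, Finset.mem_erase.2 ⟨fun e => hAB x y hy' (e.trans h),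
          Finset.mem_univ _⟩, by rw [h, Finset.pair_comm]⟩
    have hcardL : ((Finset.univ.erase x).image fun y => (({A x y, B x y} : Finset Cfsg.GolayPt))).card = 23 := by
      rw [Finset.card_image_of_injOn, Finset.card_erase_of_mem (Finset.mem_univ x), Finset.card_univ,
        show Fintype.card Cfsg.GolayPt = 24 by decide +kernel]
      intro y hy y' hy' e
      simp only [Finset.coe_erase, Finset.coe_univ, Set.mem_diff, Set.mem_univ, Set.mem_singleton_iff,
        true_and] at hy hy'
      by_contra hne'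
      exact hinj x y y' (Ne.symm hy) (Ne.symm hy') hne' e
    have hcardR : ((Finset.univ.erase (π x)).image fun v => ({π x, v} : Finset Cfsg.GolayPt)).card ≤ 23 := by
      refine le_trans Finset.card_image_le ?_
      rw [Finset.card_erase_of_mem (Finset.mem_univ _), Finset.card_univ,
        show Fintype.card Cfsg.GolayPt = 24 by decide +kernel]
    have heq := Finset.eq_of_subset_of_card_le hsub (by omega)
    -- the pair of `x'` and a further point also contains the image
    have hmem : ({A x' w, B x' w} : Finset Cfsg.GolayPt) ∈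
        (Finset.univ.erase (π x)).image fun v => ({π x, v} : Finset Cfsg.GolayPt) := by
      rcases hπ x' w (Ne.symm hw2) with h | h
      · exact Finset.mem_image.2 ⟨B x' w, Finset.mem_erase.2 ⟨fun e' => hAB x' w (Ne.symm hw2)
          (h.symm.trans (e.symm.trans e'.symm)), Finset.mem_univ _⟩, by rw [e, h]⟩
      · exact Finset.mem_image.2 ⟨A x' w, Finset.mem_erase.2 ⟨fun e' => hAB x' w (Ne.symm hw2)
          ((e'.trans e).trans h), Finset.mem_univ _⟩, by rw [e, h, Finset.pair_comm]⟩
    rw [← heq] at hmem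
    obtain ⟨y, hy, hyw⟩ := Finset.mem_image.1 hmem
    have hy' : x ≠ y := fun e => Finset.ne_of_mem_erase hy e.symm
    have hv : uu (A x y) ^^^ uu (B x y) = uu (A x' w) ^^^ uu (B x' w) := by
      have := congrArg ph hyw
      rw [ph_pair (hAB x y hy'), ph_pair (hAB x' w (Ne.symm hw2))] at this
      have := congrArg (· >>> 1) this
      simpa [Nat.shiftLeft_shiftRight] using this
    have h4 := Coord.co_injective D.frame D.coord hc (vlt x y) (vlt x' w)
      (by rw [himg x y hy', himg x' w (Ne.symm hw2), hv])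
    have := pair_inj hy' (Ne.symm hw2) (sinj h4)
    rcases pair_sub hy' this (Or.inl rfl) with h | h
    · exact hne h
    · exact hw1 h.symm
  refine ⟨Equiv.ofBijective π (Finite.injective_iff_bijective.1 hπinj), fun x y hxy => ?_⟩
  show cO c _ = shiftMask s (uu (π x) ^^^ uu (π y))
  rw [himg x y hxy]
  have hne : π x ≠ π y := fun e => hxy (hπinj e)
  have h1 := hπ x y hxy
  have h2' := hπ y x (Ne.symm hxy)
  have hsym : ({A y x, B y x} : Finset Cfsg.GolayPt) = {A x y, B x y} := by
    have hv : uu (A y x) ^^^ uu (B y x) = uu (A x y) ^^^ uu (B x y) := by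
      refine sinj ?_
      rw [← himg x y hxy, ← himg y x (Ne.symm hxy), Nat.xor_comm (uu x)]
    exact pair_inj (hAB y x (Ne.symm hxy)) (hAB x y hxy) hv
  have h2 : π y = A x y ∨ π y = B x y := pair_sub (hAB y x (Ne.symm hxy)) hsym h2'
  rcases h1 with h1 | h1 <;> rcases h2 with h2 | h2
  · exact absurd (h1.trans h2.symm) hne
  · rw [h1, h2]
  · rw [h1, h2, Nat.xor_comm]
  · exact absurd (h1.trans h2.symm) hne

theorem perms_mem {s : Nat} {c : G} (hc : c ∈ NN) {σ : Equiv.Perm Cfsg.GolayPt} (h : Perms z a r s c σ) :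
    σ ∈ Cfsg.M24 := by
  classical
  -- even sets go to the sums of their images
  have key : ∀ n (t : Finset Cfsg.GolayPt), t.card = 2 * n → ∃ W, ph t = W <<< 1 ∧
      ph (t.image σ) = shiftMask s (cO c (shiftMask s W)) <<< 1 := by
    intro n
    induction n with
    | zero =>
      intro t ht
      rw [Finset.card_eq_zero.1 ht]
      refine ⟨0, ?_, ?_⟩
      · rw [ph, CfsgLib.Sporadic.maskOf_empty]; decide +kernel
      · have h0 : shiftMask s 0 = 0 := by simp [shiftMask]
        rw [Finset.image_empty, ph, CfsgLib.Sporadic.maskOf_empty, h0, co_zero D hc, h0]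
        decide +kernel
    | succ n ih =>
      intro t ht
      obtain ⟨x, hx⟩ := Finset.card_pos.1 (by omega : 0 < t.card)
      obtain ⟨y, hy⟩ := Finset.card_pos.1 (by rw [Finset.card_erase_of_mem hx]; omega : 0 < (t.erase x).card)
      have hyx : y ≠ x := Finset.ne_of_mem_erase hy
      set t' := (t.erase x).erase y with ht'
      have hc' : t'.card = 2 * n := by
        rw [ht', Finset.card_erase_of_mem hy, Finset.card_erase_of_mem hx]; omega
      obtain ⟨W, hW, hW'⟩ := ih t' hc'
      have e : t = symmDiff t' {x, y} := by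
        ext v
        simp only [ht', Finset.mem_symmDiff, Finset.mem_erase, Finset.mem_insert, Finset.mem_singleton]
        have := Finset.mem_of_mem_erase hy
        by_cases h1 : v = x <;> by_cases h2 : v = y <;> simp_all
      refine ⟨W ^^^ (uu x ^^^ uu y), ?_, ?_⟩
      · rw [e, ph_symmDiff, hW, ph_pair hyx.symm, ← Nat.shiftLeft_xor_distrib]
      · rw [e, Finset.image_symmDiff _ _ σ.injective, Finset.image_insert, Finset.image_singleton, ph_symmDiff, hW',
          ph_pair (σ.injective.ne hyx.symm), shift_xor s W, Coord.co_xor D.frame D.coord hc, h x y hyx.symm,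
          shift_xor, shift_shift, ← Nat.shiftLeft_xor_distrib]
  rw [CfsgLib.Sporadic.mem_M24_iff]
  intro t ht
  rw [CfsgLib.Sporadic.mem_supports_iff] at ht ⊢
  rw [← ph_code] at ht ⊢
  have heven : ∃ n, t.card = 2 * n := by
    have := CfsgLib.Sporadic.popc_inCode (ph_code.1 ht)
    rw [CfsgLib.Sporadic.popc_maskOf] at this
    exact ⟨t.card / 2, by omega⟩
  obtain ⟨n, hn⟩ := heven
  obtain ⟨W, hW, hW'⟩ := key n t hn
  rw [ht] at hW
  have hW0 : W = 0 := by
    have := congrArg (· >>> 1) hW
    simpa [Nat.shiftLeft_shiftRight] using this.symm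
  have h0 : shiftMask s 0 = 0 := by simp [shiftMask]
  show ph (t.image σ) = 0
  rw [hW', hW0, h0, co_zero D hc, h0, Nat.zero_shiftLeft]

theorem perms_unique {s : Nat} {c : G} {σ τ : Equiv.Perm Cfsg.GolayPt} (h : Perms z a r s c σ)
    (h' : Perms z a r s c τ) : σ = τ := by
  refine Equiv.ext fun x => ?_
  obtain ⟨y1, y2, y3, e1, e2, e3, n12, n13, n23⟩ := exists_two x
  have key : ∀ y, x ≠ y → σ x = τ x ∨ σ x = τ y := fun y hy => by
    have hv : uu (σ x) ^^^ uu (σ y) = uu (τ x) ^^^ uu (τ y) := by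
      have := (h x y hy).symm.trans (h' x y hy)
      rw [← shift_shift s (uu (σ x) ^^^ uu (σ y)), this, shift_shift]
    exact pair_sub (σ.injective.ne hy) (pair_inj (σ.injective.ne hy) (τ.injective.ne hy) hv) (Or.inl rfl)
  rcases key y1 e1 with h1 | h1
  · exact h1
  rcases key y2 e2 with h2 | h2
  · exact h2
  exact absurd (τ.injective (h1.symm.trans h2)) n12

theorem perms_mul {s : Nat} {c d : G} {σ τ : Equiv.Perm Cfsg.GolayPt} (hc : c ∈ NN) (hd : d ∈ NN)
    (h : Perms z a r s c σ) (h' : Perms z a r s d τ) : Perms z a r s (c * d) (τ * σ) := by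
  intro x y hxy
  rw [Coord.co_mul D.frame D.coord hc hd, h x y hxy, h' _ _ (σ.injective.ne hxy)]
  rfl

/-- Only the subgroup itself fixes every point. -/
theorem perms_one {s : Nat} (hs : s < 64) {c : G} (hc : c ∈ NN) (h : Perms z a r s c 1) : c ∈ cGrp Q p 85 := by
  classical
  have hT : ∀ n < 2048, shiftMask s (cO c (shiftMask s n)) = n := by
    have hadd : ∀ a b, shiftMask s (cO c (shiftMask s (a ^^^ b))) =
        shiftMask s (cO c (shiftMask s a)) ^^^ shiftMask s (cO c (shiftMask s b)) := fun a b => by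
      rw [shift_xor s a b, Coord.co_xor D.frame D.coord hc, shift_xor]
    have h0 : shiftMask s (cO c (shiftMask s 0)) = 0 := by
      have := hadd 0 0
      rw [Nat.xor_self, Nat.xor_self] at this
      exact this
    refine lin11 (· ^^^ ·) _ id (fun a b _ _ => hadd a b) (fun a b _ _ => rfl) h0 fun i hi => ?_
    have hu := List.all_eq_true.1 uu_facts.2.2.2 i (List.mem_range.2 hi)
    simp only [Bool.and_eq_true, List.all_eq_true, decide_eq_true_eq, beq_iff_eq, Bool.not_eq_true',
      beq_eq_false_iff_ne] at hu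
    obtain ⟨hl, he⟩ := hu
    show shiftMask s (cO c (shiftMask s (2 ^ i))) = 2 ^ i
    rw [← he]
    clear he
    generalize unitPairs.getD i [] = L at hl ⊢
    induction L with
    | nil => exact h0
    | cons pq l ih =>
      have hpq := hl pq (List.mem_cons_self ..)
      have hne : pt pq.1 ≠ pt pq.2 := fun e => hpq.2 (by
        have := congrArg ix e
        rwa [CfsgLib.Sporadic.ix_pt hpq.1.1, CfsgLib.Sporadic.ix_pt hpq.1.2] at this)
      have e1 := h _ _ hne
      simp only [Equiv.Perm.coe_one, id, uu, CfsgLib.Sporadic.ix_pt hpq.1.1, CfsgLib.Sporadic.ix_pt hpq.1.2] at e1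
      rw [List.foldr_cons, hadd, ih (fun x hx => hl x (List.mem_cons_of_mem _ hx)), e1, shift_shift]
  have hco : ∀ f < 2048, cO c f = f := by
    intro f hf
    have := hT _ (shift_lt hs hf)
    rw [shift_shift] at this
    rw [← shift_shift s (cO c f), this, shift_shift]
  refine mem_cGrp.2 fun e he hm => ?_
  obtain ⟨x, hx, rfl⟩ : ∃ x, x ∈ cGrp Q p 85 ∧ x = e := ⟨e, (Sys.mem_cGrp_q D.frame.sys he).2 hm, rfl⟩
  obtain ⟨n, hn, rfl⟩ := Coord.el_surj D.frame D.coord hx
  obtain ⟨hlt, e⟩ := Coord.cn_spec D.frame D.coord hc n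
  have hcn : cN c n = n := by
    refine par_ext hlt hn fun i hi => ?_
    rw [par_comm, ← Coord.par_co D.frame D.coord hc _ hn, hco _ (Nat.pow_lt_pow_right (by norm_num) hi), par_comm]
  rw [hcn] at e
  exact mul_inv_eq_iff_eq_mul.1 e.symm

/-- The action on the points. -/
theorem exists_hom : ∃ φ : ↥NN →* ↥Cfsg.M24, φ.ker = (cGrp Q p 85).subgroupOf NN := by
  obtain ⟨s, hs, hDS⟩ := d_eq D
  choose π hπ using fun c : ↥NN => exists_perms D hs hDS (inv_mem c.2)
  refine ⟨MonoidHom.mk' (fun c => ⟨π c, perms_mem D (inv_mem c.2) (hπ c)⟩) (fun c d => ?_), ?_⟩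
  · refine Subtype.ext (perms_unique D (hπ (c * d)) ?_)
    show Perms z a r s ((c : G) * d)⁻¹ (π c * π d)
    rw [mul_inv_rev]
    exact perms_mul D (inv_mem d.2) (inv_mem c.2) (hπ d) (hπ c)
  · ext c
    rw [MonoidHom.mem_ker, Subgroup.mem_subgroupOf]
    constructor
    · intro h
      have h1 : π c = 1 := congrArg Subtype.val h
      rw [← inv_inv (c : G)]
      exact inv_mem (perms_one D hs (inv_mem c.2) (h1 ▸ hπ c))
    · intro h
      refine Subtype.ext (perms_unique D (hπ c) fun x y hxy => ?_)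
      have hl : shiftMask s (uu x ^^^ uu y) < 2048 := shift_lt hs (Nat.xor_lt_two_pow (n := 11)
        (uu_facts.1 _ (CfsgLib.Sporadic.ix_lt x)) (uu_facts.1 _ (CfsgLib.Sporadic.ix_lt y)))
      refine par_ext (msk_lt _) (by simpa using hl) fun i hi => ?_
      have h2 : 2 ^ i < 2048 := Nat.pow_lt_pow_right (by norm_num) hi
      rw [Coord.par_co D.frame D.coord (inv_mem c.2) _ h2, Coord.cn_of_comm D.frame D.coord h2]
      · rfl
      · exact congrArg Subtype.val (D.coord.elem.1.1.1 ⟨_, inv_mem h⟩ ⟨_, Coord.el_mem D.frame D.coord _⟩)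

end Ctx

end CfsgLib.Recog.CoOneCode
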