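import Cfsg.Agent.Lib.Recog.CoOneCode.Dual

/-!
The nontrivial elements outside the class of the central involution form one further orbit (owner: helper8).
-/

set_option autoImplicit false
set_option linter.unusedSectionVars false
set_option linter.unusedVariables false
set_option quotPrecheck false
set_option maxRecDepth 100000
set_option maxHeartbeats 800000
set_option Elab.async false

namespace CfsgLib.Recog.CoOneCode

open CfsgLib.Recog.CoOneType CfsgLib.Recog.CoOneFive CfsgLib.ThreeTrans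

theorem second_facts :
    ((List.range 32).all fun l => (l &&& 24 == 0) || (List.range 32).all fun l' => !(l' &&& 24 == l &&& 24) ||
      (List.range 16).any fun x => tau x (32 ^^^ l) == 32 ^^^ l') = true ∧
    ([8, 16, 24].all fun h => t23Words.any fun w =>
      (unspr (app (levW w) 16) == h) && (lamOf (levW w) 1 == 1)) = true ∧
    (∀ b1 b2 : Bool, ((Finset.range 2048).filter fun n => n >>> 5 = 33 ∧
      (bif inA n then b1 else b2) = true).card = 16 → b2 = !b1) ∧
    (∀ k, k = 1 → ((Finset.range 2048).filter fun n => n >>> 5 = k).card = 32) ∧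
    (∑ k ∈ Finset.range 64, if k = 0 ∨ pf k = true then 0 else 24) = 840 ∧
    (∑ k ∈ Finset.range 64, if (k.testBit 0 ^^ k.testBit 5) = true then (if k = 0 ∨ pf k = true then 0 else 24) else 0) = 480 ∧
    (∀ l < 32, (32 ^^^ l) >>> 5 = 1 ∧ (32 ^^^ l) &&& 24 = l &&& 24) ∧
    (∀ k < 64, ((Finset.range 2048).filter fun n => n >>> 5 = k).card = 32) := by
  refine ⟨by decide +kernel, by decide +kernel, by decide +kernel, ?_, by decide +kernel, by decide +kernel,
    by decide +kernel, by decide +kernel⟩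
  rintro k rfl
  decide +kernel

variable {G : Type*} [Group G] [Finite G] {z : G} {Q : Subgroup G} {p : G → Nat} {k u : G} {a r : Nat → G} {g : G}

open scoped _root_.Classical in
/-- The orbit of the standard element outside the class of `z`. -/
noncomputable def ySet (z : G) (Q : Subgroup G) (p : G → Nat) (a r : Nat → G) : Finset Nat :=
  (Finset.range 2048).filter fun n => ∃ c ∈ Subgroup.normalizer (cGrp Q p 85 : Set G), cn z a r c 40 = n

namespace Ctx

variable (D : Ctx z Q p k a r g)
include D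

local notation "NN" => Subgroup.normalizer (cGrp Q p 85 : Set G)
local notation "OS" => oSet z Q p a r
local notation "DS" => dSet z Q p a r
local notation "YS" => ySet z Q p a r
local notation "cN" => cn z a r
local notation "cO" => co z a r

theorem mem_y {n : Nat} : n ∈ YS ↔ n < 2048 ∧ ∃ c ∈ NN, cN c 40 = n := by
  simp only [ySet, Finset.mem_filter, Finset.mem_range]

theorem y_image {c : G} (hc : c ∈ NN) {n : Nat} (hn : n < 2048) : cN c n ∈ YS ↔ n ∈ YS := by
  constructor
  · intro h
    obtain ⟨-, d, hd, e⟩ := (mem_y D).1 h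
    refine (mem_y D).2 ⟨hn, c⁻¹ * d, mul_mem (inv_mem hc) hd, ?_⟩
    rw [Coord.cn_mul D.frame D.coord (inv_mem hc) hd, e, ← Coord.cn_mul D.frame D.coord (inv_mem hc) hc,
      inv_mul_cancel, Coord.cn_one D.frame D.coord hn]
  · intro h
    obtain ⟨-, d, hd, e⟩ := (mem_y D).1 h
    exact (mem_y D).2 ⟨(Coord.cn_spec D.frame D.coord hc n).1, c * d, mul_mem hc hd, by
      rw [Coord.cn_mul D.frame D.coord hc hd, e]⟩

theorem y_tau {x n : Nat} (hx : x < 16) (hn : n < 2048) : tau x n ∈ YS ↔ n ∈ YS := by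
  obtain ⟨q, -, hq, -, -, hcn, -⟩ := Coord.exists_tau D.frame D.coord hx
  rw [← hcn n hn]
  exact y_image D hq hn

theorem forty : (40 : Nat) ∈ YS ∧ (40 : Nat) ∉ OS :=
  ⟨(mem_y D).2 ⟨by norm_num, 1, one_mem _, Coord.cn_one D.frame D.coord (by norm_num)⟩,
    fun h => absurd ((mem_line D (by norm_num) rfl).1 h) (by decide)⟩

theorem y_not_o {n : Nat} (h : n ∈ YS) : n ∉ OS := by
  obtain ⟨-, c, hc, rfl⟩ := (mem_y D).1 h
  rw [o_image D hc (by norm_num)]
  exact (forty D).2

theorem y_ne_zero {n : Nat} (h : n ∈ YS) : n ≠ 0 := by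
  rintro rfl
  obtain ⟨-, c, hc, e⟩ := (mem_y D).1 h
  have h2 := (Coord.cn_spec D.frame D.coord hc 40).2
  rw [e, Coord.el_zero D.frame D.coord] at h2
  have : el z a r 40 = el z a r 0 := by rw [Coord.el_zero D.frame D.coord]; exact conj_eq_one_iff.1 h2.symm
  exact absurd (Coord.el_inj D.frame D.coord (by norm_num) (by norm_num) this) (by norm_num)

theorem y_line {n : Nat} (hn : n < 2048) (h1 : n >>> 5 = 1) (h24 : n &&& 24 ≠ 0) : n ∈ YS := by
  have hl : n % 32 < 32 := Nat.mod_lt _ (by norm_num)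
  have en : n = 32 ^^^ n % 32 := cnt_facts.2.2.2.2.1 1 (by norm_num) n hn h1
  have h24' : n &&& 24 = n % 32 &&& 24 := by
    conv_lhs => rw [en]
    exact (second_facts.2.2.2.2.2.2.1 _ hl).2
  have hh : n &&& 24 = 8 ∨ n &&& 24 = 16 ∨ n &&& 24 = 24 := by
    have key : ∀ m < 32, m &&& 24 ≠ 0 → m &&& 24 = 8 ∨ m &&& 24 = 16 ∨ m &&& 24 = 24 := by decide +kernel
    rw [h24'] at h24 ⊢
    exact key _ hl h24
  have hw := List.all_eq_true.1 second_facts.2.1 (n &&& 24) (by rcases hh with e | e | e <;> rw [e] <;> simp)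
  simp only [List.any_eq_true, Bool.and_eq_true, beq_iff_eq] at hw
  obtain ⟨w, -, w16, wl⟩ := hw
  obtain ⟨c, hc⟩ := Coord.exists_exact D.frame D.coord w
  obtain ⟨hlt, -⟩ := Coord.cn_spec D.frame D.coord hc.norm 32
  have h8 : cN c 8 = n &&& 24 := (hc.cn_a 2 (by norm_num)).trans w16
  have h32k : cN c 32 >>> 5 = 1 := by
    rw [hc.cn_r 32 (by norm_num)]
    exact wl
  have h32 : cN c 32 &&& 24 = 0 :=
    (mem_line D hlt h32k).1 ((o_image D hc.norm (by norm_num)).2 ((mem_line D (by norm_num) rfl).2 rfl))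
  have h40 : cN c 40 = cN c 32 ^^^ (n &&& 24) := by
    rw [show (40 : Nat) = 32 ^^^ 8 from rfl, Coord.cn_xor D.frame D.coord hc.norm, h8]
  have hmem : cN c 40 ∈ YS := (y_image D hc.norm (by norm_num)).2 (forty D).1
  have hk40 : cN c 40 >>> 5 = 1 := by
    rw [h40, Nat.shiftRight_xor_distrib, h32k]
    rcases hh with e | e | e <;> rw [e] <;> rfl
  have he := cnt_facts.2.2.2.2.1 1 (by norm_num) _ ((mem_y D).1 hmem).1 hk40
  have hl40 : cN c 40 % 32 < 32 := Nat.mod_lt _ (by norm_num)
  have h24c : cN c 40 % 32 &&& 24 = n &&& 24 := by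
    have hv : cN c 40 &&& 24 = n &&& 24 := by
      rw [h40, Nat.and_xor_distrib_right, h32, Nat.zero_xor, Nat.and_assoc, Nat.and_self]
    rw [← hv]
    conv_rhs => rw [he]
    exact ((second_facts.2.2.2.2.2.2.1 _ hl40).2).symm
  have hf := List.all_eq_true.1 second_facts.1 _ (List.mem_range.2 hl40)
  simp only [h24c, Bool.or_eq_true, beq_iff_eq, h24, false_or, List.all_eq_true, List.mem_range] at hf
  replace hf := hf _ hl
  simp only [← h24', Bool.not_eq_true', beq_eq_false_iff_ne, ne_eq, not_true_eq_false, false_or, List.any_eq_true,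
    List.mem_range, beq_iff_eq] at hf
  obtain ⟨x, hx, ex⟩ := hf
  rw [show 32 ^^^ cN c 40 % 32 = cN c 40 from he.symm, show 32 ^^^ n % 32 = n from en.symm] at ex
  rw [← ex, y_tau D hx ((mem_y D).1 hmem).1]
  exact hmem

/-- Transport to a standard pattern. -/
theorem preimage {w : List Nat} {k0 k1 : Nat} (hk0 : k0 < 64) (e : lamOf (levW w) k0 = k1) {n : Nat}
    (hn : n < 2048) (hk : n >>> 5 = k1) :
    ∃ m < 2048, m >>> 5 = k0 ∧ (m ∈ OS ↔ n ∈ OS) ∧ (m ∈ YS ↔ n ∈ YS) := by
  obtain ⟨c, hc⟩ := Coord.exists_exact D.frame D.coord w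
  have hN := hc.norm
  have hm := (Coord.cn_spec D.frame D.coord (inv_mem hN) n).1
  have em : cN c (cN c⁻¹ n) = n := by
    rw [← Coord.cn_mul D.frame D.coord hN (inv_mem hN), mul_inv_cancel, Coord.cn_one D.frame D.coord hn]
  refine ⟨_, hm, ?_, o_image D (inv_mem hN) hn, y_image D (inv_mem hN) hn⟩
  have h1 := hc.cn_r _ hm
  rw [em, hk] at h1
  have h32 : k0 * 32 < 2048 := by omega
  have e32 : (k0 * 32) >>> 5 = k0 := by rw [Nat.shiftRight_eq_div_pow]; omega
  have := lam_inj D hc hm h32 (by rw [← h1, e32, e])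
  rwa [e32] at this

theorem y_sing {n : Nat} (hn : n < 2048) (h0 : n >>> 5 ≠ 0) (hp : pf (n >>> 5) = false) (hO : n ∉ OS) :
    n ∈ YS := by
  have hk : n >>> 5 < 64 := by rw [Nat.shiftRight_eq_div_pow]; omega
  have h := List.all_eq_true.1 orbit_facts.2.2.2.1 _ (List.mem_range.2 hk)
  simp only [Bool.or_eq_true, beq_iff_eq, h0, false_or, hp, cond_false, List.any_eq_true] at h
  obtain ⟨w, -, e⟩ := h
  obtain ⟨m, hm, hmk, hmO, hmY⟩ := preimage D (by norm_num : (1 : Nat) < 64) e hn rfl
  rw [← hmY]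
  exact y_line D hm hmk fun h24 => hO (hmO.1 ((mem_line D hm hmk).2 h24))

/-- The nonsingular part outside the class is one orbit. -/
theorem non_sing : ∃ n1, n1 < 2048 ∧ n1 >>> 5 = 33 ∧ n1 ∉ OS ∧
    ∀ n < 2048, n >>> 5 ≠ 0 → pf (n >>> 5) = true → n ∉ OS → (n ∈ YS ↔ n1 ∈ YS) := by
  classical
  have key : ∀ n < 2048, n >>> 5 = 33 → ((n ∈ OS ↔ (bif inA n then 1056 else 1057) ∈ OS) ∧
      (n ∈ YS ↔ (bif inA n then 1056 else 1057) ∈ YS)) := by
    intro n hn hk
    have en := cnt_facts.2.2.2.2.2.2.1 n hn hk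
    have h := List.all_eq_true.1 orbit_facts.2.2.2.2 (n % 32) (List.mem_range.2 (Nat.mod_lt _ (by norm_num)))
    rw [← en] at h
    simp only [List.any_eq_true, List.mem_range, beq_iff_eq] at h
    obtain ⟨x, hx, e⟩ := h
    rw [← o_tau D hx hn, ← y_tau D hx hn, e]
    exact ⟨Iff.rfl, Iff.rfl⟩
  have hb : decide ((1057 : Nat) ∈ OS) = !decide ((1056 : Nat) ∈ OS) := by
    refine second_facts.2.2.1 _ _ ?_
    refine Eq.trans ?_ (o_card D).2
    congr 1
    ext n
    simp only [Finset.mem_filter, Finset.mem_range]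
    constructor
    · rintro ⟨hn, hk, h⟩
      refine ⟨(key n hn hk).1.2 ?_, hk⟩
      revert h
      cases inA n <;> simp
    · rintro ⟨hO, hk⟩
      have hn := ((mem_o D).1 hO).1
      refine ⟨hn, hk, ?_⟩
      have := (key n hn hk).1.1 hO
      revert this
      cases inA n <;> simp
  refine ⟨bif decide ((1056 : Nat) ∈ OS) then 1057 else 1056, by cases decide ((1056 : Nat) ∈ OS) <;> decide,
    by cases decide ((1056 : Nat) ∈ OS) <;> decide, ?_, ?_⟩
  · cases h : decide ((1056 : Nat) ∈ OS)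
    · simpa using h
    · rw [h] at hb
      simpa using hb
  intro n hn h0 hp hO
  have hk : n >>> 5 < 64 := by rw [Nat.shiftRight_eq_div_pow]; omega
  have h := List.all_eq_true.1 orbit_facts.2.2.2.1 _ (List.mem_range.2 hk)
  simp only [Bool.or_eq_true, beq_iff_eq, h0, false_or, hp, cond_true, List.any_eq_true] at h
  obtain ⟨w, -, e⟩ := h
  obtain ⟨m, hm, hmk, hmO, hmY⟩ := preimage D (by norm_num : (33 : Nat) < 64) e hn rfl
  obtain ⟨k1, k2⟩ := key m hm hmk
  rw [← hmY, k2]
  rw [← hmO, k1] at hO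
  revert hO
  cases inA m
  · intro hO
    have : decide ((1056 : Nat) ∈ OS) = true := by
      have h' : decide ((1057 : Nat) ∈ OS) = false := by simpa using hO
      rw [h'] at hb
      simpa using hb.symm
    rw [this]
    exact Iff.rfl
  · intro hO
    have : decide ((1056 : Nat) ∈ OS) = false := by simpa using hO
    rw [this]
    exact Iff.rfl

/-- The elements outside the class form one orbit. -/
theorem second_orbit {n : Nat} (hn : n < 2048) (h0 : n ≠ 0) (hO : n ∉ OS) : n ∈ YS := by
  classical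
  have h5 : n >>> 5 ≠ 0 := fun e => hO (low_mem_o D (by omega) (by
    rw [Nat.shiftRight_eq_div_pow] at e; omega))
  obtain ⟨n1, hn1, hk1, hO1, hall⟩ := non_sing D
  suffices hn1Y : n1 ∈ YS by
    cases hp : pf (n >>> 5)
    · exact y_sing D hn h5 hp hO
    · exact (hall n hn h5 hp hO).2 hn1Y
  by_contra hn1Y
  -- otherwise the orbit is the singular part outside the class
  have hY : ∀ m < 2048, m ∈ YS ↔ m >>> 5 ≠ 0 ∧ pf (m >>> 5) = false ∧ m ∉ OS := by
    intro m hm
    constructor
    · intro h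
      have hmO := y_not_o D h
      have h5' : m >>> 5 ≠ 0 := fun e => hmO (low_mem_o D (by have := y_ne_zero D h; omega) (by
        rw [Nat.shiftRight_eq_div_pow] at e; omega))
      refine ⟨h5', ?_, hmO⟩
      cases hp : pf (m >>> 5)
      · rfl
      · exact absurd ((hall m hm h5' hp hmO).1 h) hn1Y
    · rintro ⟨h1, h2, h3⟩
      exact y_sing D hm h1 h2 h3
  have hfib : ∀ k0 < 64, ((YS).filter fun m => m >>> 5 = k0).card = if k0 = 0 ∨ pf k0 = true then 0 else 24 := by
    intro k0 hk0
    split_ifs with h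
    · rw [Finset.card_eq_zero, Finset.filter_eq_empty_iff]
      intro m hm e
      obtain ⟨h1, h2, -⟩ := (hY m ((mem_y D).1 hm).1).1 hm
      rcases h with rfl | h
      · exact h1 e
      · rw [e, h] at h2; exact Bool.noConfusion h2
    · rw [not_or] at h
      have heq : (YS).filter (fun m => m >>> 5 = k0) =
          ((Finset.range 2048).filter fun m => m >>> 5 = k0) \ ((OS).filter fun m => m >>> 5 = k0) := by
        ext m
        simp only [Finset.mem_filter, Finset.mem_range, Finset.mem_sdiff, not_and]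
        constructor
        · rintro ⟨hm, e⟩
          exact ⟨⟨((mem_y D).1 hm).1, e⟩, fun h' => absurd h' (y_not_o D hm)⟩
        · rintro ⟨⟨hm, e⟩, hn'⟩
          exact ⟨(hY m hm).2 ⟨e ▸ h.1, by rw [e]; simpa using h.2, fun h' => hn' h' e⟩, e⟩
      rw [heq, Finset.card_sdiff_of_subset, second_facts.2.2.2.2.2.2.2 k0 hk0, fibre_count D hk0, cnt, if_neg h.1,
        if_neg h.2]
      intro m hm
      obtain ⟨hmO, e⟩ := Finset.mem_filter.1 hm
      exact Finset.mem_filter.2 ⟨Finset.mem_range.2 ((mem_o D).1 hmO).1, e⟩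
  have hmaps : ∀ m ∈ YS, m >>> 5 ∈ Finset.range 64 := fun m hm =>
    Finset.mem_range.2 (low_shift ((mem_y D).1 hm).1).2
  have hYc : (YS).card = 840 := by
    rw [Finset.card_eq_sum_card_fiberwise (f := fun m => m >>> 5) (t := Finset.range 64) hmaps,
      ← second_facts.2.2.2.2.1]
    exact Finset.sum_congr rfl fun k0 hk => hfib k0 (Finset.mem_range.1 hk)
  have hbase : ((YS).filter fun m => par m 1056 = true).card = 480 := by
    rw [Finset.card_eq_sum_card_fiberwise (f := fun m => m >>> 5) (t := Finset.range 64)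
      fun m hm => hmaps m (Finset.mem_filter.1 hm).1, ← second_facts.2.2.2.2.2.1]
    refine Finset.sum_congr rfl fun k0 hk => ?_
    rw [Finset.filter_filter]
    have hp : ∀ m ∈ YS, m >>> 5 = k0 → par m 1056 = (k0.testBit 0 ^^ k0.testBit 5) := by
      intro m hm e
      have := List.all_eq_true.1 mask_facts.2.2.2.2.2.2 m (List.mem_range.2 ((mem_y D).1 hm).1)
      rw [beq_iff_eq, e] at this
      exact this
    by_cases h : (k0.testBit 0 ^^ k0.testBit 5) = true
    · rw [if_pos h, ← hfib k0 (Finset.mem_range.1 hk)]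
      congr 1
      exact Finset.filter_congr fun m hm => ⟨fun e => e.2, fun e => ⟨by rw [hp m hm e, h], e⟩⟩
    · rw [if_neg h, Finset.card_eq_zero, Finset.filter_eq_empty_iff]
      rintro m hm ⟨e1, e2⟩
      rw [hp m hm e2] at e1
      exact h e1
  -- both counts are constant
  have hcol : ∀ f ∈ DS, ((YS).filter fun m => par m f = true).card = 480 := by
    intro f hf
    obtain ⟨-, c, hc, rfl⟩ := (mem_d D).1 hf
    rw [← hbase]
    refine Finset.card_bij (fun m _ => cN c m) ?_ ?_ ?_
    · intro m hm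
      obtain ⟨hmY, hp⟩ := Finset.mem_filter.1 hm
      have hlt := ((mem_y D).1 hmY).1
      rw [Coord.par_co D.frame D.coord hc 1056 hlt] at hp
      exact Finset.mem_filter.2 ⟨(y_image D hc hlt).2 hmY, hp⟩
    · intro x hx y hy e
      have hx' := ((mem_y D).1 (Finset.mem_filter.1 hx).1).1
      have hy' := ((mem_y D).1 (Finset.mem_filter.1 hy).1).1
      rw [← Coord.cn_one D.frame D.coord hx', ← Coord.cn_one D.frame D.coord hy', ← inv_mul_cancel c,
        Coord.cn_mul D.frame D.coord (inv_mem hc) hc, Coord.cn_mul D.frame D.coord (inv_mem hc) hc, e]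
    · intro m hm
      obtain ⟨hmY, hp⟩ := Finset.mem_filter.1 hm
      have hlt := ((mem_y D).1 hmY).1
      have hm' := (Coord.cn_spec D.frame D.coord (inv_mem hc) m).1
      have em : cN c (cN c⁻¹ m) = m := by
        rw [← Coord.cn_mul D.frame D.coord hc (inv_mem hc), mul_inv_cancel, Coord.cn_one D.frame D.coord hlt]
      exact ⟨_, Finset.mem_filter.2 ⟨(y_image D (inv_mem hc) hlt).2 hmY,
        by rw [Coord.par_co D.frame D.coord hc 1056 hm', em]; exact hp⟩, em⟩
  have hrow : ∀ m ∈ YS, ((DS).filter fun f => par m f = true).card = ((DS).filter fun f => par 40 f = true).card := by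
    intro m hm
    obtain ⟨-, c, hc, rfl⟩ := (mem_y D).1 hm
    refine Finset.card_bij (fun f _ => cO c f) ?_ ?_ ?_
    · intro f hf
      obtain ⟨hD, hp⟩ := Finset.mem_filter.1 hf
      exact Finset.mem_filter.2 ⟨(d_image D hc ((mem_d D).1 hD).1).2 hD,
        by rw [Coord.par_co D.frame D.coord hc f (by norm_num)]; exact hp⟩
    · intro f hf f' hf' e
      exact Coord.co_injective D.frame D.coord hc ((mem_d D).1 (Finset.mem_filter.1 hf).1).1
        ((mem_d D).1 (Finset.mem_filter.1 hf').1).1 e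
    · intro f hf
      obtain ⟨hD, hp⟩ := Finset.mem_filter.1 hf
      have hlt := ((mem_d D).1 hD).1
      have e := (Coord.co_inv D.frame D.coord hc hlt).2
      refine ⟨cO c⁻¹ f, Finset.mem_filter.2 ⟨(d_image D (inv_mem hc) hlt).2 hD, ?_⟩, e⟩
      rw [← Coord.par_co D.frame D.coord hc _ (by norm_num : (40 : Nat) < 2048), e]
      exact hp
  have h : ∑ m ∈ YS, ((DS).filter fun f => par m f = true).card =
      ∑ f ∈ DS, ((YS).filter fun m => par m f = true).card := by
    simp only [Finset.card_filter]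
    exact Finset.sum_comm
  rw [Finset.sum_congr rfl hrow, Finset.sum_congr rfl hcol, Finset.sum_const, Finset.sum_const, smul_eq_mul,
    smul_eq_mul, hYc, (params D).1] at h
  omega

end Ctx

end CfsgLib.Recog.CoOneCode
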