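import Cfsg.Agent.Lib.Recog.CoOneCode.Bound
import Cfsg.Agent.Lib.Core.Gaschutz

/-!
A subgroup of order `2 ^ 10` of the normalizer meeting the elementary abelian subgroup trivially, and the
splitting (owner: helper8).
-/

set_option autoImplicit false
set_option linter.unusedSectionVars false
set_option linter.unusedVariables false
set_option quotPrecheck false
set_option maxRecDepth 100000
set_option maxHeartbeats 800000
set_option Elab.async false

namespace CfsgLib.Recog.CoOneCode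

open scoped Pointwise
open CfsgLib.Recog.CoOneType CfsgLib.Recog.CoOneFive CfsgLib.ThreeTrans

/-- The three root maps. -/
def rootL (n : Nat) : List Nat :=
  [[1, 10, 5, 8, 16, 32, 64, 128], [1, 2, 4, 40, 20, 32, 64, 128], [1, 2, 4, 8, 16, 160, 80, 128]].getD n one

/-- Pairs carrying the standard root to the three roots. -/
def rootPairs (n : Nat) : List (Nat × Nat) :=
  [[(14, 54), (7, 12)], [(19, 48), (3, 50)], [(121, 182), (35, 78)]].getD n []

/-- The maps of the conjugates of the middle root under the outer two. -/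
def nuL (n : Nat) : List Nat :=
  [rootL 1, comp (comp (rootL 0) (rootL 1)) (rootL 0), comp (comp (rootL 2) (rootL 1)) (rootL 2),
    comp (comp (rootL 0) (comp (comp (rootL 2) (rootL 1)) (rootL 2))) (rootL 0)].getD n one

/-- The map of a product of roots. -/
def rootWord (y s : Nat) : List Nat :=
  comp (comp (comp (comp (comp (comp one (bif y.testBit 0 then nuL 0 else one)) (bif y.testBit 1 then nuL 1 else one))
    (bif y.testBit 2 then nuL 2 else one)) (bif y.testBit 3 then nuL 3 else one))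
    (bif s.testBit 0 then rootL 0 else one)) (bif s.testBit 1 then rootL 2 else one)

theorem root_facts :
    ((List.range 3).all fun n => ((rootPairs n).all fun de => decide (de.1 < 256) && decide (de.2 < 256) && qb de.1 &&
        qb de.2 && bb de.1 de.2) &&
      (app (pmap (rootPairs n)) 1 == 2 ^ (2 * n + 3)) && (app (pmap (rootPairs n)) 4 == 2 ^ (2 * n)) &&
      (comp (pmap (rootPairs n)) (rho 4) == comp (rootL n) (pmap (rootPairs n))) && ((rootL n).length == 8) &&
      (List.range 256).all fun v => (v &&& 85 == v) == (app (rootL n) v &&& 85 == app (rootL n) v)) = true ∧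
    (app (pmap [(48, 224)]) 0 = 0 ∧ (List.range 256).all (fun v =>
      (v &&& 165 == v) == (app (pmap [(48, 224)]) v &&& 85 == app (pmap [(48, 224)]) v)) = true ∧
      (List.range 256).all (fun v => !(v &&& 165 == v) || (!bb v 32 && !bb 4 v &&
        (app (rootL 0) v &&& 165 == app (rootL 0) v) && (app (rootL 2) v &&& 165 == app (rootL 2) v))) = true) ∧
    (app (pmap [(12, 200)]) 0 = 0 ∧ (List.range 256).all (fun v =>
      (v &&& 153 == v) == (app (pmap [(12, 200)]) v &&& 85 == app (pmap [(12, 200)]) v)) = true ∧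
      (List.range 256).all (fun v => !(v &&& 153 == v) || (!bb v 8 && !bb 1 v && !bb v 128 && !bb 16 v)) = true) ∧
    ([(48, 224), (12, 200)] : List (Nat × Nat)).all (fun de => decide (de.1 < 256) && decide (de.2 < 256) &&
      qb de.1 && qb de.2 && bb de.1 de.2) = true := by
  decide +kernel

theorem rootWord_facts :
    ((List.range 16).all fun y => (List.range 4).all fun s =>
      ((List.range 16).all fun y' => (List.range 4).all fun s' =>
        !(rootWord y s == rootWord y' s') || (y == y' && s == s')) &&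
      ((List.range 64).all fun t => !(rootWord y s == rmap t) || (y == 0 && s == 0))) = true := by
  decide +kernel

variable {G : Type*} [Group G] [Finite G] {z : G} {Q : Subgroup G} {p : G → Nat} {k u : G} {a r : Nat → G} {g : G}

/-- Commuting involutions generate an elementary abelian group. -/
theorem elem_closure {S : Set G} (h2 : ∀ x ∈ S, x * x = 1) (hc : ∀ x ∈ S, ∀ y ∈ S, Commute x y) :
    Cfsg.IsElementaryAbelian 2 (Subgroup.closure S) := by
  have hcomm : ∀ x ∈ Subgroup.closure S, ∀ y ∈ Subgroup.closure S, Commute x y := by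
    have h1 : Subgroup.closure S ≤ Subgroup.centralizer S :=
      (Subgroup.closure_le _).2 fun x hx => Subgroup.mem_centralizer_iff.2 fun y hy => (hc y hy x hx).eq
    intro x hx y hy
    have h' : Subgroup.closure S ≤ Subgroup.centralizer ({x} : Set G) :=
      (Subgroup.closure_le _).2 fun s hs =>
        mem_centralizer_singleton_iff'.2 (Subgroup.mem_centralizer_iff.1 (h1 hx) s hs)
    exact (mem_centralizer_singleton_iff'.1 (h' hy) : y * x = x * y).symm
  refine ⟨⟨⟨fun x y => Subtype.ext (hcomm _ x.2 _ y.2)⟩⟩, fun x hx => ?_⟩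
  let H : Subgroup G :=
    { carrier := {w | w ∈ Subgroup.closure S ∧ w * w = 1}
      one_mem' := ⟨one_mem _, one_mul 1⟩
      mul_mem' := fun {a b} ha hb => ⟨mul_mem ha.1 hb.1, by
        rw [mul_assoc, ← mul_assoc b, (hcomm _ hb.1 _ ha.1).eq, mul_assoc a b b, hb.2, mul_one, ha.2]⟩
      inv_mem' := fun {a} ha => ⟨inv_mem ha.1, by rw [← mul_inv_rev, ha.2, inv_one]⟩ }
  rw [pow_two]
  exact ((Subgroup.closure_le H).2 (fun s hs => ⟨Subgroup.subset_closure hs, h2 s hs⟩) hx).2

/-- The subgroup generated by `K` commuting involutions. -/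
def elGrp (g : Nat → G) (K : Nat) : Subgroup G := Subgroup.closure {x | ∃ i < K, g i = x}

theorem elGrp_gen {g : Nat → G} {K i : Nat} (hi : i < K) : g i ∈ elGrp g K :=
  Subgroup.subset_closure ⟨i, hi, rfl⟩

theorem elGrp_le {g : Nat → G} {K : Nat} {H : Subgroup G} (h : ∀ i < K, g i ∈ H) : elGrp g K ≤ H :=
  (Subgroup.closure_le H).2 (by rintro x ⟨i, hi, rfl⟩; exact h i hi)

theorem elGrp_norm {g : Nat → G} {K : Nat} {c : G} (hcc : c * c = 1) (h : ∀ i < K, c * g i * c⁻¹ ∈ elGrp g K) :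
    c ∈ Subgroup.normalizer (elGrp g K : Set G) := by
  have hle : ∀ x ∈ elGrp g K, c * x * c⁻¹ ∈ elGrp g K := by
    intro x hx
    have : (elGrp g K).map (MulAut.conj c).toMonoidHom ≤ elGrp g K := by
      rw [Subgroup.map_le_iff_le_comap]
      exact elGrp_le fun i hi => h i hi
    exact this ⟨x, hx, rfl⟩
  refine Subgroup.mem_normalizer_iff.2 fun x => ⟨hle x, fun hx => ?_⟩
  have := hle _ hx
  rwa [show c * (c * x * c⁻¹) * c⁻¹ = c * c * x * (c * c)⁻¹ by group, hcc, one_mul, inv_one, mul_one] at this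

theorem elGrp_repr {g : Nat → G} {K : Nat} (h2 : ∀ i < K, g i * g i = 1)
    (hc : ∀ i < K, ∀ j < K, Commute (g i) (g j)) {x : G} (hx : x ∈ elGrp g K) : ∃ n < 2 ^ K, elN g n K = x := by
  have hel : Cfsg.IsElementaryAbelian 2 (elGrp g K) :=
    elem_closure (by rintro x ⟨i, hi, rfl⟩; exact h2 i hi)
      (by rintro x ⟨i, hi, rfl⟩ y ⟨j, hj, rfl⟩; exact hc i hi j hj)
  let H : Subgroup G :=
    { carrier := {w | ∃ n < 2 ^ K, elN g n K = w}
      one_mem' := ⟨0, Nat.two_pow_pos K, by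
        have h0 : ∀ K, elN g 0 K = 1 := by
          intro K
          induction K with
          | zero => rfl
          | succ K ih => simp [elN, ih]
        exact h0 K⟩
      mul_mem' := by
        rintro x y ⟨m, hm, rfl⟩ ⟨n, hn, rfl⟩
        exact ⟨m ^^^ n, Nat.xor_lt_two_pow hm hn, elN_xor hel (fun i hi => elGrp_gen hi) m n⟩
      inv_mem' := by
        rintro x ⟨n, hn, rfl⟩
        refine ⟨n, hn, (inv_eq_of_mul_eq_one_right ?_).symm⟩
        rw [← pow_two]
        exact hel.2 _ (elN_mem (fun i hi => elGrp_gen hi) n) }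
  refine (elGrp_le (H := H) fun i hi => ⟨2 ^ i, Nat.pow_lt_pow_right (by norm_num) hi, ?_⟩) hx
  have key : ∀ L, elN g (2 ^ i) L = if i < L then g i else 1 := by
    intro L
    induction L with
    | zero => simp [elN]
    | succ L ih =>
      simp only [elN, ih, Nat.testBit_two_pow]
      rcases lt_trichotomy i L with h | h | h
      · rw [if_pos h, if_pos (Nat.lt_succ_of_lt h), decide_eq_false h.ne]; exact mul_one _
      · subst h; rw [if_neg (lt_irrefl _), if_pos (Nat.lt_succ_self _), decide_eq_true rfl]; exact one_mul _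
      · rw [if_neg (not_lt.2 h.le), if_neg (by omega), decide_eq_false h.ne']; exact one_mul _
  rw [key K, if_pos hi]

namespace Ctx

variable (D : Ctx z Q p k a r g)
include D

local notation "X" => k * z * k⁻¹
local notation "NN" => Subgroup.normalizer (cGrp Q p 85 : Set G)

/-- A root element with exact action on a chosen lift of its vector. -/
theorem exists_root {n : Nat} (hn : n < 3) {φ : G} (hφ : φ ∈ Q) (hpφ : p φ = 2 ^ (2 * n + 3)) :
    ∃ t : G, t ∈ NN ∧ Commute t z ∧ t * t = 1 ∧ Acts z Q p t (rootL n) ∧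
      ∀ q ∈ Q, bb (p q) (p φ) = false → t * q * t⁻¹ = (bif bb (2 ^ (2 * n)) (p q) then φ else 1) * q := by
  have F := D.frame
  have h := List.all_eq_true.1 root_facts.1 n (List.mem_range.2 hn)
  simp only [Bool.and_eq_true, beq_iff_eq] at h
  obtain ⟨⟨⟨⟨⟨hl, h1⟩, h4⟩, hcm⟩, hlen⟩, hpres⟩ := h
  obtain ⟨hpl, d0, hd0⟩ := Sys.acts_pairs F.sys _ hl
  set M := pmap (rootPairs n) with hM
  -- fix the sign
  obtain ⟨d, hd, hY⟩ : ∃ d, Acts z Q p d M ∧ d * X * d⁻¹ = z * φ := by
    have hY0 := F.sys.large.conj_mem hd0.1 F.memQ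
    have hpY : p (d0 * X * d0⁻¹) = p φ := by rw [hd0.2 _ F.memQ, F.px, h1, hpφ]
    obtain ⟨i, hi⟩ := F.sys.eq_of_p hY0 hφ hpY
    cases i
    · rw [show sg z false = 1 from rfl, mul_one] at hi
      obtain ⟨q, hq, hpq⟩ := F.sys.surj (2 ^ (2 * n + 2)) (by interval_cases n <;> norm_num)
      refine ⟨q * d0, ⟨(F.sys.large.commute_z hq).mul_left hd0.1, fun x hx => ?_⟩, ?_⟩
      · rw [show q * d0 * x * (q * d0)⁻¹ = q * (d0 * x * d0⁻¹) * q⁻¹ by group,
          F.sys.p_conj_q (F.sys.large.conj_mem hd0.1 hx) hq, hd0.2 x hx]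
      · rw [show q * d0 * X * (q * d0)⁻¹ = q * (d0 * X * d0⁻¹) * q⁻¹ by group, F.sys.conj_eq hY0 hq, hpY, ← hi,
          hpq, hpφ, show bb (2 ^ (2 * n + 2)) (2 ^ (2 * n + 3)) = true by interval_cases n <;> decide +kernel]
        exact (F.sys.large.commute_z hφ).eq
    · refine ⟨d0, hd0, ?_⟩
      rw [hi, show sg z true = z from rfl, (F.sys.large.commute_z hY0).eq, ← mul_assoc z z,
        F.sys.large.mul_self_z, one_mul]
  obtain ⟨s4, -, -, -, -, -, -, -, -, -⟩ := lift_numbers
  obtain ⟨hs, hsz, hsA⟩ := F.sOf_spec s4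
  have hss : sOf z Q p k 4 * sOf z Q p k 4 = 1 := by
    rw [F.sq_eq s4 hs hsz hsA, show qb 4 = false by decide +kernel]; rfl
  have htA := F.sys.acts_conj hpl (length_rho 4) hlen hd hsA hcm
  refine ⟨d * sOf z Q p k 4 * d⁻¹, Coord.acts_norm F D.coord htA (fun v hv => ?_), htA.1, conj_sq_one hss d, htA,
    fun q hq hb => ?_⟩
  · have := List.all_eq_true.1 hpres v (List.mem_range.2 hv)
    rw [beq_iff_eq, Bool.eq_iff_iff, beq_iff_eq, beq_iff_eq] at this
    exact this
  · have hb' : d⁻¹ * q * d ∈ Q := by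
      have := F.sys.large.conj_mem hd.1.inv_left hq
      rwa [inv_inv] at this
    obtain ⟨B, hB, hBd⟩ := F.sys.exists_acts hd.1
    have eB : B = M := F.sys.acts_unique hB.1 hpl hBd hd
    subst eB
    have himg : app M (p (d⁻¹ * q * d)) = p q := by
      rw [← hBd.2 _ hb']
      congr 1
      group
    have hlt := F.sys.lt _ hb'
    have e1 : bb (p (d⁻¹ * q * d)) 1 = false := by
      rw [← hB.bb_app hlt (by norm_num), himg, h1, ← hpφ]
      exact hb
    have e4 : bb 4 (p (d⁻¹ * q * d)) = bb (2 ^ (2 * n)) (p q) := by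
      rw [← hB.bb_app (by norm_num) hlt, himg, h4]
    have e := F.commutator_eq s4 hs hsz hsA hb' e1
    rw [e4] at e
    set b := bb (2 ^ (2 * n)) (p q)
    have hpair : d * (sg z b * sg X b) * d⁻¹ = bif b then φ else 1 := by
      cases b
      · simp [sg]
      · show d * (z * X) * d⁻¹ = φ
        rw [show d * (z * X) * d⁻¹ = d * z * d⁻¹ * (d * X * d⁻¹) by group, hY, hd.1.eq, mul_inv_cancel_right,
          ← mul_assoc, F.sys.large.mul_self_z, one_mul]
    calc d * sOf z Q p k 4 * d⁻¹ * q * (d * sOf z Q p k 4 * d⁻¹)⁻¹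
        = d * (sOf z Q p k 4 * (d⁻¹ * q * d) * (sOf z Q p k 4)⁻¹ * (d⁻¹ * q * d)⁻¹) * d⁻¹ * q := by group
      _ = _ := by rw [e, hpair]

/-- The conjugates of the subgroup. -/
theorem conj_abelian {m : Nat} {de : Nat × Nat}
    (hde : (decide (de.1 < 256) && decide (de.2 < 256) && qb de.1 && qb de.2 && bb de.1 de.2) = true)
    (hm : (List.range 256).all (fun v => (v &&& m == v) == (app (pmap [de]) v &&& 85 == app (pmap [de]) v)) = true)
    {x y : G} (hx : x ∈ cGrp Q p m) (hy : y ∈ cGrp Q p m) : Commute x y := by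
  have F := D.frame
  obtain ⟨-, c, hc⟩ := Sys.acts_pairs F.sys [de] (by simpa using hde)
  have key : ∀ w ∈ cGrp Q p m, c * w * c⁻¹ ∈ cGrp Q p 85 := by
    intro w hw
    refine mem_cGrp.2 fun e he hm' => ?_
    have hb : c⁻¹ * e * c ∈ Q := by
      have := F.sys.large.conj_mem hc.1.inv_left he
      rwa [inv_inv] at this
    have hp : app (pmap [de]) (p (c⁻¹ * e * c)) = p e := by
      rw [← hc.2 _ hb]
      congr 1
      group
    have h := List.all_eq_true.1 hm _ (List.mem_range.2 (F.sys.lt _ hb))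
    rw [beq_iff_eq, Bool.eq_iff_iff, beq_iff_eq, beq_iff_eq] at h
    have hcm := mem_cGrp.1 hw _ hb (h.2 (by rw [hp, hm']))
    refine mul_inv_eq_iff_eq_mul.1 ?_
    calc c * w * c⁻¹ * e * (c * w * c⁻¹)⁻¹ = c * (w * (c⁻¹ * e * c) * w⁻¹) * c⁻¹ := by group
      _ = e := by rw [hcm.eq]; group
  exact (Commute.conj_iff c).1 (congrArg Subtype.val (D.coord.elem.1.1.1 ⟨_, key x hx⟩ ⟨_, key y hy⟩))

theorem exists_partial : ∃ H : Subgroup G, H ≤ NN ∧ Nat.card H = 1024 ∧ H ⊓ cGrp Q p 85 = ⊥ := by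
  classical
  have F := D.frame
  -- the four lifts
  let φ : Nat → G := fun i => aOf Q p (2 ^ (2 * i + 1))
  have hφ : ∀ i < 4, φ i ∈ Q ∧ p (φ i) = 2 ^ (2 * i + 1) := fun i hi =>
    F.aOf_spec (show 2 ^ (2 * i + 1) < 256 by interval_cases i <;> norm_num)
  have hφbb : ∀ i < 4, ∀ j < 4, bb (2 ^ (2 * i + 1)) (2 ^ (2 * j + 1)) = false ∧ qb (2 ^ (2 * i + 1)) = false := by
    decide +kernel
  have hφsq : ∀ i < 4, φ i * φ i = 1 := fun i hi => by
    rw [F.sys.sq _ (hφ i hi).1, (hφ i hi).2, (hφbb i hi i hi).2]; rfl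
  have hφc : ∀ i < 4, ∀ j < 4, Commute (φ i) (φ j) := fun i hi j hj =>
    (F.sys.commute_iff (hφ i hi).1 (hφ j hj).1).2 (by rw [(hφ i hi).2, (hφ j hj).2]; exact (hφbb i hi j hj).1)
  -- the roots
  obtain ⟨ta, taN, taz, ta2, taA, taq⟩ := exists_root D (n := 0) (by norm_num) (hφ 1 (by norm_num)).1 (hφ 1 (by norm_num)).2
  obtain ⟨tb, tbN, tbz, tb2, tbA, tbq⟩ := exists_root D (n := 1) (by norm_num) (hφ 2 (by norm_num)).1 (hφ 2 (by norm_num)).2
  obtain ⟨tc, tcN, tcz, tc2, tcA, tcq⟩ := exists_root D (n := 2) (by norm_num) (hφ 3 (by norm_num)).1 (hφ 3 (by norm_num)).2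
  obtain ⟨-, ⟨-, h165, w165⟩, ⟨-, h153, w153⟩, hpairs⟩ := root_facts
  simp only [List.all_cons, List.all_nil, Bool.and_true, Bool.and_eq_true] at hpairs
  have w5 : ∀ e ∈ Q, p e &&& 165 = p e → bb (p e) 32 = false ∧ bb 4 (p e) = false ∧
      app (rootL 0) (p e) &&& 165 = app (rootL 0) (p e) ∧ app (rootL 2) (p e) &&& 165 = app (rootL 2) (p e) := by
    intro e he hm
    have := List.all_eq_true.1 w165 (p e) (List.mem_range.2 (F.sys.lt e he))
    simp only [hm, beq_self_eq_true, Bool.not_true, Bool.false_or, Bool.and_eq_true, Bool.not_eq_true',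
      beq_iff_eq] at this
    exact ⟨this.1.1.1, this.1.1.2, this.1.2, this.2⟩
  have w3 : ∀ e ∈ Q, p e &&& 153 = p e →
      bb (p e) 8 = false ∧ bb 1 (p e) = false ∧ bb (p e) 128 = false ∧ bb 16 (p e) = false := by
    intro e he hm
    have := List.all_eq_true.1 w153 (p e) (List.mem_range.2 (F.sys.lt e he))
    simp only [hm, beq_self_eq_true, Bool.not_true, Bool.false_or, Bool.and_eq_true, Bool.not_eq_true'] at this
    exact ⟨this.1.1.1, this.1.1.2, this.1.2, this.2⟩
  -- the two outer roots commute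
  have hac : Commute ta tc := by
    refine conj_abelian D (by decide +kernel) h153 (mem_cGrp.2 fun e he hm => ?_) (mem_cGrp.2 fun e he hm => ?_)
    · obtain ⟨b1, b2, -, -⟩ := w3 e he hm
      have := taq e he (by rw [(hφ 1 (by norm_num)).2]; exact b1)
      rw [show (2 : Nat) ^ (2 * 0) = 1 from rfl, b2, cond_false, one_mul] at this
      exact mul_inv_eq_iff_eq_mul.1 this
    · obtain ⟨-, -, b3, b4⟩ := w3 e he hm
      have := tcq e he (by rw [(hφ 3 (by norm_num)).2]; exact b3)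
      rw [show (2 : Nat) ^ (2 * 2) = 16 from rfl, b4, cond_false, one_mul] at this
      exact mul_inv_eq_iff_eq_mul.1 this
  -- the middle root and its conjugates
  have hb5 : tb ∈ cGrp Q p 165 := mem_cGrp.2 fun e he hm => by
    obtain ⟨b1, b2, -, -⟩ := w5 e he hm
    have := tbq e he (by rw [(hφ 2 (by norm_num)).2]; exact b1)
    rw [show (2 : Nat) ^ (2 * 1) = 4 from rfl, b2, cond_false, one_mul] at this
    exact mul_inv_eq_iff_eq_mul.1 this
  have conj5 : ∀ t L, Acts z Q p t L → t * t = 1 →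
      (∀ e ∈ Q, p e &&& 165 = p e → app L (p e) &&& 165 = app L (p e)) →
      ∀ x ∈ cGrp Q p 165, t * x * t⁻¹ ∈ cGrp Q p 165 := by
    intro t L hA htt hL x hx
    refine mem_cGrp.2 fun e he hm => ?_
    have hti : t⁻¹ = t := inv_eq_of_mul_eq_one_right htt
    have hb : t * e * t⁻¹ ∈ Q := F.sys.large.conj_mem hA.1 he
    have hcm := mem_cGrp.1 hx _ hb (by rw [hA.2 e he]; exact hL e he hm)
    rw [hti] at hcm ⊢
    refine mul_inv_eq_iff_eq_mul.1 ?_
    calc t * x * t * e * (t * x * t)⁻¹ = t * (x * (t * e * t⁻¹) * x⁻¹) * t⁻¹ := by group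
      _ = t * (t * e * t) * t⁻¹ := by rw [hti, hcm.eq, mul_inv_cancel_right]
      _ = t * t * e * (t * t⁻¹) := by group
      _ = e := by rw [htt, mul_inv_cancel, one_mul, mul_one]
  have mb := conj5 ta _ taA ta2 (fun e he hm => (w5 e he hm).2.2.1)
  have mc := conj5 tc _ tcA tc2 (fun e he hm => (w5 e he hm).2.2.2)
  let ν : Nat → G := fun i => [tb, ta * tb * ta⁻¹, tc * tb * tc⁻¹, ta * (tc * tb * tc⁻¹) * ta⁻¹].getD i 1
  have hν : ∀ i < 4, ν i ∈ cGrp Q p 165 ∧ ν i * ν i = 1 ∧ Acts z Q p (ν i) (nuL i) ∧ ν i ∈ NN := by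
    have inv' : ∀ {t : G}, t * t = 1 → t⁻¹ = t := fun h => inv_eq_of_mul_eq_one_right h
    have A1 := F.sys.acts_mul (show (rootL 0).length = 8 from rfl)
      (F.sys.acts_mul (show (rootL 1).length = 8 from rfl) taA tbA) taA
    have A2 := F.sys.acts_mul (show (rootL 2).length = 8 from rfl)
      (F.sys.acts_mul (show (rootL 1).length = 8 from rfl) tcA tbA) tcA
    have A3 := F.sys.acts_mul (show (rootL 0).length = 8 from rfl)
      (F.sys.acts_mul (show (comp (comp (rootL 2) (rootL 1)) (rootL 2)).length = 8 from rfl) taA A2) taA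
    intro i hi
    interval_cases i
    · exact ⟨hb5, tb2, tbA, tbN⟩
    · exact ⟨mb tb hb5, conj_sq_one tb2 ta, by rw [show ν 1 = ta * tb * ta from by simp [ν, inv' ta2]]; exact A1,
        mul_mem (mul_mem taN tbN) (inv_mem taN)⟩
    · exact ⟨mc tb hb5, conj_sq_one tb2 tc, by rw [show ν 2 = tc * tb * tc from by simp [ν, inv' tc2]]; exact A2,
        mul_mem (mul_mem tcN tbN) (inv_mem tcN)⟩
    · exact ⟨mb _ (mc tb hb5), conj_sq_one (conj_sq_one tb2 tc) ta,
        by rw [show ν 3 = ta * (tc * tb * tc) * ta from by simp [ν, inv' ta2, inv' tc2]]; exact A3,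
        mul_mem (mul_mem taN (mul_mem (mul_mem tcN tbN) (inv_mem tcN))) (inv_mem taN)⟩
  have hνc : ∀ i < 4, ∀ j < 4, Commute (ν i) (ν j) := fun i hi j hj =>
    conj_abelian D (by decide +kernel) h165 (hν i hi).1 (hν j hj).1
  let σ : Nat → G := fun i => [ta, tc].getD i 1
  have hσ : ∀ i < 2, σ i * σ i = 1 ∧ σ i ∈ NN ∧ Commute (σ i) z := by
    intro i hi
    interval_cases i
    exacts [⟨ta2, taN, taz⟩, ⟨tc2, tcN, tcz⟩]
  have hσc : ∀ i < 2, ∀ j < 2, Commute (σ i) (σ j) := by
    intro i hi j hj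
    interval_cases i <;> interval_cases j
    exacts [Commute.refl _, hac, hac.symm, Commute.refl _]
  set Fg := elGrp φ 4 with hFg
  set Ng := elGrp ν 4 with hNg
  set Sg := elGrp σ 2 with hSg
  -- normalization
  have normF : ∀ (t : G) (n : Nat), n < 3 → t * t = 1 →
      (∀ q ∈ Q, bb (p q) (p (φ (n + 1))) = false →
        t * q * t⁻¹ = (bif bb (2 ^ (2 * n)) (p q) then φ (n + 1) else 1) * q) →
      t ∈ Subgroup.normalizer (Fg : Set G) := by
    intro t n hn htt ht
    refine elGrp_norm htt fun i hi => ?_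
    rw [ht _ (hφ i hi).1 (by rw [(hφ i hi).2, (hφ (n + 1) (by omega)).2]; exact (hφbb i hi (n + 1) (by omega)).1)]
    refine mul_mem ?_ (elGrp_gen hi)
    cases bb (2 ^ (2 * n)) (p (φ i))
    exacts [one_mem _, elGrp_gen (g := φ) (show n + 1 < 4 by omega)]
  have naF := normF ta 0 (by norm_num) ta2 taq
  have nbF := normF tb 1 (by norm_num) tb2 tbq
  have ncF := normF tc 2 (by norm_num) tc2 tcq
  have hNF : Ng ≤ Subgroup.normalizer (Fg : Set G) := elGrp_le fun i hi => by
    interval_cases i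
    exacts [nbF, mul_mem (mul_mem naF nbF) (inv_mem naF), mul_mem (mul_mem ncF nbF) (inv_mem ncF),
      mul_mem (mul_mem naF (mul_mem (mul_mem ncF nbF) (inv_mem ncF))) (inv_mem naF)]
  have hSF : Sg ≤ Subgroup.normalizer (Fg : Set G) := elGrp_le fun i hi => by
    interval_cases i
    exacts [naF, ncF]
  have gn : ∀ i < 4, ν i ∈ Ng := fun i hi => elGrp_gen hi
  have hti : ∀ {t : G}, t * t = 1 → ∀ x : G, t * (t * x * t⁻¹) * t⁻¹ = x := fun {t} h x => by
    rw [show t * (t * x * t⁻¹) * t⁻¹ = t * t * x * (t * t)⁻¹ by group, h, one_mul, inv_one, mul_one]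
  have swap : ∀ x : G, tc * (ta * x * ta⁻¹) * tc⁻¹ = ta * (tc * x * tc⁻¹) * ta⁻¹ := fun x => by
    rw [show tc * (ta * x * ta⁻¹) * tc⁻¹ = tc * ta * x * (tc * ta)⁻¹ by group, ← hac.eq]
    group
  have hSN : Sg ≤ Subgroup.normalizer (Ng : Set G) := elGrp_le fun i hi => by
    interval_cases i
    · refine elGrp_norm ta2 fun j hj => ?_
      interval_cases j
      · exact gn 1 (by norm_num)
      · show ta * (ta * tb * ta⁻¹) * ta⁻¹ ∈ Ng
        rw [hti ta2]; exact gn 0 (by norm_num)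
      · exact gn 3 (by norm_num)
      · show ta * (ta * (tc * tb * tc⁻¹) * ta⁻¹) * ta⁻¹ ∈ Ng
        rw [hti ta2]; exact gn 2 (by norm_num)
    · refine elGrp_norm tc2 fun j hj => ?_
      interval_cases j
      · exact gn 2 (by norm_num)
      · show tc * (ta * tb * ta⁻¹) * tc⁻¹ ∈ Ng
        rw [swap]; exact gn 3 (by norm_num)
      · show tc * (tc * tb * tc⁻¹) * tc⁻¹ ∈ Ng
        rw [hti tc2]; exact gn 0 (by norm_num)
      · show tc * (ta * (tc * tb * tc⁻¹) * ta⁻¹) * tc⁻¹ ∈ Ng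
        rw [swap, hti tc2]; exact gn 1 (by norm_num)
  set H := Fg ⊔ (Ng ⊔ Sg) with hH
  have hmulNS : ((Ng ⊔ Sg : Subgroup G) : Set G) = (Ng : Set G) * (Sg : Set G) :=
    Subgroup.coe_mul_of_right_le_normalizer_left Ng Sg hSN
  have hmulH : (H : Set G) = (Fg : Set G) * ((Ng ⊔ Sg : Subgroup G) : Set G) :=
    Subgroup.coe_mul_of_right_le_normalizer_left Fg _ (sup_le hNF hSF)
  have hrepr : ∀ w ∈ H, ∃ x < 16, ∃ y < 16, ∃ s < 4, w = elN φ x 4 * (elN ν y 4 * elN σ s 2) := by
    intro w hw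
    have hw' : w ∈ (H : Set G) := hw
    rw [hmulH, hmulNS] at hw'
    obtain ⟨f, hf, m, ⟨n, hn, s, hs, rfl⟩, rfl⟩ := hw'
    obtain ⟨x, hx, rfl⟩ := elGrp_repr hφsq hφc hf
    obtain ⟨y, hy, rfl⟩ := elGrp_repr (fun i hi => (hν i hi).2.1) hνc hn
    obtain ⟨s', hs', rfl⟩ := elGrp_repr (fun i hi => (hσ i hi).1) hσc hs
    exact ⟨x, hx, y, hy, s', hs', rfl⟩
  have hpx : ∀ x < 16, elN φ x 4 ∈ Q ∧ p (elN φ x 4) = wsp x := by
    intro x hx
    have hm := fun K (hK : K ≤ 4) => elN_mem (H := Q) (g := φ) (fun i (hi : i < K) => (hφ i (by omega)).1) x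
    refine ⟨hm 4 le_rfl, ?_⟩
    have pb : ∀ i < 4, p (bif x.testBit i then φ i else 1) = sel x i (2 ^ (2 * i + 1)) := by
      intro i hi
      rw [sel]
      cases x.testBit i
      · exact F.sys.p_one
      · exact (hφ i hi).2
    have step : ∀ i < 4, p (elN φ x (i + 1)) = p (elN φ x i) ^^^ sel x i (2 ^ (2 * i + 1)) := by
      intro i hi
      rw [← pb i hi]
      refine F.sys.map_mul _ (hm i (by omega)) _ ?_
      cases x.testBit i
      exacts [Q.one_mem, (hφ i hi).1]
    rw [step 3 (by norm_num), step 2 (by norm_num), step 1 (by norm_num), step 0 (by norm_num),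
      show p (elN φ x 0) = 0 from F.sys.p_one, Nat.zero_xor]
    rfl
  have hacts : ∀ y s, Acts z Q p (elN ν y 4 * elN σ s 2) (rootWord y s) := by
    intro y s
    have one' : ∀ (b : Bool) (t : G) (L : List Nat), L.length = 8 → Acts z Q p t L →
        Acts z Q p (bif b then t else 1) (bif b then L else one) ∧ (bif b then L else one).length = 8 := by
      intro b t L hl ht
      cases b
      exacts [⟨F.sys.acts_one, rfl⟩, ⟨ht, hl⟩]
    obtain ⟨c0, l0⟩ := one' (y.testBit 0) _ (nuL 0) rfl (hν 0 (by norm_num)).2.2.1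
    obtain ⟨c1, l1⟩ := one' (y.testBit 1) _ (nuL 1) rfl (hν 1 (by norm_num)).2.2.1
    obtain ⟨c2, l2⟩ := one' (y.testBit 2) _ (nuL 2) rfl (hν 2 (by norm_num)).2.2.1
    obtain ⟨c3, l3⟩ := one' (y.testBit 3) _ (nuL 3) rfl (hν 3 (by norm_num)).2.2.1
    obtain ⟨d0, k0⟩ := one' (s.testBit 0) ta (rootL 0) rfl taA
    obtain ⟨d1, k1⟩ := one' (s.testBit 1) tc (rootL 2) rfl tcA
    have := F.sys.acts_mul k1 (F.sys.acts_mul k0 (F.sys.acts_mul l3 (F.sys.acts_mul l2 (F.sys.acts_mul l1
      (F.sys.acts_mul l0 F.sys.acts_one c0) c1) c2) c3) d0) d1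
    simp only [elN, mul_assoc, one_mul] at this ⊢
    exact this
  have hfull : ∀ x y s, x < 16 → Acts z Q p (elN φ x 4 * (elN ν y 4 * elN σ s 2)) (rootWord y s) := by
    intro x y s hx
    refine ⟨(F.sys.large.commute_z (hpx x hx).1).mul_left (hacts y s).1, fun e he => ?_⟩
    set w := elN ν y 4 * elN σ s 2
    rw [show elN φ x 4 * w * e * (elN φ x 4 * w)⁻¹ = elN φ x 4 * (w * e * w⁻¹) * (elN φ x 4)⁻¹ by group,
      F.sys.p_conj_q (F.sys.large.conj_mem (hacts y s).1 he) (hpx x hx).1, (hacts y s).2 e he]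
  have hlenW : ∀ y s, (rootWord y s).length = 8 := by
    intro y s
    show (comp _ _).length = 8
    rw [length_comp]
    cases s.testBit 1 <;> rfl
  have wfacts := fun y s (hy : y < 16) (hs : s < 4) => List.all_eq_true.1 (List.all_eq_true.1 rootWord_facts y
    (List.mem_range.2 hy)) s (List.mem_range.2 hs)
  let f : Fin 16 × Fin 16 × Fin 4 → H := fun v => ⟨elN φ v.1 4 * (elN ν v.2.1 4 * elN σ v.2.2 2),
    mul_mem (Subgroup.mem_sup_left (elN_mem (fun i hi => elGrp_gen hi) _))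
      (Subgroup.mem_sup_right (mul_mem (Subgroup.mem_sup_left (elN_mem (fun i hi => elGrp_gen hi) _))
        (Subgroup.mem_sup_right (elN_mem (fun i hi => elGrp_gen hi) _))))⟩
  have hf : Function.Bijective f := by
    constructor
    · rintro ⟨x, y, s⟩ ⟨x', y', s'⟩ e
      have e' : elN φ x 4 * (elN ν y 4 * elN σ s 2) = elN φ x' 4 * (elN ν y' 4 * elN σ s' 2) :=
        congrArg Subtype.val e
      have hA := hfull x y s x.2
      rw [e'] at hA
      have h1 := F.sys.acts_unique (hlenW _ _) (hlenW _ _) hA (hfull x' y' s' x'.2)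
      have h := wfacts _ _ y.2 s.2
      simp only [Bool.and_eq_true, List.all_eq_true, List.mem_range] at h
      have h2 := h.1 y' y'.2 s' s'.2
      simp only [h1, beq_self_eq_true, Bool.not_true, Bool.false_or, Bool.and_eq_true, beq_iff_eq] at h2
      obtain rfl : y = y' := Fin.ext h2.1
      obtain rfl : s = s' := Fin.ext h2.2
      have h3 := congrArg p (mul_right_cancel e')
      rw [(hpx x x.2).2, (hpx x' x'.2).2] at h3
      have inj : ∀ x < 16, ∀ x' < 16, wsp x = wsp x' → x = x' := by decide +kernel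
      obtain rfl : x = x' := Fin.ext (inj _ x.2 _ x'.2 h3)
      rfl
    · rintro ⟨w, hw⟩
      obtain ⟨x, hx, y, hy, s, hs, rfl⟩ := hrepr w hw
      exact ⟨⟨⟨x, hx⟩, ⟨y, hy⟩, ⟨s, hs⟩⟩, rfl⟩
  refine ⟨H, ?_, by rw [← Nat.card_eq_of_bijective f hf]; simp, ?_⟩
  · refine sup_le ?_ (sup_le (elGrp_le fun i hi => (hν i hi).2.2.2) (elGrp_le fun i hi => (hσ i hi).2.1))
    exact elGrp_le fun i hi => Coord.q_norm F D.coord (hφ i hi).1
  · rw [eq_bot_iff]
    rintro w ⟨hw, hwA⟩
    obtain ⟨x, hx, y, hy, s, hs, rfl⟩ := hrepr w hw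
    obtain ⟨t, ht, htA⟩ := Sys.cGrp_acts F.sys hwA
    have h1 := F.sys.acts_unique (hlenW y s) (rmap_facts.1 t ht) (hfull x y s hx) htA
    have h := wfacts y s hy hs
    simp only [Bool.and_eq_true, List.all_eq_true, List.mem_range] at h
    have h2 := h.2 t ht
    simp only [h1, beq_self_eq_true, Bool.not_true, Bool.false_or, Bool.and_eq_true, beq_iff_eq] at h2
    obtain ⟨rfl, rfl⟩ := h2
    have e0 : elN ν 0 4 * elN σ 0 2 = 1 := by simp [elN]
    rw [e0, mul_one] at hwA ⊢
    have hm := (Sys.mem_cGrp_q F.sys (hpx x hx).1).1 hwA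
    rw [(hpx x hx).2] at hm
    have key : ∀ x < 16, wsp x &&& 85 = wsp x → x = 0 := by decide +kernel
    rw [key x hx hm, Subgroup.mem_bot]
    simp [elN]

/-- The extension splits. -/
theorem exists_complement :
    ∃ K : Subgroup ↥NN, ((cGrp Q p 85).subgroupOf NN).IsComplement' K := by
  obtain ⟨H, hHN, hH, hHA⟩ := exists_partial D
  obtain ⟨φ, hφ, hker⟩ := quotient_iso D
  set A' := (cGrp Q p 85).subgroupOf NN with hA'
  haveI : A'.Normal := hker ▸ φ.normal_ker
  haveI : IsMulCommutative A' :=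
    ⟨⟨fun x y => Subtype.ext (Subtype.ext (by
      simpa using congrArg Subtype.val
        (D.coord.elem.1.1.1 ⟨_, Subgroup.mem_subgroupOf.1 x.2⟩ ⟨_, Subgroup.mem_subgroupOf.1 y.2⟩)))⟩⟩
  set H' := H.subgroupOf NN with hH'
  have hcA : Nat.card A' = 2048 := by
    rw [hA', Nat.card_congr (Subgroup.subgroupOfEquivOfLe Subgroup.le_normalizer).toEquiv, D.coord.card]
  have hcH : Nat.card H' = 1024 := by rw [hH', Nat.card_congr (Subgroup.subgroupOfEquivOfLe hHN).toEquiv, hH]
  have hint : H' ⊓ A' = ⊥ := by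
    rw [eq_bot_iff]
    rintro x ⟨h1, h2⟩
    have : (x : G) ∈ H ⊓ cGrp Q p 85 := ⟨Subgroup.mem_subgroupOf.1 h1, Subgroup.mem_subgroupOf.1 h2⟩
    rw [hHA, Subgroup.mem_bot] at this
    exact Subgroup.mem_bot.2 (Subtype.ext this)
  have hcN : Nat.card ↥NN = 244823040 * 2048 := by
    have h1 := Subgroup.card_eq_card_quotient_mul_card_subgroup φ.ker
    rw [Nat.card_congr (QuotientGroup.quotientKerEquivOfSurjective φ hφ).toEquiv, CfsgLib.Sporadic.M24_card,
      hker, hcA] at h1
    exact h1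
  have hU : (A' ⊔ H').index = 239085 := by
    have hcard : Nat.card ↥(A' ⊔ H') = 2048 * 1024 := by
      let f : A' × H' → ↥(A' ⊔ H') := fun v => ⟨v.1.1 * v.2.1,
        mul_mem (Subgroup.mem_sup_left v.1.2) (Subgroup.mem_sup_right v.2.2)⟩
      have hf : Function.Bijective f := by
        constructor
        · rintro ⟨x, y⟩ ⟨x', y'⟩ e
          have hd : Disjoint A' H' := disjoint_iff.2 (by rw [inf_comm]; exact hint)
          exact Subgroup.mul_injective_of_disjoint hd (congrArg Subtype.val e)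
        · rintro ⟨w, hw⟩
          have hw' : w ∈ ((A' ⊔ H' : Subgroup ↥NN) : Set ↥NN) := hw
          rw [Subgroup.normal_mul] at hw'
          obtain ⟨x, hx, y, hy, rfl⟩ := hw'
          exact ⟨⟨⟨x, hx⟩, ⟨y, hy⟩⟩, rfl⟩
      rw [← Nat.card_eq_of_bijective f hf, Nat.card_prod, hcA, hcH]
    have h1 := Subgroup.card_mul_index (A' ⊔ H')
    rw [hcard, hcN] at h1
    omega
  refine CfsgLib.Core.Gaschutz.gaschutz_exists (U := A' ⊔ H') (A := H') le_sup_left ?_ hint rfl
  rw [hcA, hU]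
  norm_num

end Ctx

end CfsgLib.Recog.CoOneCode
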